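import Groth.Agent.Lib.FibCat.FibSet

/-!
# 2-fibre products over a base
-/

set_option backward.isDefEq.respectTransparency false
set_option backward.isDefEq.respectTransparency.types false

universe v₅ u₅ v₄ u₄ v₃ u₃ v₂ u₂ v u

open CategoryTheory CategoryTheory.Functor CategoryTheory.Limits

namespace GrothLib.FibCat

variable {C : Type u} [Category.{v} C]
variable {𝒳 : BasedCategory.{v₂, u₂} C} {𝒴 : BasedCategory.{v₃, u₃} C} {𝒮 : BasedCategory.{v₄, u₄} C}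
variable {F : 𝒳 ⥤ᵇ 𝒮} {G : 𝒴 ⥤ᵇ 𝒮}

namespace Fp

/-- An object of the fibre product. -/
def mk (x : 𝒳.obj) (y : 𝒴.obj) (e : F.obj x ≅ G.obj y) (he : 𝒮.p.IsHomLift (𝟙 (𝒳.p.obj x)) e.hom) :
    (_root_.FibCat.fp F G).obj :=
  ⟨{ fst := x, snd := y, iso := e }, he⟩

theorem iso_lift (a : (_root_.FibCat.fp F G).obj) : 𝒮.p.IsHomLift (𝟙 (𝒳.p.obj a.obj.fst)) a.obj.iso.hom :=
  a.property

theorem snd_proj (a : (_root_.FibCat.fp F G).obj) : 𝒴.p.obj a.obj.snd = 𝒳.p.obj a.obj.fst :=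
  have := iso_lift a
  (G.w_obj a.obj.snd).symm.trans (IsHomLift.codomain_eq 𝒮.p (𝟙 (𝒳.p.obj a.obj.fst)) a.obj.iso.hom)

/-- A morphism of the fibre product. -/
def homMk {a b : (_root_.FibCat.fp F G).obj} (f : a.obj.fst ⟶ b.obj.fst) (g : a.obj.snd ⟶ b.obj.snd)
    (w : F.map f ≫ b.obj.iso.hom = a.obj.iso.hom ≫ G.map g) : a ⟶ b :=
  ObjectProperty.homMk { fst := f, snd := g, w := w }

@[simp] theorem homMk_fst {a b : (_root_.FibCat.fp F G).obj} (f : a.obj.fst ⟶ b.obj.fst) (g : a.obj.snd ⟶ b.obj.snd) (w) :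
    (homMk f g w).hom.fst = f := rfl

@[simp] theorem homMk_snd {a b : (_root_.FibCat.fp F G).obj} (f : a.obj.fst ⟶ b.obj.fst) (g : a.obj.snd ⟶ b.obj.snd) (w) :
    (homMk f g w).hom.snd = g := rfl

theorem hom_ext {a b : (_root_.FibCat.fp F G).obj} {φ ψ : a ⟶ b} (h₁ : φ.hom.fst = ψ.hom.fst)
    (h₂ : φ.hom.snd = ψ.hom.snd) : φ = ψ :=
  ObjectProperty.hom_ext _ (CategoricalPullback.hom_ext h₁ h₂)

theorem isHomLift_iff {a b : (_root_.FibCat.fp F G).obj} (φ : a ⟶ b) {R S : C} (f : R ⟶ S) :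
    (_root_.FibCat.fp F G).p.IsHomLift f φ ↔ 𝒳.p.IsHomLift f φ.hom.fst :=
  ((_root_.FibCat.fpFst F G).isHomLift_iff f φ).symm

theorem isHomLift_snd {a b : (_root_.FibCat.fp F G).obj} (φ : a ⟶ b) {R S : C} (f : R ⟶ S)
    (h : (_root_.FibCat.fp F G).p.IsHomLift f φ) : 𝒴.p.IsHomLift f φ.hom.snd :=
  BasedFunctor.preserves_isHomLift (_root_.FibCat.fpSnd F G) f φ

/-- An isomorphism of the fibre product. -/
def isoMk {a b : (_root_.FibCat.fp F G).obj} (f : a.obj.fst ≅ b.obj.fst) (g : a.obj.snd ≅ b.obj.snd)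
    (w : F.map f.hom ≫ b.obj.iso.hom = a.obj.iso.hom ≫ G.map g.hom) : a ≅ b where
  hom := homMk f.hom g.hom w
  inv := homMk f.inv g.inv (by
    rw [← Iso.eq_comp_inv] at w
    have : G.map g.hom ≫ G.map g.inv = 𝟙 _ := by rw [← G.map_comp, g.hom_inv_id, G.map_id]
    calc F.map f.inv ≫ a.obj.iso.hom
        = F.map f.inv ≫ a.obj.iso.hom ≫ G.map g.hom ≫ G.map g.inv := by rw [this, Category.comp_id]
      _ = F.map f.inv ≫ F.map f.hom ≫ b.obj.iso.hom ≫ G.map g.inv := by rw [w]; simp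
      _ = b.obj.iso.hom ≫ G.map g.inv := by rw [← F.map_comp_assoc, f.inv_hom_id, F.map_id, Category.id_comp])
  hom_inv_id := hom_ext f.hom_inv_id g.hom_inv_id
  inv_hom_id := hom_ext f.inv_hom_id g.inv_hom_id

@[simp] theorem isoMk_hom_fst {a b : (_root_.FibCat.fp F G).obj} (f : a.obj.fst ≅ b.obj.fst)
    (g : a.obj.snd ≅ b.obj.snd) (w) : (isoMk f g w).hom.hom.fst = f.hom := rfl

@[simp] theorem isoMk_hom_snd {a b : (_root_.FibCat.fp F G).obj} (f : a.obj.fst ≅ b.obj.fst)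
    (g : a.obj.snd ≅ b.obj.snd) (w) : (isoMk f g w).hom.hom.snd = g.hom := rfl

/-- The components of an isomorphism. -/
def isoFst {a b : (_root_.FibCat.fp F G).obj} (e : a ≅ b) : a.obj.fst ≅ b.obj.fst :=
  (_root_.FibCat.fpFst F G).toFunctor.mapIso e

/-- The components of an isomorphism. -/
def isoSnd {a b : (_root_.FibCat.fp F G).obj} (e : a ≅ b) : a.obj.snd ≅ b.obj.snd :=
  (_root_.FibCat.fpSnd F G).toFunctor.mapIso e

theorem w {a b : (_root_.FibCat.fp F G).obj} (φ : a ⟶ b) :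
    F.map φ.hom.fst ≫ b.obj.iso.hom = a.obj.iso.hom ≫ G.map φ.hom.snd := φ.hom.w

theorem isFibGrpd (h𝒳 : _root_.FibCat.IsFibGrpd 𝒳.p) (h𝒴 : _root_.FibCat.IsFibGrpd 𝒴.p)
    (h𝒮 : _root_.FibCat.IsFibGrpd 𝒮.p) : _root_.FibCat.IsFibGrpd (_root_.FibCat.fp F G).p := by
  constructor
  · intro a V f
    obtain ⟨x', φ, hφ⟩ := IsFibGrpd.exists_lift_of_eq h𝒳 (rfl : 𝒳.p.obj a.obj.fst = _) f
    obtain ⟨y', ψ, hψ⟩ := IsFibGrpd.exists_lift_of_eq h𝒴 (snd_proj a) f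
    have := iso_lift a
    have : 𝒮.p.IsHomLift (𝟙 V ≫ f) (F.map φ ≫ a.obj.iso.hom) := by
      rw [Category.id_comp]
      exact IsHomLift.comp_lift_id_right' 𝒮.p f (F.map φ) (𝒳.p.obj a.obj.fst) a.obj.iso.hom
    obtain ⟨χ, ⟨hχ, hχw⟩, -⟩ := IsFibGrpd.existsUnique_lift h𝒮 f (𝟙 V) (G.map ψ) (F.map φ ≫ a.obj.iso.hom)
    have := IsFibGrpd.isIso_of_isHomLift_id h𝒮 (R := V) χ
    let e : F.obj x' ≅ G.obj y' := asIso χ
    have he : 𝒮.p.IsHomLift (𝟙 (𝒳.p.obj x')) e.hom :=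
      isHomLift_id_of_eq 𝒮.p (R := V) χ (Or.inl (F.w_obj x'))
    exact ⟨mk x' y' e he, homMk φ ψ hχw.symm, (isHomLift_iff _ f).2 hφ⟩
  · intro b a φ
    refine { universal_property' := fun {c} g ψ hψ => ?_ }
    have h1 : 𝒳.p.IsHomLift (g ≫ (_root_.FibCat.fp F G).p.map φ) ψ.hom.fst := (isHomLift_iff _ _).1 hψ
    have h2 : 𝒴.p.IsHomLift (g ≫ (_root_.FibCat.fp F G).p.map φ) ψ.hom.snd := isHomLift_snd _ _ hψ
    have h3 : 𝒳.p.IsHomLift ((_root_.FibCat.fp F G).p.map φ) φ.hom.fst := (isHomLift_iff _ _).1 inferInstance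
    obtain ⟨α, ⟨hα, hα'⟩, hαu⟩ := IsFibGrpd.existsUnique_lift h𝒳 ((_root_.FibCat.fp F G).p.map φ) g φ.hom.fst ψ.hom.fst
    obtain ⟨β, ⟨hβ, hβ'⟩, hβu⟩ := IsFibGrpd.existsUnique_lift h𝒴 ((_root_.FibCat.fp F G).p.map φ) g φ.hom.snd ψ.hom.snd
    have w' : F.map α ≫ b.obj.iso.hom = c.obj.iso.hom ≫ G.map β := by
      have : 𝒮.p.IsHomLift (𝟙 (𝒳.p.obj b.obj.fst)) b.obj.iso.hom := iso_lift b
      have : 𝒮.p.IsHomLift (𝟙 (𝒳.p.obj c.obj.fst)) c.obj.iso.hom := iso_lift c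
      have : 𝒮.p.IsHomLift g (F.map α ≫ b.obj.iso.hom) :=
        IsHomLift.comp_lift_id_right' 𝒮.p g (F.map α) (𝒳.p.obj b.obj.fst) b.obj.iso.hom
      have : 𝒮.p.IsHomLift g (c.obj.iso.hom ≫ G.map β) :=
        IsHomLift.comp_lift_id_left' 𝒮.p (𝒳.p.obj c.obj.fst) c.obj.iso.hom g (G.map β)
      refine IsFibGrpd.hom_ext h𝒮 g ((_root_.FibCat.fp F G).p.map φ) (G.map φ.hom.snd) ?_
      rw [Category.assoc, Category.assoc, ← w φ, ← G.map_comp, hβ', ← F.map_comp_assoc, hα', ← w ψ]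
    refine ⟨homMk α β w', ⟨(isHomLift_iff _ _).2 hα, hom_ext hα' hβ'⟩, fun χ hχ => hom_ext ?_ ?_⟩
    · exact hαu _ ⟨(isHomLift_iff _ _).1 hχ.1, congrArg (fun t => t.hom.fst) hχ.2⟩
    · exact hβu _ ⟨isHomLift_snd _ _ hχ.1, congrArg (fun t => t.hom.snd) hχ.2⟩

theorem faithful_fpFst [G.toFunctor.Faithful] : (_root_.FibCat.fpFst F G).toFunctor.Faithful := by
  constructor
  intro a b φ ψ (h : φ.hom.fst = ψ.hom.fst)
  refine hom_ext h (G.toFunctor.map_injective ?_)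
  rw [← cancel_epi a.obj.iso.hom, ← w φ, ← w ψ, h]

theorem faithful_fpSnd [F.toFunctor.Faithful] : (_root_.FibCat.fpSnd F G).toFunctor.Faithful := by
  constructor
  intro a b φ ψ (h : φ.hom.snd = ψ.hom.snd)
  refine hom_ext (F.toFunctor.map_injective ?_) h
  rw [← cancel_mono b.obj.iso.hom, w φ, w ψ, h]

theorem isFibSetoid (h𝒳 : _root_.FibCat.IsFibSetoid 𝒳.p) (h𝒴 : _root_.FibCat.IsFibSetoid 𝒴.p)
    (h𝒮 : _root_.FibCat.IsFibGrpd 𝒮.p) : _root_.FibCat.IsFibSetoid (_root_.FibCat.fp F G).p :=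
  ⟨isFibGrpd h𝒳.1 h𝒴.1 h𝒮, fun U a b => ⟨fun φ ψ => by
    have := (isHomLift_iff φ.1 (𝟙 U)).1 φ.2
    have := (isHomLift_iff ψ.1 (𝟙 U)).1 ψ.2
    have := isHomLift_snd φ.1 (𝟙 U) φ.2
    have := isHomLift_snd ψ.1 (𝟙 U) ψ.2
    exact Subtype.ext (hom_ext (IsFibSetoid.hom_ext' h𝒳 (𝟙 U)) (IsFibSetoid.hom_ext' h𝒴 (𝟙 U)))⟩⟩

/-- Fibre product with faithful leg over a setoid-fibred category. -/
theorem isFibSetoid_of_faithful [G.toFunctor.Faithful] (h𝒳 : _root_.FibCat.IsFibSetoid 𝒳.p)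
    (h𝒴 : _root_.FibCat.IsFibGrpd 𝒴.p) (h𝒮 : _root_.FibCat.IsFibGrpd 𝒮.p) :
    _root_.FibCat.IsFibSetoid (_root_.FibCat.fp F G).p :=
  have := faithful_fpFst (F := F) (G := G)
  GrothLib.FibCat.isFibSetoid_of_faithful (_root_.FibCat.fpFst F G) (isFibGrpd h𝒳.1 h𝒴 h𝒮) h𝒳

end Fp

theorem isFibGrpd_id : _root_.FibCat.IsFibGrpd (𝟭 C) where
  exists_lift {x V} f := ⟨V, f, IsHomLift.map (𝟭 C) f⟩
  isStronglyCartesian {y x} φ :=
    { universal_property' := fun {a} g ψ hψ => by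
        have e : g ≫ φ = ψ := IsHomLift.eq_of_isHomLift (𝟭 C) (g ≫ (𝟭 C).map φ) ψ
        refine ⟨g, ⟨IsHomLift.map (𝟭 C) g, e⟩, fun χ hχ => ?_⟩
        have := hχ.1
        exact (IsHomLift.eq_of_isHomLift (𝟭 C) g χ).symm }

theorem isFibGrpd_selfOver : _root_.FibCat.IsFibGrpd (_root_.FibCat.selfOver C).p := isFibGrpd_id

theorem isFibSet_of_injective {𝒳 : Type u₂} [Category.{v₂} 𝒳] {p : 𝒳 ⥤ C} (h : _root_.FibCat.IsFibGrpd p)
    [p.Faithful] (hobj : ∀ {a b : 𝒳} (φ : a ⟶ b), p.IsHomLift (𝟙 (p.obj a)) φ → a = b) :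
    _root_.FibCat.IsFibSet p :=
  ⟨h, fun U => { eq_of_hom := fun {a b} φ => Subtype.ext (hobj φ.1 (by
                    have := φ.2; exact isHomLift_id_domain p (R := U) φ.1))
                 subsingleton := fun a b => ⟨fun φ ψ => Fiber.hom_ext (p.map_injective (by
                    have := φ.2; have := ψ.2
                    exact (map_eq_eqToHom p (R := U) φ.1).trans (map_eq_eqToHom p (R := U) ψ.1).symm))⟩ }⟩

theorem isFibGrpd_overForget (U : C) : _root_.FibCat.IsFibGrpd (Over.forget U) where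
  exists_lift {x V} f := ⟨Over.mk (f ≫ x.hom), Over.homMk f, IsHomLift.map (Over.forget U) (Over.homMk f : Over.mk (f ≫ x.hom) ⟶ x)⟩
  isStronglyCartesian {y x} φ :=
    { universal_property' := fun {a} g ψ hψ => by
        have e : g ≫ φ.left = ψ.left := IsHomLift.eq_of_isHomLift (Over.forget U) (g ≫ (Over.forget U).map φ) ψ
        have hw : g ≫ y.hom = a.hom := by
          rw [← Over.w φ, ← Category.assoc, e, Over.w ψ]
        refine ⟨Over.homMk g hw, ⟨IsHomLift.map (Over.forget U) (Over.homMk g hw : a ⟶ y), Over.OverMorphism.ext e⟩,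
          fun χ hχ => ?_⟩
        have := hχ.1
        exact Over.OverMorphism.ext (IsHomLift.eq_of_isHomLift (Over.forget U) g χ).symm }

theorem isFibGrpd_overCat (U : C) : _root_.FibCat.IsFibGrpd (_root_.FibCat.overCat U).p := isFibGrpd_overForget U

theorem thin_fiber_overForget (U V : C) : Quiver.IsThin ((Over.forget U).Fiber V) := fun a b =>
  ⟨fun φ ψ => Subtype.ext (Over.OverMorphism.ext (by
    have := φ.2; have := ψ.2
    exact (map_eq_eqToHom (Over.forget U) (R := V) φ.1).trans (map_eq_eqToHom (Over.forget U) (R := V) ψ.1).symm))⟩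

theorem isFibSetoid_overCat (U : C) : _root_.FibCat.IsFibSetoid (_root_.FibCat.overCat U).p :=
  ⟨isFibGrpd_overCat U, thin_fiber_overForget U⟩

end GrothLib.FibCat
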