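import Groth.Agent.Lib.FibCat.OverCat

/-!
# The 2-Yoneda lemma
-/

set_option backward.isDefEq.respectTransparency false
set_option backward.isDefEq.respectTransparency.types false

universe v₂ u₂ v u

open CategoryTheory CategoryTheory.Functor

namespace GrothLib.FibCat.Yon

variable {C : Type u} [Category.{v} C] {U : C} {𝒳 : BasedCategory.{v₂, u₂} C}

/-- The object `𝟙 U` of `C/U`. -/
abbrev idObj (U : C) : (_root_.FibCat.overCat U).obj := Over.mk (𝟙 U)

/-- The morphism of any object of `C/U` to `𝟙 U`. -/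
def toId (a : (_root_.FibCat.overCat U).obj) : a ⟶ idObj U := Over.homMk a.hom (Category.comp_id a.hom)

theorem toId_lift (a : (_root_.FibCat.overCat U).obj) : (_root_.FibCat.overCat U).p.IsHomLift a.hom (toId a) :=
  IsHomLift.map (_root_.FibCat.overCat U).p (toId a)

theorem map_comp_toId {a b : (_root_.FibCat.overCat U).obj} (φ : a ⟶ b) : φ ≫ toId b = toId a :=
  Over.OverMorphism.ext (Over.w φ)

theorem toId_idObj : toId (idObj U) = 𝟙 (idObj U) := Over.OverMorphism.ext rfl

/-- A based functor from `C/U` is cartesian enough at an object if the morphism to `𝟙 U` goes to a strongly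
cartesian one. -/
def IsCartAtId (G : _root_.FibCat.overCat U ⥤ᵇ 𝒳) : Prop :=
  ∀ a : (_root_.FibCat.overCat U).obj, 𝒳.p.IsStronglyCartesian a.hom (G.map (toId a))

theorem isCartAtId_of_isFibGrpd (h : _root_.FibCat.IsFibGrpd 𝒳.p) (G : _root_.FibCat.overCat U ⥤ᵇ 𝒳) :
    IsCartAtId G := fun a =>
  have := toId_lift a
  IsFibGrpd.isStronglyCartesian' h a.hom (G.map (toId a))

section Extend

variable {G H : _root_.FibCat.overCat U ⥤ᵇ 𝒳} (hH : IsCartAtId H) (α : G.obj (idObj U) ⟶ H.obj (idObj U))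
  [hα : 𝒳.p.IsHomLift (𝟙 U) α]

theorem lift_toId_comp (a : (_root_.FibCat.overCat U).obj) :
    𝒳.p.IsHomLift (𝟙 a.left ≫ a.hom) (G.map (toId a) ≫ α) := by
  have := toId_lift a
  rw [Category.id_comp]
  exact IsHomLift.comp_lift_id_right' 𝒳.p a.hom (G.map (toId a)) U α

/-- The component of the extension. -/
noncomputable def extendApp (a : (_root_.FibCat.overCat U).obj) : G.obj a ⟶ H.obj a :=
  have := hH a
  have := lift_toId_comp (H := H) α a
  IsStronglyCartesian.map 𝒳.p a.hom (H.map (toId a)) (g := 𝟙 a.left) rfl (G.map (toId a) ≫ α)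

theorem extendApp_lift (a : (_root_.FibCat.overCat U).obj) :
    𝒳.p.IsHomLift (𝟙 a.left) (extendApp hH α a) :=
  have := hH a
  have := lift_toId_comp (H := H) α a
  IsStronglyCartesian.map_isHomLift 𝒳.p a.hom (H.map (toId a)) (g := 𝟙 a.left) rfl (G.map (toId a) ≫ α)

theorem extendApp_fac (a : (_root_.FibCat.overCat U).obj) :
    extendApp hH α a ≫ H.map (toId a) = G.map (toId a) ≫ α :=
  have := hH a
  have := lift_toId_comp (H := H) α a
  IsStronglyCartesian.fac 𝒳.p a.hom (H.map (toId a)) (g := 𝟙 a.left) rfl (G.map (toId a) ≫ α)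

theorem extendApp_naturality {a b : (_root_.FibCat.overCat U).obj} (φ : a ⟶ b) :
    G.map φ ≫ extendApp hH α b = extendApp hH α a ≫ H.map φ := by
  have := hH b
  have := extendApp_lift hH α a
  have := extendApp_lift hH α b
  have hl : (_root_.FibCat.overCat U).p.IsHomLift φ.left φ := IsHomLift.map (_root_.FibCat.overCat U).p φ
  have : 𝒳.p.IsHomLift φ.left (G.map φ ≫ extendApp hH α b) :=
    IsHomLift.comp_lift_id_right' 𝒳.p φ.left (G.map φ) b.left _
  have : 𝒳.p.IsHomLift φ.left (extendApp hH α a ≫ H.map φ) :=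
    IsHomLift.comp_lift_id_left' 𝒳.p a.left _ φ.left (H.map φ)
  apply IsStronglyCartesian.ext 𝒳.p b.hom (H.map (toId b)) φ.left
  rw [Category.assoc, Category.assoc, extendApp_fac, ← H.map_comp, map_comp_toId, extendApp_fac,
    ← G.map_comp_assoc, map_comp_toId]

/-- The extension of a morphism at `𝟙 U`. -/
noncomputable def extend : G ⟶ H where
  toNatTrans := { app := extendApp hH α, naturality := fun _ _ φ => extendApp_naturality hH α φ }
  isHomLift' := fun a => extendApp_lift hH α a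

theorem extend_app_id : (extend hH α).toNatTrans.app (idObj U) = α := by
  have h := extendApp_fac hH α (idObj U)
  simpa [extend, toId_idObj] using h

omit hα in
theorem hom_ext (hH : IsCartAtId H) {β γ : G ⟶ H}
    (h : β.toNatTrans.app (idObj U) = γ.toNatTrans.app (idObj U)) : β = γ := by
  refine natTrans_ext fun a => ?_
  have := hH a
  have : 𝒳.p.IsHomLift (𝟙 a.left) (β.toNatTrans.app a) := β.isHomLift' a
  have : 𝒳.p.IsHomLift (𝟙 a.left) (γ.toNatTrans.app a) := γ.isHomLift' a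
  apply IsStronglyCartesian.ext 𝒳.p a.hom (H.map (toId a)) (𝟙 a.left)
  rw [← β.toNatTrans.naturality, ← γ.toNatTrans.naturality, h]

end Extend

/-- Isomorphism extension. -/
noncomputable def extendIso {G H : _root_.FibCat.overCat U ⥤ᵇ 𝒳} (hG : IsCartAtId G) (hH : IsCartAtId H)
    (e : G.obj (idObj U) ≅ H.obj (idObj U)) [𝒳.p.IsHomLift (𝟙 U) e.hom] : G ≅ H :=
  have := isHomLift_id_inv 𝒳.p (R := U) e
  { hom := extend hH e.hom
    inv := extend hG e.inv
    hom_inv_id := hom_ext hG (by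
      change (extend hH e.hom).toNatTrans.app (idObj U) ≫ (extend hG e.inv).toNatTrans.app (idObj U) = 𝟙 _
      simp [extend_app_id])
    inv_hom_id := hom_ext hH (by
      change (extend hG e.inv).toNatTrans.app (idObj U) ≫ (extend hH e.hom).toNatTrans.app (idObj U) = 𝟙 _
      simp [extend_app_id]) }

theorem extendIso_hom_app {G H : _root_.FibCat.overCat U ⥤ᵇ 𝒳} (hG : IsCartAtId G) (hH : IsCartAtId H)
    (e : G.obj (idObj U) ≅ H.obj (idObj U)) [𝒳.p.IsHomLift (𝟙 U) e.hom] :
    (extendIso hG hH e).hom.toNatTrans.app (idObj U) = e.hom := extend_app_id hH e.hom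

section Fibered

variable [𝒳.p.IsFibered] (x : 𝒳.obj) (hx : 𝒳.p.obj x = U)

/-- Chosen lift. -/
noncomputable abbrev liftMap (a : (_root_.FibCat.overCat U).obj) :
    IsPreFibered.pullbackObj hx a.hom ⟶ x := IsPreFibered.pullbackMap hx a.hom

theorem lift_left {a b : (_root_.FibCat.overCat U).obj} (φ : a ⟶ b) :
    a.hom = φ.left ≫ b.hom := (Over.w φ).symm

/-- The functor `C/U ⟶ 𝒳` given by an object over `U`. -/
noncomputable def ofObj : _root_.FibCat.overCat U ⥤ᵇ 𝒳 where
  toFunctor :=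
    { obj := fun a => IsPreFibered.pullbackObj hx a.hom
      map := fun {a b} φ =>
        IsStronglyCartesian.map 𝒳.p b.hom (liftMap x hx b) (g := φ.left) (lift_left φ) (liftMap x hx a)
      map_id := fun a => by
        have : 𝒳.p.IsHomLift (𝟙 a : a ⟶ a).left (𝟙 (IsPreFibered.pullbackObj hx a.hom)) :=
          IsHomLift.id (IsPreFibered.pullbackObj_proj hx a.hom)
        exact (IsStronglyCartesian.map_uniq 𝒳.p a.hom (liftMap x hx a) (lift_left (𝟙 a)) (liftMap x hx a) (𝟙 _)
          (Category.id_comp _)).symm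
      map_comp := fun {a b c} φ ψ => by
        exact (IsStronglyCartesian.map_comp_map 𝒳.p c.hom (liftMap x hx c) (lift_left ψ) (lift_left φ)
          (liftMap x hx b) (liftMap x hx a)).symm }
  w := CategoryTheory.Functor.ext (fun a => IsPreFibered.pullbackObj_proj hx a.hom) fun a b φ => by
    exact IsHomLift.fac' 𝒳.p φ.left
      (IsStronglyCartesian.map 𝒳.p b.hom (liftMap x hx b) (g := φ.left) (lift_left φ) (liftMap x hx a))

/-- The value at `𝟙 U` of `ofObj` is `x`. -/
noncomputable def ofObjIso : (ofObj x hx).obj (idObj U) ≅ x :=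
  have : IsIso (liftMap x hx (idObj U)) :=
    have : 𝒳.p.IsStronglyCartesian (𝟙 U) (liftMap x hx (idObj U)) :=
      inferInstanceAs (𝒳.p.IsStronglyCartesian (𝟙 U) (IsPreFibered.pullbackMap hx (𝟙 U)))
    IsStronglyCartesian.isIso_of_base_isIso 𝒳.p (𝟙 U) (liftMap x hx (idObj U))
  asIso (liftMap x hx (idObj U))

theorem ofObjIso_lift : 𝒳.p.IsHomLift (𝟙 U) (ofObjIso x hx).hom :=
  inferInstanceAs (𝒳.p.IsHomLift (𝟙 U) (IsPreFibered.pullbackMap hx (𝟙 U)))

theorem ofObj_map_lift {a b : (_root_.FibCat.overCat U).obj} (φ : a ⟶ b) :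
    𝒳.p.IsStronglyCartesian φ.left ((ofObj x hx).map φ) := by
  have hfac : (ofObj x hx).map φ ≫ liftMap x hx b = liftMap x hx a :=
    IsStronglyCartesian.fac 𝒳.p b.hom (liftMap x hx b) (lift_left φ) (liftMap x hx a)
  have : 𝒳.p.IsHomLift φ.left ((ofObj x hx).map φ) :=
    IsStronglyCartesian.map_isHomLift 𝒳.p b.hom (liftMap x hx b) (lift_left φ) (liftMap x hx a)
  have : 𝒳.p.IsStronglyCartesian (φ.left ≫ b.hom) ((ofObj x hx).map φ ≫ liftMap x hx b) := by
    rw [hfac, ← lift_left φ]; infer_instance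
  exact IsStronglyCartesian.of_comp 𝒳.p (g := b.hom) (ψ := liftMap x hx b)

theorem isCartAtId_ofObj : IsCartAtId (ofObj x hx) := fun a => ofObj_map_lift x hx (toId a)

end Fibered

/-- Every object over `U` comes from a functor from the slice. -/
theorem exists_functor (h : _root_.FibCat.IsFibGrpd 𝒳.p) (x : 𝒳.obj) (hx : 𝒳.p.obj x = U) :
    ∃ (G : _root_.FibCat.overCat U ⥤ᵇ 𝒳) (e : G.obj (idObj U) ≅ x), 𝒳.p.IsHomLift (𝟙 U) e.hom :=
  have := IsFibGrpd.isFibered h
  ⟨ofObj x hx, ofObjIso x hx, ofObjIso_lift x hx⟩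

/-- In a category fibred in groupoids, functors from a slice agreeing at `𝟙 U` are isomorphic. -/
noncomputable def isoOfIdObj (h : _root_.FibCat.IsFibGrpd 𝒳.p) {G H : _root_.FibCat.overCat U ⥤ᵇ 𝒳}
    (e : G.obj (idObj U) ≅ H.obj (idObj U)) (he : 𝒳.p.IsHomLift (𝟙 U) e.hom) : G ≅ H :=
  extendIso (isCartAtId_of_isFibGrpd h G) (isCartAtId_of_isFibGrpd h H) e

theorem isoOfIdObj_hom_app (h : _root_.FibCat.IsFibGrpd 𝒳.p) {G H : _root_.FibCat.overCat U ⥤ᵇ 𝒳}
    (e : G.obj (idObj U) ≅ H.obj (idObj U)) (he : 𝒳.p.IsHomLift (𝟙 U) e.hom) :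
    (isoOfIdObj h e he).hom.toNatTrans.app (idObj U) = e.hom := extendIso_hom_app _ _ e

/-- Evaluation at `𝟙 U` is an equivalence. -/
theorem evalAtId_isEquivalence (h : _root_.FibCat.IsFibGrpd 𝒳.p) :
    (_root_.FibCat.evalAtId 𝒳 U).IsEquivalence where
  faithful := ⟨fun {G H β γ} e => hom_ext (isCartAtId_of_isFibGrpd h H) (congrArg Subtype.val e)⟩
  full := ⟨fun {G H} α =>
    have : 𝒳.p.IsHomLift (𝟙 U) α.1 := α.2
    ⟨extend (isCartAtId_of_isFibGrpd h H) α.1, Subtype.ext (extend_app_id (isCartAtId_of_isFibGrpd h H) α.1)⟩⟩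
  essSurj := ⟨fun a => by
    obtain ⟨G, e, he⟩ := exists_functor h a.1 a.2
    exact ⟨G, ⟨fiberIso e he⟩⟩⟩

/-- Evaluation at `𝟙 U` on functors preserving strongly cartesian morphisms is an equivalence. -/
theorem evalAtId_isEquivalence_of_isFibered [𝒳.p.IsFibered] :
    (ObjectProperty.ι (_root_.FibCat.PreservesStronglyCartesian (𝒳 := _root_.FibCat.overCat U) (𝒴 := 𝒳)) ⋙
      _root_.FibCat.evalAtId 𝒳 U).IsEquivalence := by
  have key : ∀ {G : _root_.FibCat.overCat U ⥤ᵇ 𝒳}, _root_.FibCat.PreservesStronglyCartesian G → IsCartAtId G :=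
    fun {G} hG a =>
      have := toId_lift a
      hG a.hom (toId a) (IsFibGrpd.isStronglyCartesian' (isFibGrpd_overCat U) a.hom (toId a))
  refine { faithful := ⟨fun {G H β γ} e => ?_⟩, full := ⟨fun {G H} α => ?_⟩, essSurj := ⟨fun a => ?_⟩ }
  · exact ObjectProperty.hom_ext _ (hom_ext (key H.property) (congrArg Subtype.val e))
  · have : 𝒳.p.IsHomLift (𝟙 U) α.1 := α.2
    exact ⟨ObjectProperty.homMk (extend (key H.property) α.1), Subtype.ext (extend_app_id (key H.property) α.1)⟩
  · refine ⟨⟨ofObj a.1 a.2, fun R S f b c φ hφ => ?_⟩, ⟨fiberIso (ofObjIso a.1 a.2) (ofObjIso_lift a.1 a.2)⟩⟩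
    have hl := ofObj_map_lift a.1 a.2 φ
    have : 𝒳.p.IsHomLift f ((ofObj a.1 a.2).map φ) := inferInstance
    have e1 : R = b.left := (IsHomLift.domain_eq (_root_.FibCat.overCat U).p f φ).symm
    have e2 : S = c.left := (IsHomLift.codomain_eq (_root_.FibCat.overCat U).p f φ).symm
    subst e1 e2
    obtain rfl : f = φ.left := IsHomLift.eq_of_isHomLift (_root_.FibCat.overCat U).p f φ
    exact hl

end GrothLib.FibCat.Yon
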