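import Groth.Agent.Lib.FibCat.Basic

/-!
# Categories fibred in groupoids: API
-/

set_option backward.isDefEq.respectTransparency false
set_option backward.isDefEq.respectTransparency.types false

universe v₄ u₄ v₃ u₃ v₂ u₂ v u

open CategoryTheory CategoryTheory.Functor

namespace GrothLib.FibCat

variable {C : Type u} [Category.{v} C]

namespace IsFibGrpd

variable {𝒳 : Type u₂} [Category.{v₂} 𝒳] {p : 𝒳 ⥤ C} (hp : _root_.FibCat.IsFibGrpd p)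
include hp

theorem exists_lift_of_eq {x : 𝒳} {U V : C} (hx : p.obj x = U) (f : V ⟶ U) :
    ∃ (y : 𝒳) (φ : y ⟶ x), p.IsHomLift f φ := by
  subst hx; exact hp.exists_lift f

theorem isStronglyCartesian' {R S : C} (f : R ⟶ S) {y x : 𝒳} (φ : y ⟶ x) [p.IsHomLift f φ] :
    p.IsStronglyCartesian f φ := by
  subst_hom_lift p f φ
  exact hp.isStronglyCartesian φ

theorem isFibered : p.IsFibered :=
  Functor.IsFibered.of_exists_isStronglyCartesian fun a R f =>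
    let ⟨b, φ, hφ⟩ := hp.exists_lift f
    ⟨b, φ, isStronglyCartesian' hp f φ⟩

theorem isIso_of_base_isIso {R S : C} (f : R ⟶ S) {y x : 𝒳} (φ : y ⟶ x) [p.IsHomLift f φ] [IsIso f] :
    IsIso φ :=
  have := isStronglyCartesian' hp f φ
  IsStronglyCartesian.isIso_of_base_isIso p f φ

theorem isIso_of_isHomLift_id {R : C} {y x : 𝒳} (φ : y ⟶ x) [p.IsHomLift (𝟙 R) φ] : IsIso φ :=
  isIso_of_base_isIso hp (𝟙 R) φ

theorem isIso_iff {y x : 𝒳} (φ : y ⟶ x) : IsIso φ ↔ IsIso (p.map φ) :=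
  ⟨fun _ => inferInstance, fun _ => isIso_of_base_isIso hp (p.map φ) φ⟩

theorem isGroupoid_fiber (U : C) : IsGroupoid (p.Fiber U) := by
  constructor
  intro a b φ
  have := φ.2
  have := isIso_of_isHomLift_id hp (R := U) φ.1
  exact ⟨⟨⟨inv φ.1, inferInstance⟩, Fiber.hom_ext (IsIso.hom_inv_id φ.1), Fiber.hom_ext (IsIso.inv_hom_id φ.1)⟩⟩

/-- Existence and uniqueness of factorisations. -/
theorem existsUnique_lift {R' R S : C} (f : R ⟶ S) (g : R' ⟶ R) {z y x : 𝒳} (φ : y ⟶ x) (ψ : z ⟶ x)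
    [p.IsHomLift f φ] [p.IsHomLift (g ≫ f) ψ] : ∃! χ : z ⟶ y, p.IsHomLift g χ ∧ χ ≫ φ = ψ :=
  have := isStronglyCartesian' hp f φ
  IsStronglyCartesian.universal_property p f φ g (g ≫ f) rfl ψ

/-- Factorisation with the base morphisms given by `p.map`. -/
theorem existsUnique_fac {z y x : 𝒳} (φ : y ⟶ x) (ψ : z ⟶ x) (g : p.obj z ⟶ p.obj y)
    (h : g ≫ p.map φ = p.map ψ) : ∃! χ : z ⟶ y, p.map χ = g ∧ χ ≫ φ = ψ := by
  have : p.IsHomLift (g ≫ p.map φ) ψ := h ▸ IsHomLift.map p ψ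
  obtain ⟨χ, ⟨h1, h2⟩, h3⟩ := existsUnique_lift hp (p.map φ) g φ ψ
  refine ⟨χ, ⟨(IsHomLift.eq_of_isHomLift p g χ).symm, h2⟩, fun χ' hχ => ?_⟩
  exact h3 χ' ⟨hχ.1 ▸ IsHomLift.map p χ', hχ.2⟩

/-- Lifts are unique: parallel morphisms over the same base morphism agreeing after composition with `φ`. -/
theorem hom_ext {R' R S : C} (g : R' ⟶ R) (f : R ⟶ S) {z y x : 𝒳} (φ : y ⟶ x) [p.IsHomLift f φ]
    {χ χ' : z ⟶ y} [p.IsHomLift g χ] [p.IsHomLift g χ'] (h : χ ≫ φ = χ' ≫ φ) : χ = χ' :=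
  have := isStronglyCartesian' hp f φ
  IsStronglyCartesian.ext p f φ g h

theorem hom_ext' {z y x : 𝒳} (φ : y ⟶ x) {χ χ' : z ⟶ y} (h₀ : p.map χ = p.map χ')
    (h : χ ≫ φ = χ' ≫ φ) : χ = χ' :=
  have : p.IsHomLift (p.map χ) χ' := h₀ ▸ IsHomLift.map p χ'
  hom_ext hp (p.map χ) (p.map φ) φ h

/-- Two lifts with the same target are vertically isomorphic. -/
theorem exists_iso_of_lifts {R S : C} (f : R ⟶ S) {y y' x : 𝒳} (φ : y ⟶ x) (φ' : y' ⟶ x)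
    [p.IsHomLift f φ] [p.IsHomLift f φ'] :
    ∃ e : y' ≅ y, p.IsHomLift (𝟙 R) e.hom ∧ e.hom ≫ φ = φ' := by
  have := isStronglyCartesian' hp f φ
  have := isStronglyCartesian' hp f φ'
  exact ⟨IsCartesian.domainUniqueUpToIso p f φ φ', inferInstance, IsCartesian.fac p f φ φ'⟩

end IsFibGrpd

section

variable {𝒳 : Type u₂} [Category.{v₂} 𝒳] {p : 𝒳 ⥤ C}

/-- Fibred with groupoid fibres gives fibred in groupoids. -/
theorem isFibGrpd_of_isFibered [p.IsFibered] (h : ∀ U : C, IsGroupoid (p.Fiber U)) :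
    _root_.FibCat.IsFibGrpd p where
  exists_lift := fun {x V} f => by
    obtain ⟨y, φ, hφ⟩ := IsPreFibered.exists_isCartesian p (rfl : p.obj x = _) f
    exact ⟨y, φ, inferInstance⟩
  isStronglyCartesian := fun {y x} φ => by
    obtain ⟨y', φ', hφ'⟩ := IsPreFibered.exists_isCartesian p (rfl : p.obj x = _) (p.map φ)
    let χ := IsCartesian.map p (p.map φ) φ' φ
    have := h (p.obj y)
    have hχ : p.IsHomLift (𝟙 (p.obj y)) χ := inferInstance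
    let χ' : Fiber.mk (rfl : p.obj y = p.obj y) ⟶ Fiber.mk (IsHomLift.domain_eq p (p.map φ) φ') := ⟨χ, hχ⟩
    have : IsIso χ := inferInstanceAs (IsIso (Fiber.fiberInclusion.map χ'))
    have e : χ ≫ φ' = φ := IsCartesian.fac p (p.map φ) φ' φ
    rw [← e]
    have : p.IsStronglyCartesian (𝟙 (p.obj y)) χ := inferInstance
    have := IsStronglyCartesian.comp (p := p) (f := 𝟙 (p.obj y)) (g := p.map φ) (φ := χ) (ψ := φ')
    rw [Category.id_comp] at this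
    rw [e] at this ⊢
    exact this

end

section BasedFunctor

variable {𝒳 : BasedCategory.{v₂, u₂} C} {𝒴 : BasedCategory.{v₃, u₃} C}

theorem isFibGrpd_of_iff_lift (F : 𝒳 ⥤ᵇ 𝒴) (h : _root_.FibCat.IsEquivOver F)
    (hy : _root_.FibCat.IsFibGrpd 𝒴.p) : _root_.FibCat.IsFibGrpd 𝒳.p := by
  have := IsEquivOver.full h
  have := IsEquivOver.faithful h
  constructor
  · intro x V f
    obtain ⟨η, ψ, hψ⟩ := IsFibGrpd.exists_lift_of_eq hy (F.w_obj x) f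
    obtain ⟨ξ, e, he⟩ := IsEquivOver.essSurj h η
    refine ⟨ξ, F.toFunctor.preimage (e.hom ≫ ψ), (F.isHomLift_iff _ _).1 ?_⟩
    rw [show F.map (F.toFunctor.preimage (e.hom ≫ ψ)) = e.hom ≫ ψ from F.toFunctor.map_preimage _]
    exact IsHomLift.comp_lift_id_left' 𝒴.p (𝒴.p.obj η) e.hom f ψ
  · intro y x φ
    have := IsFibGrpd.isStronglyCartesian' hy (𝒳.p.map φ) (F.map φ)
    refine { universal_property' := fun {z} g ψ hψ => ?_ }
    obtain ⟨χ, ⟨h1, h2⟩, h3⟩ := IsStronglyCartesian.universal_property 𝒴.p (𝒳.p.map φ) (F.map φ) g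
      (g ≫ 𝒳.p.map φ) rfl (F.map ψ)
    refine ⟨F.toFunctor.preimage χ, ⟨(F.isHomLift_iff _ _).1 ?_, F.toFunctor.map_injective ?_⟩, fun χ' hχ' => ?_⟩
    · rw [show F.map (F.toFunctor.preimage χ) = χ from F.toFunctor.map_preimage _]; exact h1
    · simp [h2]
    · apply F.toFunctor.map_injective
      rw [F.toFunctor.map_preimage]
      have := hχ'.1
      exact h3 _ ⟨inferInstance, by rw [← F.map_comp, hχ'.2]⟩

theorem isFibGrpd_iff_of_isEquivOver (F : 𝒳 ⥤ᵇ 𝒴) (h : _root_.FibCat.IsEquivOver F) :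
    _root_.FibCat.IsFibGrpd 𝒳.p ↔ _root_.FibCat.IsFibGrpd 𝒴.p := by
  obtain ⟨G, hG, -, -⟩ := IsEquivOver.symm h
  exact ⟨isFibGrpd_of_iff_lift G hG, isFibGrpd_of_iff_lift F h⟩

/-- A fully faithful functor into a category fibred in groupoids that is fibrewise essentially
surjective is an equivalence over the base. -/
theorem isEquivOver_of_fibrewise (F : 𝒳 ⥤ᵇ 𝒴) [F.toFunctor.Full] [F.toFunctor.Faithful]
    (h : ∀ η : 𝒴.obj, ∃ (ξ : 𝒳.obj) (e : F.obj ξ ≅ η), 𝒴.p.IsHomLift (𝟙 (𝒴.p.obj η)) e.hom) :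
    _root_.FibCat.IsEquivOver F :=
  FFEssSurjOver.isEquivOver ⟨inferInstance, inferInstance, h⟩

/-- An equivalence of underlying categories with fibred-in-groupoids (or just iso-liftable) source is an
equivalence over the base. -/
theorem isEquivOver_of_isEquivalence
    (h𝒳 : ∀ ⦃T S : C⦄ (α : T ≅ S) (ξ : 𝒳.obj), 𝒳.p.obj ξ = T →
      ∃ (ξ' : 𝒳.obj) (e : ξ ≅ ξ'), 𝒳.p.IsHomLift α.hom e.hom)
    (F : 𝒳 ⥤ᵇ 𝒴) [F.toFunctor.IsEquivalence] : _root_.FibCat.IsEquivOver F := by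
  refine isEquivOver_of_fibrewise F fun η => ?_
  let ξ₀ := F.toFunctor.objPreimage η
  let e₀ : F.obj ξ₀ ≅ η := F.toFunctor.objObjPreimageIso η
  let α : 𝒳.p.obj ξ₀ ≅ 𝒴.p.obj η := eqToIso (F.w_obj ξ₀).symm ≪≫ 𝒴.p.mapIso e₀
  obtain ⟨ξ, e, he⟩ := h𝒳 α ξ₀ rfl
  refine ⟨ξ, F.toFunctor.mapIso e.symm ≪≫ e₀, ?_⟩
  have : 𝒴.p.IsHomLift α.hom e₀.hom :=
    IsHomLift.of_fac' 𝒴.p _ _ (F.w_obj ξ₀) rfl (by simp [α])
  have := IsHomLift.inv_lift_inv 𝒳.p α e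
  have : 𝒴.p.IsHomLift (α.inv ≫ α.hom) (F.map e.inv ≫ e₀.hom) := inferInstance
  rw [α.inv_hom_id] at this
  exact this

theorem IsFibGrpd.transportable (h : _root_.FibCat.IsFibGrpd 𝒳.p) ⦃T S : C⦄ (α : T ≅ S) (ξ : 𝒳.obj)
    (hξ : 𝒳.p.obj ξ = T) : ∃ (ξ' : 𝒳.obj) (e : ξ ≅ ξ'), 𝒳.p.IsHomLift α.hom e.hom := by
  obtain ⟨ξ', φ, hφ⟩ := IsFibGrpd.exists_lift_of_eq h hξ α.inv
  have := IsFibGrpd.isIso_of_base_isIso h α.inv φ
  refine ⟨ξ', (asIso φ).symm, ?_⟩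
  have : 𝒳.p.IsHomLift α.symm.hom (asIso φ).hom := hφ
  exact IsHomLift.inv_lift_inv 𝒳.p α.symm (asIso φ)

end BasedFunctor

end GrothLib.FibCat
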