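import Groth.Agent.Lib.FibCat.Psh

/-!
# A category fibred in setoids is the category of a presheaf
-/

set_option backward.isDefEq.respectTransparency false
set_option backward.isDefEq.respectTransparency.types false

universe v₂ u₂ v u

open CategoryTheory CategoryTheory.Functor Opposite

namespace GrothLib.FibCat

variable {C : Type u} [Category.{v} C] (𝒳 : BasedCategory.{v₂, u₂} C)

/-- Vertical isomorphism of objects. -/
def vertSetoid (U : C) : Setoid {a : 𝒳.obj // 𝒳.p.obj a = U} where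
  r a b := ∃ e : a.1 ≅ b.1, 𝒳.p.IsHomLift (𝟙 U) e.hom
  iseqv :=
    { refl := fun a => ⟨Iso.refl _, IsHomLift.id a.2⟩
      symm := fun {a b} ⟨e, he⟩ => ⟨e.symm, isHomLift_id_inv 𝒳.p (R := U) e⟩
      trans := fun {a b c} ⟨e, he⟩ ⟨e', he'⟩ => ⟨e ≪≫ e', by
        exact inferInstanceAs (𝒳.p.IsHomLift (𝟙 U) (e.hom ≫ e'.hom))⟩ }

/-- The quotient of the fibre by vertical isomorphisms. -/
abbrev vertQuot (U : C) : Type u₂ := Quotient (vertSetoid 𝒳 U)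

variable {𝒳}

theorem vertQuot_eq_of_lifts (h : _root_.FibCat.IsFibSetoid 𝒳.p) {V U : C} (f : V ⟶ U)
    {a a' : {a : 𝒳.obj // 𝒳.p.obj a = U}} (ha : (vertSetoid 𝒳 U).r a a') {b b' : 𝒳.obj}
    (hb : 𝒳.p.obj b = V) (hb' : 𝒳.p.obj b' = V) (φ : b ⟶ a.1) (φ' : b' ⟶ a'.1)
    [𝒳.p.IsHomLift f φ] [𝒳.p.IsHomLift f φ'] :
    (Quotient.mk (vertSetoid 𝒳 V) ⟨b, hb⟩) = Quotient.mk _ ⟨b', hb'⟩ := by
  obtain ⟨e, he⟩ := ha
  have : 𝒳.p.IsHomLift f (φ ≫ e.hom) := inferInstance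
  have : 𝒳.p.IsHomLift (𝟙 V ≫ f) (φ ≫ e.hom) := by rw [Category.id_comp]; infer_instance
  obtain ⟨t, ht, -⟩ := IsFibGrpd.existsUnique_lift h.1 f (𝟙 V) φ' (φ ≫ e.hom)
  have := ht.1
  have := IsFibGrpd.isIso_of_isHomLift_id h.1 (R := V) t
  exact Quotient.sound ⟨asIso t, ht.1⟩

/-- A category fibred in setoids is equivalent to the category of a presheaf. -/
theorem exists_ofPsh (h : _root_.FibCat.IsFibSetoid 𝒳.p) :
    ∃ (P : Cᵒᵖ ⥤ Type u₂) (e : Stk.ofPsh P ⥤ᵇ 𝒳), _root_.FibCat.IsEquivOver e := by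
  have hl : ∀ {U : C} (a : {a : 𝒳.obj // 𝒳.p.obj a = U}) {V : C} (f : V ⟶ U),
      ∃ (b : 𝒳.obj) (hb : 𝒳.p.obj b = V) (φ : b ⟶ a.1), 𝒳.p.IsHomLift f φ := fun {U} a {V} f => by
    obtain ⟨b, φ, hφ⟩ := IsFibGrpd.exists_lift_of_eq h.1 a.2 f
    exact ⟨b, IsHomLift.domain_eq 𝒳.p f φ, φ, hφ⟩
  choose b hb φ hφ using @hl
  let res : ∀ {V U : C} (f : V ⟶ U), vertQuot 𝒳 U → vertQuot 𝒳 V := fun {V U} f =>
    Quotient.lift (fun a => Quotient.mk _ ⟨b a f, hb a f⟩) fun a a' ha =>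
      have := hφ a f; have := hφ a' f
      vertQuot_eq_of_lifts h f ha (hb a f) (hb a' f) (φ a f) (φ a' f)
  have res_mk : ∀ {V U : C} (f : V ⟶ U) (a : {a : 𝒳.obj // 𝒳.p.obj a = U}) (c : 𝒳.obj) (hc : 𝒳.p.obj c = V)
      (ψ : c ⟶ a.1), 𝒳.p.IsHomLift f ψ → res f (Quotient.mk _ a) = Quotient.mk _ ⟨c, hc⟩ := by
    intro V U f a c hc ψ hψ
    have := hφ a f
    exact vertQuot_eq_of_lifts h f ((vertSetoid 𝒳 U).iseqv.refl a) (hb a f) hc (φ a f) ψ
  let P : Cᵒᵖ ⥤ Type u₂ :=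
    { obj := fun U => vertQuot 𝒳 U.unop
      map := fun f => ↾res f.unop
      map_id := fun U => by
        ext q
        induction q using Quotient.ind with
        | _ a => exact res_mk _ a a.1 a.2 (𝟙 _) (IsHomLift.id a.2)
      map_comp := fun {U V W} f g => by
        ext q
        induction q using Quotient.ind with
        | _ a =>
          let a' : {a : 𝒳.obj // 𝒳.p.obj a = V.unop} := ⟨b a f.unop, hb a f.unop⟩
          have h1 := hφ a f.unop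
          have h2 := hφ a' g.unop
          change res (g.unop ≫ f.unop) (Quotient.mk _ a) = res g.unop (Quotient.mk _ a')
          rw [res_mk (g.unop ≫ f.unop) a _ (hb a' g.unop) (φ a' g.unop ≫ φ a f.unop) inferInstance]
          exact (res_mk g.unop a' _ (hb a' g.unop) (φ a' g.unop) h2).symm }
  have hex : ∀ {x y : Stk.EltObj P} (f : x ⟶ y),
      ∃ ψ : x.sec.out.1 ⟶ y.sec.out.1, 𝒳.p.IsHomLift f.hom ψ := fun {x y} f => by
    obtain ⟨c, hc, ψ, hψ⟩ : ∃ (c : 𝒳.obj) (_ : 𝒳.p.obj c = x.base) (ψ : c ⟶ y.sec.out.1), 𝒳.p.IsHomLift f.hom ψ :=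
      ⟨_, hb y.sec.out f.hom, φ y.sec.out f.hom, hφ _ _⟩
    have h1 : res f.hom y.sec = x.sec := f.map_sec
    rw [← Quotient.out_eq y.sec, res_mk f.hom _ c hc ψ hψ, ← Quotient.out_eq x.sec] at h1
    obtain ⟨e, he⟩ := Quotient.exact h1
    have := isHomLift_id_inv 𝒳.p (R := x.base) e
    exact ⟨e.inv ≫ ψ, inferInstance⟩
  choose ψ hψ using @hex
  let e : Stk.ofPsh P ⥤ᵇ 𝒳 :=
    { toFunctor :=
        { obj := fun x => x.sec.out.1
          map := fun f => ψ f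
          map_id := fun x => by
            have := hψ (𝟙 x)
            have : 𝒳.p.IsHomLift ((𝟙 x : x ⟶ x).hom) (𝟙 x.sec.out.1) := IsHomLift.id x.sec.out.2
            exact IsFibSetoid.hom_ext' h ((𝟙 x : x ⟶ x).hom)
          map_comp := fun {x y z} f g => by
            have := hψ (f ≫ g)
            have := hψ f
            have := hψ g
            have : 𝒳.p.IsHomLift (f ≫ g).hom (ψ f ≫ ψ g) := inferInstanceAs (𝒳.p.IsHomLift (f.hom ≫ g.hom) _)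
            exact IsFibSetoid.hom_ext' h ((f ≫ g).hom) }
      w := CategoryTheory.Functor.ext (fun x => x.sec.out.2) fun x y f => by
        have := hψ f
        exact (IsHomLift.fac' 𝒳.p f.hom (ψ f)) }
  refine ⟨P, e, FFEssSurjOver.isEquivOver ⟨⟨fun {x y} t => ?_⟩, ⟨fun {x y f g} hfg => ?_⟩, fun η => ?_⟩⟩
  · let k : x.base ⟶ y.base := eqToHom x.sec.out.2.symm ≫ 𝒳.p.map t ≫ eqToHom y.sec.out.2
    have hk : 𝒳.p.IsHomLift k t := IsHomLift.of_fac _ _ _ x.sec.out.2 y.sec.out.2 rfl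
    have hm : res k y.sec = x.sec := by
      rw [← Quotient.out_eq y.sec, res_mk k _ _ x.sec.out.2 t hk]
      exact Quotient.out_eq x.sec
    let f : x ⟶ y := ⟨k, hm⟩
    refine ⟨f, ?_⟩
    have := hψ f
    exact IsFibSetoid.hom_ext' h k
  · have hf := hψ f
    have hg := hψ g
    have e1 : ψ f = ψ g := hfg
    rw [← e1] at hg
    exact ofPsh_hom_ext (IsHomLift.fac 𝒳.p f.hom (ψ f) ▸ (IsHomLift.fac 𝒳.p g.hom (ψ f)).symm)
  · let x : Stk.EltObj P := ⟨𝒳.p.obj η, Quotient.mk _ ⟨η, rfl⟩⟩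
    obtain ⟨i, hi⟩ := Quotient.mk_out (s := vertSetoid 𝒳 (𝒳.p.obj η)) ⟨η, rfl⟩
    exact ⟨x, i, hi⟩

end GrothLib.FibCat
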