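import Groth.Agent.Lib.FibCat.Slice
import Mathlib.CategoryTheory.Limits.Shapes.Pullback.IsPullback.Basic
import Mathlib.CategoryTheory.Limits.Shapes.BinaryProducts

/-!
# Representable subobjects of slices, base change between slices
-/

set_option backward.isDefEq.respectTransparency false
set_option backward.isDefEq.respectTransparency.types false

universe v₃ u₃ v₂ u₂ v u

open CategoryTheory CategoryTheory.Functor CategoryTheory.Limits

namespace GrothLib.FibCat

variable {C : Type u} [Category.{v} C] {𝒜 : BasedCategory.{v₂, u₂} C} {W Q : C}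

theorem sliceHom_w {U : C} (H : 𝒜 ⥤ᵇ _root_.FibCat.overCat U) {a b : 𝒜.obj} (φ : a ⟶ b) :
    𝒜.p.map φ ≫ eqToHom (H.w_obj b).symm ≫ (H.obj b).hom = eqToHom (H.w_obj a).symm ≫ (H.obj a).hom := by
  rw [← Over.w (H.map φ), ← Category.assoc, ← Category.assoc]
  congr 1
  change _ = eqToHom (H.w_obj a).symm ≫ (_root_.FibCat.overCat U).p.map (H.map φ)
  rw [p_map_map]
  simp

/-- The structure morphism over `U` of an object, through a functor to the slice. -/
def structHom {U : C} (H : 𝒜 ⥤ᵇ _root_.FibCat.overCat U) (a : 𝒜.obj) : 𝒜.p.obj a ⟶ U :=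
  eqToHom (H.w_obj a).symm ≫ (H.obj a).hom

theorem structHom_w {U : C} (H : 𝒜 ⥤ᵇ _root_.FibCat.overCat U) {a b : 𝒜.obj} (φ : a ⟶ b) :
    𝒜.p.map φ ≫ structHom H b = structHom H a := sliceHom_w H φ

/-- A functor to a slice from compatible structure morphisms. -/
def toSlice {U : C} (h : ∀ a : 𝒜.obj, 𝒜.p.obj a ⟶ U) (w : ∀ {a b : 𝒜.obj} (φ : a ⟶ b), 𝒜.p.map φ ≫ h b = h a) :
    𝒜 ⥤ᵇ _root_.FibCat.overCat U where
  toFunctor :=
    { obj := fun a => Over.mk (h a)
      map := fun φ => Over.homMk (𝒜.p.map φ) (w φ)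
      map_id := fun a => Over.OverMorphism.ext (𝒜.p.map_id a)
      map_comp := fun φ ψ => Over.OverMorphism.ext (𝒜.p.map_comp φ ψ) }
  w := rfl

theorem structHom_toSlice {U : C} (h : ∀ a : 𝒜.obj, 𝒜.p.obj a ⟶ U)
    (w : ∀ {a b : 𝒜.obj} (φ : a ⟶ b), 𝒜.p.map φ ≫ h b = h a) (a : 𝒜.obj) : structHom (toSlice h w) a = h a := by
  change 𝟙 _ ≫ h a = h a
  simp

/-- A fully faithful functor into `C/W` whose image is the arrows factoring through the monomorphism `m`
makes its source representable by the source of `m`. -/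
theorem isRepresentable_of_mono (H : 𝒜 ⥤ᵇ _root_.FibCat.overCat W) [H.toFunctor.Full] [H.toFunctor.Faithful]
    (m : Q ⟶ W) [Mono m] (h1 : ∀ a, ∃ l, l ≫ m = structHom H a)
    (h2 : ∀ {T : C} (l : T ⟶ Q), ∃ (a : 𝒜.obj) (e : 𝒜.p.obj a = T), structHom H a = eqToHom e ≫ l ≫ m) :
    _root_.FibCat.IsRepresentable 𝒜 := by
  choose l hl using h1
  have w : ∀ {a b : 𝒜.obj} (φ : a ⟶ b), 𝒜.p.map φ ≫ l b = l a := fun {a b} φ => by
    rw [← cancel_mono m, Category.assoc, hl, hl]; exact structHom_w H φ
  refine ⟨Q, toSlice l w, FFEssSurjOver.isEquivOver ⟨?_, ?_, fun η => ?_⟩⟩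
  · refine ⟨fun {a b} ψ => ?_⟩
    have hw : ψ.left ≫ structHom H b = structHom H a := by
      rw [← hl a, ← hl b, ← Category.assoc]
      congr 1
      exact Over.w ψ
    let χ : H.obj a ⟶ H.obj b := Over.homMk (eqToHom (H.w_obj a) ≫ ψ.left ≫ eqToHom (H.w_obj b).symm) (by
      change (eqToHom _ ≫ ψ.left ≫ eqToHom _) ≫ (H.obj b).hom = _
      have := hw
      unfold structHom at this
      rw [Category.assoc, Category.assoc]
      erw [this]
      erw [eqToHom_trans_assoc, eqToHom_refl, Category.id_comp])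
    refine ⟨H.toFunctor.preimage χ, Over.OverMorphism.ext ?_⟩
    change 𝒜.p.map (H.toFunctor.preimage χ) = ψ.left
    have := p_map_map H (H.toFunctor.preimage χ)
    rw [show H.map (H.toFunctor.preimage χ) = χ from H.toFunctor.map_preimage _] at this
    exact ((cancel_mono (eqToHom (H.w_obj b).symm)).1 ((cancel_epi (eqToHom (H.w_obj a))).1 this)).symm
  · refine ⟨fun {a b φ ψ} h => H.toFunctor.map_injective (IsFibSetoid.hom_ext (isFibSetoid_overCat W) ?_)⟩
    rw [p_map_map, p_map_map]
    rw [show 𝒜.p.map φ = 𝒜.p.map ψ from congrArg CommaMorphism.left h]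
  · obtain ⟨a, e, he⟩ := h2 η.hom
    refine ⟨a, Over.isoMk (eqToIso e) ?_, ?_⟩
    · change eqToHom e ≫ η.hom = l a
      rw [← cancel_mono m, hl, Category.assoc]
      exact he.symm
    · exact IsHomLift.of_fac' (_root_.FibCat.overCat Q).p _ _ e rfl (by simp; rfl)

/-- Base change of `Over.map f` along `Over.map g`. -/
theorem isRepresentable_fp_overMap [HasPullbacks C] {X Y Z : C} (g : Z ⟶ Y) (f : X ⟶ Y) :
    _root_.FibCat.IsRepresentable (_root_.FibCat.fp (overMap g) (overMap f)) := by
  let E : _root_.FibCat.overCat (pullback g f) ⥤ᵇ _root_.FibCat.fp (overMap g) (overMap f) :=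
    _root_.FibCat.fpLift (overMap (pullback.fst g f)) (overMap (pullback.snd g f))
      (natIsoOfComponents (fun a => Over.isoMk (Iso.refl a.left) (by
          change 𝟙 a.left ≫ ((a.hom ≫ pullback.snd g f) ≫ f) = (a.hom ≫ pullback.fst g f) ≫ g
          simp [pullback.condition]))
        (fun a => IsHomLift.of_fac' (_root_.FibCat.overCat Y).p _ _ rfl rfl (by simp; rfl))
        (fun {a b} φ => Over.OverMorphism.ext ((Category.comp_id φ.left).trans (Category.id_comp φ.left).symm)))
  have hE : _root_.FibCat.IsEquivOver E := by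
    refine FFEssSurjOver.isEquivOver ⟨?_, ?_, fun η => ?_⟩
    · refine ⟨fun {a b} ψ => ⟨Over.homMk ψ.hom.fst.left (pullback.hom_ext ?_ ?_), ?_⟩⟩
      · have := Over.w ψ.hom.fst
        rw [Category.assoc]; exact this
      · have h := congrArg CommaMorphism.left (Fp.w ψ)
        have h' : ψ.hom.snd.left = ψ.hom.fst.left := by
          have : ψ.hom.fst.left ≫ 𝟙 b.left = 𝟙 a.left ≫ ψ.hom.snd.left := h
          exact ((this.trans (Category.id_comp _)).symm.trans (Category.comp_id _))
        have := Over.w ψ.hom.snd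
        rw [h'] at this
        rw [Category.assoc]; exact this
      · have h := congrArg CommaMorphism.left (Fp.w ψ)
        have h' : ψ.hom.snd.left = ψ.hom.fst.left := by
          have : ψ.hom.fst.left ≫ 𝟙 b.left = 𝟙 a.left ≫ ψ.hom.snd.left := h
          exact ((this.trans (Category.id_comp _)).symm.trans (Category.comp_id _))
        exact Fp.hom_ext (Over.OverMorphism.ext rfl) (Over.OverMorphism.ext h'.symm)
    · exact ⟨fun {a b φ ψ} h => Over.OverMorphism.ext (congrArg (fun t => t.hom.fst.left) h :)⟩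
    · have hη := Fp.iso_lift η
      have hs : η.obj.snd.left = η.obj.fst.left := Fp.snd_proj η
      have := overCat_hom_eq η.obj.iso.hom (R := (_root_.FibCat.overCat Z).p.obj η.obj.fst) hs.symm
      let l : η.obj.fst.left ⟶ pullback g f :=
        pullback.lift η.obj.fst.hom (eqToHom hs.symm ≫ η.obj.snd.hom) (by
          rw [Category.assoc]; exact this)
      refine ⟨Over.mk l, Fp.isoMk (Over.isoMk (Iso.refl _) ?_) (Over.isoMk (eqToIso hs.symm) ?_) ?_, ?_⟩
      · change 𝟙 _ ≫ η.obj.fst.hom = l ≫ pullback.fst g f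
        simp [l]
      · change eqToHom hs.symm ≫ η.obj.snd.hom = l ≫ pullback.snd g f
        simp [l]
      · apply Over.OverMorphism.ext
        have h1 := map_eq_eqToHom (_root_.FibCat.overCat Y).p (R := (_root_.FibCat.overCat Z).p.obj η.obj.fst) η.obj.iso.hom
        change 𝟙 _ ≫ η.obj.iso.hom.left = 𝟙 _ ≫ eqToHom hs.symm
        simp only [Category.id_comp]
        exact h1
      · exact (Fp.isHomLift_iff _ _).2 (IsHomLift.of_fac' (_root_.FibCat.overCat Z).p _ _ rfl rfl (by simp; rfl))
  obtain ⟨E', hE', -, -⟩ := IsEquivOver.symm hE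
  exact ⟨_, E', hE'⟩

theorem isRepresentable1_overMap [HasPullbacks C] {X Y : C} (f : X ⟶ Y) :
    _root_.FibCat.IsRepresentable1 (overMap f) :=
  fun _ y => isRepresentable_of_equiv (Fp.isEquivOver_congr (isoOverMap y) (Iso.refl _))
    (isRepresentable_fp_overMap (sliceHom y) f)

end GrothLib.FibCat
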