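import Groth.Agent.Lib.FibCat.Diag

/-!
# Representable diagonal
-/

set_option backward.isDefEq.respectTransparency false
set_option backward.isDefEq.respectTransparency.types false

universe v₂ u₂ v u

open CategoryTheory CategoryTheory.Functor CategoryTheory.Limits

namespace GrothLib.FibCat

variable {C : Type u} [Category.{v} C] {𝒜 : BasedCategory.{v₂, u₂} C}

theorem structHom_congr {U : C} {H H' : 𝒜 ⥤ᵇ _root_.FibCat.overCat U} (α : H ≅ H') (a : 𝒜.obj) :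
    structHom H a = structHom H' a := by
  have := isHomLift_isoApp α (x := a) rfl
  have h : (H.obj a).left = (H'.obj a).left := (H.w_obj a).trans (H'.w_obj a).symm
  rw [structHom, structHom, overCat_hom_eq (isoApp α a).hom (R := 𝒜.p.obj a) h, eqToHom_trans_assoc]

theorem structHom_comp_overMap {U V : C} (H : 𝒜 ⥤ᵇ _root_.FibCat.overCat U) (f : U ⟶ V) (a : 𝒜.obj) :
    structHom (BasedFunctor.comp H (overMap f)) a = structHom H a ≫ f := by
  change eqToHom (H.w_obj a).symm ≫ ((H.obj a).hom ≫ f) = (eqToHom (H.w_obj a).symm ≫ (H.obj a).hom) ≫ f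
  exact (Category.assoc _ _ _).symm

theorem structHom_comp {U V : C} (H : 𝒜 ⥤ᵇ _root_.FibCat.overCat U)
    (k : _root_.FibCat.overCat U ⥤ᵇ _root_.FibCat.overCat V) (a : 𝒜.obj) :
    structHom (BasedFunctor.comp H k) a = structHom H a ≫ sliceHom k := by
  rw [structHom_congr (whiskerLeftIso H (isoOverMap k)) a, structHom_comp_overMap]

theorem structHom_id {U : C} (a : (_root_.FibCat.overCat U).obj) :
    structHom (BasedFunctor.id (_root_.FibCat.overCat U)) a = a.hom := by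
  change 𝟙 _ ≫ a.hom = a.hom
  simp

/-- An isomorphism between objects of a slice with the same structure morphism, over a given base object. -/
theorem exists_iso_of_structHom_eq {U : C} {H H' : 𝒜 ⥤ᵇ _root_.FibCat.overCat U} (a : 𝒜.obj)
    (h : structHom H a = structHom H' a) :
    ∃ j : H.obj a ≅ H'.obj a, (_root_.FibCat.overCat U).p.IsHomLift (𝟙 (𝒜.p.obj a)) j.hom := by
  refine ⟨Over.isoMk (eqToIso ((H.w_obj a).trans (H'.w_obj a).symm)) ?_, ?_⟩
  · change eqToHom ((H.w_obj a).trans (H'.w_obj a).symm) ≫ (H'.obj a).hom = (H.obj a).hom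
    rw [← cancel_epi (eqToHom (H.w_obj a).symm)]
    exact ((Category.assoc _ _ _).symm.trans (by rw [eqToHom_trans]; rfl)).trans h.symm
  · exact IsHomLift.of_fac' (_root_.FibCat.overCat U).p _ _ (H.w_obj a) (H'.w_obj a) (by simp; rfl)

variable {𝒮 : BasedCategory.{v, max u v} C}

/-- The base change of `G : C/U ⟶ 𝒮` along `y : C/V ⟶ 𝒮` is a base change of the diagonal. -/
theorem exists_isEquivOver_fp_diag_prod {𝒮 : BasedCategory.{v₂, u₂} C} [HasBinaryProducts C]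
    (h𝒮 : _root_.FibCat.IsFibGrpd 𝒮.p) {U V : C} (G : _root_.FibCat.overCat U ⥤ᵇ 𝒮)
    (y : _root_.FibCat.overCat V ⥤ᵇ 𝒮) :
    ∃ (w : _root_.FibCat.overCat (V ⨯ U) ⥤ᵇ _root_.FibCat.fp (_root_.FibCat.toSelf 𝒮) (_root_.FibCat.toSelf 𝒮))
      (E : _root_.FibCat.fp w (_root_.FibCat.diag (_root_.FibCat.toSelf 𝒮)) ⥤ᵇ _root_.FibCat.fp y G),
      _root_.FibCat.IsEquivOver E := by
  let p₁ : V ⨯ U ⟶ V := prod.fst
  let p₂ : V ⨯ U ⟶ U := prod.snd
  let y₁ := BasedFunctor.comp (overMap p₁) y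
  let y₂ := BasedFunctor.comp (overMap p₂) G
  let e₀ : BasedFunctor.comp y₁ (_root_.FibCat.toSelf 𝒮) ≅ BasedFunctor.comp y₂ (_root_.FibCat.toSelf 𝒮) :=
    natIsoOfComponents (fun a => eqToIso (show 𝒮.p.obj (y₁.obj a) = 𝒮.p.obj (y₂.obj a) from (y₁.w_obj a).trans (y₂.w_obj a).symm))
      (fun a => IsHomLift.eqToHom_domain_lift_id (p := (_root_.FibCat.selfOver C).p) (show 𝒮.p.obj (y₁.obj a) = 𝒮.p.obj (y₂.obj a) from (y₁.w_obj a).trans (y₂.w_obj a).symm) (y₁.w_obj a))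
      (fun {a b} φ => by
        change 𝒮.p.map (y₁.map φ) ≫ eqToHom ((y₁.w_obj b).trans (y₂.w_obj b).symm) =
          eqToHom ((y₁.w_obj a).trans (y₂.w_obj a).symm) ≫ 𝒮.p.map (y₂.map φ)
        rw [p_map_map, p_map_map]
        simp)
  let w := _root_.FibCat.fpLift y₁ y₂ e₀
  let M : _root_.FibCat.fp y₁ y₂ ⥤ᵇ _root_.FibCat.fp y G :=
    Fp.map (overMap p₁) (overMap p₂) (BasedFunctor.id 𝒮) (Iso.refl _) (Iso.refl _)
  have M_iso : ∀ z, (M.obj z).obj.iso.hom = z.obj.iso.hom := fun z => (Category.id_comp _).trans (Category.comp_id _)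
  refine ⟨w, BasedFunctor.comp (pairToFp w) M, ?_⟩
  have := faithful_pairToFp w
  refine FFEssSurjOver.isEquivOver ⟨⟨fun {a b} ψ => ?_⟩, ⟨fun {a b φ φ'} hh => ?_⟩, fun η => ?_⟩
  · let ψ₁ : a.obj.fst.left ⟶ b.obj.fst.left := ψ.hom.fst.left
    have hs : ψ.hom.snd.left = ψ₁ := by
      have h3 := IsHomLift.fac' (_root_.FibCat.overCat U).p ((_root_.FibCat.fp y G).p.map ψ) ψ.hom.snd
      exact h3.trans (by erw [eqToHom_refl, eqToHom_refl, Category.id_comp, Category.comp_id]; rfl)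
    have hf1 : ψ₁ ≫ (b.obj.fst.hom ≫ p₁) = a.obj.fst.hom ≫ p₁ := Over.w ψ.hom.fst
    have hf2 : ψ₁ ≫ (b.obj.fst.hom ≫ p₂) = a.obj.fst.hom ≫ p₂ := hs ▸ Over.w ψ.hom.snd
    let g : a.obj.fst ⟶ b.obj.fst := Over.homMk ψ₁
      (prod.hom_ext (by rw [Category.assoc]; exact hf1) (by rw [Category.assoc]; exact hf2))
    have e1 : (overMap p₁).map g = ψ.hom.fst := Over.OverMorphism.ext rfl
    have e2 : (overMap p₂).map g = ψ.hom.snd := Over.OverMorphism.ext hs.symm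
    have hw : y.map ψ.hom.fst ≫ (M.obj ((pairToFp w).obj b)).obj.iso.hom =
        (M.obj ((pairToFp w).obj a)).obj.iso.hom ≫ G.map ψ.hom.snd := Fp.w ψ
    rw [M_iso, M_iso, ← e1, ← e2] at hw
    let χ : (pairToFp w).obj a ⟶ (pairToFp w).obj b := Fp.homMk g g hw
    obtain ⟨φ, hφ⟩ := exists_map_pairToFp w χ rfl
    refine ⟨φ, ?_⟩
    change M.map ((pairToFp w).map φ) = ψ
    rw [hφ]
    exact Fp.hom_ext e1 e2
  · refine (pairToFp w).toFunctor.map_injective (Fp.hom_ext (Over.OverMorphism.ext ?_) (Over.OverMorphism.ext ?_))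
    · exact congrArg (fun t => t.hom.fst.left) hh
    · exact congrArg (fun t => t.hom.snd.left) hh
  · have hsl : η.obj.snd.left = η.obj.fst.left := Fp.snd_proj η
    let b : (_root_.FibCat.overCat (V ⨯ U)).obj := Over.mk (prod.lift η.obj.fst.hom (eqToHom hsl.symm ≫ η.obj.snd.hom))
    let i₁ : (overMap p₁).obj b ≅ η.obj.fst := Over.isoMk (Iso.refl η.obj.fst.left) (by
      change 𝟙 _ ≫ η.obj.fst.hom = prod.lift _ _ ≫ p₁
      simp [p₁])
    let i₂ : (overMap p₂).obj b ≅ η.obj.snd := Over.isoMk (eqToIso hsl.symm) (by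
      change eqToHom hsl.symm ≫ η.obj.snd.hom = prod.lift _ _ ≫ p₂
      simp only [p₂, prod.lift_snd])
    have hi₁ : (_root_.FibCat.overCat V).p.IsHomLift (𝟙 η.obj.fst.left) i₁.hom :=
      IsHomLift.of_fac' _ _ _ rfl rfl (by simp [i₁]; rfl)
    have hi₂ : (_root_.FibCat.overCat U).p.IsHomLift (𝟙 η.obj.fst.left) i₂.hom :=
      IsHomLift.of_fac' _ _ _ rfl hsl (by simp [i₂]; rfl)
    have hη : 𝒮.p.IsHomLift (𝟙 η.obj.fst.left) η.obj.iso.hom := Fp.iso_lift η
    let i : y₁.obj b ≅ y₂.obj b := y.toFunctor.mapIso i₁ ≪≫ η.obj.iso ≪≫ (G.toFunctor.mapIso i₂).symm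
    have hi : 𝒮.p.IsHomLift (𝟙 η.obj.fst.left) i.hom := by
      have := isHomLift_id_inv (_root_.FibCat.overCat U).p (R := η.obj.fst.left) i₂
      exact inferInstanceAs (𝒮.p.IsHomLift (𝟙 η.obj.fst.left) (y.map i₁.hom ≫ η.obj.iso.hom ≫ G.map i₂.inv))
    have hi' : 𝒮.p.IsHomLift (𝟙 (𝒮.p.obj (w.obj b).obj.fst)) i.hom := isHomLift_id_domain 𝒮.p (R := η.obj.fst.left) i.hom
    obtain ⟨x, ε, hε⟩ := exists_obj_pairToFp w h𝒮 b i hi (selfOver_hom_ext _ _ (Fp.iso_lift (w.obj b))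
      (BasedFunctor.preserves_isHomLift (_root_.FibCat.toSelf 𝒮) (𝟙 (𝒮.p.obj (w.obj b).obj.fst)) i.hom))
    let ε₂ : M.obj (Fp.mk b b i hi) ≅ η := Fp.isoMk i₁ i₂ (by
      rw [M_iso]
      change y.map i₁.hom ≫ η.obj.iso.hom = (y.map i₁.hom ≫ η.obj.iso.hom ≫ G.map i₂.inv) ≫ G.map i₂.hom
      rw [Category.assoc, Category.assoc, ← G.map_comp, i₂.inv_hom_id, G.map_id, Category.comp_id])
    refine ⟨x, M.toFunctor.mapIso ε ≪≫ ε₂, ?_⟩
    have h1 : (_root_.FibCat.fp y G).p.IsHomLift (𝟙 η.obj.fst.left) (M.map ε.hom) := (M.isHomLift_iff _ _).2 hε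
    have h2 : (_root_.FibCat.fp y G).p.IsHomLift (𝟙 η.obj.fst.left) ε₂.hom := (Fp.isHomLift_iff _ _).2 hi₁
    exact inferInstanceAs ((_root_.FibCat.fp y G).p.IsHomLift (𝟙 η.obj.fst.left) (M.map ε.hom ≫ ε₂.hom))

/-- The base change of `G` along `y` is some base change of the diagonal. -/
theorem exists_isEquivOver_fp_diag {𝒮 : BasedCategory.{v₂, u₂} C} [HasBinaryProducts C]
    (h𝒮 : _root_.FibCat.IsFibGrpd 𝒮.p) {U V : C} (G : _root_.FibCat.overCat U ⥤ᵇ 𝒮)
    (y : _root_.FibCat.overCat V ⥤ᵇ 𝒮) :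
    ∃ (W : C) (w : _root_.FibCat.overCat W ⥤ᵇ _root_.FibCat.fp (_root_.FibCat.toSelf 𝒮) (_root_.FibCat.toSelf 𝒮))
      (E : _root_.FibCat.fp w (_root_.FibCat.diag (_root_.FibCat.toSelf 𝒮)) ⥤ᵇ _root_.FibCat.fp y G),
      _root_.FibCat.IsEquivOver E :=
  let ⟨w, E, hE⟩ := exists_isEquivOver_fp_diag_prod h𝒮 G y
  ⟨V ⨯ U, w, E, hE⟩

theorem isRepresentable1_of_diag (h : _root_.FibCat.IsRepresentable1 (_root_.FibCat.diag (_root_.FibCat.toSelf 𝒮)))
    [HasBinaryProducts C] (h𝒮 : _root_.FibCat.IsFibGrpd 𝒮.p) {U : C} (G : _root_.FibCat.overCat U ⥤ᵇ 𝒮) :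
    _root_.FibCat.IsRepresentable1 G := fun _ y =>
  let ⟨W, w, _, hE⟩ := exists_isEquivOver_fp_diag h𝒮 G y
  isRepresentable_of_equiv' hE (h W w)

theorem isRepresentable1_diag_of (h : ∀ (U : C) (G : _root_.FibCat.overCat U ⥤ᵇ 𝒮), _root_.FibCat.IsRepresentable1 G)
    [HasBinaryProducts C] [HasPullbacks C] (h𝒮 : _root_.FibCat.IsFibGrpd 𝒮.p) :
    _root_.FibCat.IsRepresentable1 (_root_.FibCat.diag (_root_.FibCat.toSelf 𝒮)) := by
  intro U w
  let y₁ := BasedFunctor.comp w (_root_.FibCat.fpFst _ _)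
  let y₂ := BasedFunctor.comp w (_root_.FibCat.fpSnd _ _)
  obtain ⟨W, K, hK⟩ := h U y₂ U y₁
  obtain ⟨K', hK', ⟨η⟩, ⟨ε⟩⟩ := IsEquivOver.symm hK
  let f₁ := _root_.FibCat.fpFst y₁ y₂
  let f₂ := _root_.FibCat.fpSnd y₁ y₂
  let p := sliceHom (BasedFunctor.comp K' f₁)
  let q := sliceHom (BasedFunctor.comp K' f₂)
  have hf₁ : ∀ o, structHom f₁ o = structHom K o ≫ p := fun o =>
    (structHom_congr ((whiskerRightIso η f₁).symm) o).trans (structHom_comp K (BasedFunctor.comp K' f₁) o)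
  have hf₂ : ∀ o, structHom f₂ o = structHom K o ≫ q := fun o =>
    (structHom_congr ((whiskerRightIso η f₂).symm) o).trans (structHom_comp K (BasedFunctor.comp K' f₂) o)
  let δ : U ⟶ U ⨯ U := prod.lift (𝟙 U) (𝟙 U)
  have : Mono δ := mono_of_mono_fac (show δ ≫ prod.fst = 𝟙 U by simp [δ])
  let m := pullback.fst (prod.lift p q) δ
  have hpq : ∀ {T : C} (l : T ⟶ W), (∃ r, r ≫ m = l) ↔ l ≫ p = l ≫ q := by
    intro T l
    refine ⟨fun ⟨r, hr⟩ => ?_, fun e => ⟨pullback.lift l (l ≫ p) (prod.hom_ext (by simp [δ]) (by simp [δ, e])), pullback.lift_fst _ _ _⟩⟩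
    have := congrArg (fun t => r ≫ t) (pullback.condition (f := prod.lift p q) (g := δ))
    have h1 := congrArg (· ≫ prod.fst) this
    have h2 := congrArg (· ≫ prod.snd) this
    simp only [Category.assoc, prod.lift_fst, prod.lift_snd, δ, Category.comp_id] at h1 h2
    rw [← hr, Category.assoc, Category.assoc]
    exact h1.trans h2.symm
  have := faithful_pairToFp w
  have hfull : (pairToFp w).toFunctor.Full := ⟨fun {a b} ψ => by
    refine exists_map_pairToFp w ψ (IsFibSetoid.hom_ext (isFibSetoid_overCat U) ?_)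
    have h3 := IsHomLift.fac' (_root_.FibCat.overCat U).p ((_root_.FibCat.fp y₁ y₂).p.map ψ) ψ.hom.snd
    exact ((h3.trans (by erw [eqToHom_refl, eqToHom_refl, Category.id_comp, Category.comp_id]; rfl))).symm⟩
  let H := BasedFunctor.comp (pairToFp w) K
  have := IsEquivOver.full hK
  have := IsEquivOver.faithful hK
  have : H.toFunctor.Full := inferInstanceAs ((pairToFp w).toFunctor ⋙ K.toFunctor).Full
  have : H.toFunctor.Faithful := inferInstanceAs ((pairToFp w).toFunctor ⋙ K.toFunctor).Faithful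
  have key : ∀ x, structHom H x = eqToHom ((pairToFp w).w_obj x).symm ≫ structHom K ((pairToFp w).obj x) := fun x => by
    change eqToHom _ ≫ (K.obj ((pairToFp w).obj x)).hom = _ ≫ eqToHom _ ≫ _
    rw [eqToHom_trans_assoc]
  refine isRepresentable_of_mono H m (fun x => (hpq _).2 ?_) (fun {T} l => ?_)
  · rw [key, Category.assoc, Category.assoc, ← hf₁, ← hf₂]
    exact rfl
  · let z : (_root_.FibCat.overCat W).obj := Over.mk (l ≫ m)
    have hz : structHom (BasedFunctor.comp K' f₁) z = structHom (BasedFunctor.comp K' f₂) z := by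
      have e1 := structHom_comp (BasedFunctor.id _) (BasedFunctor.comp K' f₁) z
      have e2 := structHom_comp (BasedFunctor.id _) (BasedFunctor.comp K' f₂) z
      rw [structHom_id] at e1 e2
      exact e1.trans (((hpq (l ≫ m)).1 ⟨l, rfl⟩).trans e2.symm)
    obtain ⟨j, hj⟩ := exists_iso_of_structHom_eq z hz
    let o := K'.obj z
    let a : (_root_.FibCat.overCat U).obj := o.obj.fst
    have ho : a.left = T := K'.w_obj z
    let i : y₁.obj a ≅ y₂.obj a := o.obj.iso ≪≫ y₂.toFunctor.mapIso j.symm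
    have hi : 𝒮.p.IsHomLift (𝟙 a.left) i.hom := by
      have : 𝒮.p.IsHomLift (𝟙 a.left) o.obj.iso.hom := Fp.iso_lift o
      have hj' : (_root_.FibCat.overCat U).p.IsHomLift (𝟙 T) j.hom := hj
      have := isHomLift_id_inv (_root_.FibCat.overCat U).p (R := T) j
      have : (_root_.FibCat.overCat U).p.IsHomLift (𝟙 a.left) j.inv :=
        isHomLift_id_of_eq (_root_.FibCat.overCat U).p (R := T) j.inv (Or.inr rfl)
      exact inferInstanceAs (𝒮.p.IsHomLift (𝟙 a.left) (o.obj.iso.hom ≫ y₂.map j.inv))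
    have hi' : 𝒮.p.IsHomLift (𝟙 (𝒮.p.obj (w.obj a).obj.fst)) i.hom := isHomLift_id_domain 𝒮.p (R := a.left) i.hom
    obtain ⟨x, e, he⟩ := exists_obj_pairToFp w h𝒮 a i hi (selfOver_hom_ext _ _ (Fp.iso_lift (w.obj a))
      (BasedFunctor.preserves_isHomLift (_root_.FibCat.toSelf 𝒮) (𝟙 (𝒮.p.obj (w.obj a).obj.fst)) i.hom))
    let e₂ : Fp.mk a a i hi ≅ o := Fp.isoMk (Iso.refl a) j (by
      change y₁.map (𝟙 a) ≫ o.obj.iso.hom = (o.obj.iso.hom ≫ y₂.map j.inv) ≫ y₂.map j.hom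
      have e : y₂.map j.inv ≫ y₂.map j.hom = 𝟙 _ :=
        (y₂.map_comp _ _).symm.trans ((congrArg y₂.map j.inv_hom_id).trans (y₂.map_id _))
      rw [Category.assoc, e, y₁.map_id, Category.id_comp]
      exact (Category.comp_id _).symm)
    let θ : H.obj x ≅ z := K.toFunctor.mapIso (e ≪≫ e₂) ≪≫ isoApp ε z
    have hθ : (_root_.FibCat.overCat W).p.IsHomLift (𝟙 T) θ.hom := by
      have h1 : (_root_.FibCat.fp y₁ y₂).p.IsHomLift (𝟙 a.left) e₂.hom := (Fp.isHomLift_iff _ _).2 (IsHomLift.id rfl)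
      have h2 : (_root_.FibCat.fp y₁ y₂).p.IsHomLift (𝟙 a.left) e.hom := he
      have h3 : (_root_.FibCat.fp y₁ y₂).p.IsHomLift (𝟙 T) (e.hom ≫ e₂.hom) := by rw [← ho]; infer_instance
      have h4 := isHomLift_isoApp ε (x := z) (U := T) rfl
      exact inferInstanceAs ((_root_.FibCat.overCat W).p.IsHomLift (𝟙 T) (K.map (e.hom ≫ e₂.hom) ≫ (isoApp ε z).hom))
    have hl : (H.obj x).left = z.left := IsHomLift.domain_eq (_root_.FibCat.overCat W).p (𝟙 T) θ.hom
    refine ⟨x, (H.w_obj x).symm.trans hl, ?_⟩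
    rw [structHom, overCat_hom_eq θ.hom (R := T) hl, eqToHom_trans_assoc]
    rfl

theorem isRepresentable1_diag_iff [HasBinaryProducts C] [HasPullbacks C] (h𝒮 : _root_.FibCat.IsFibGrpd 𝒮.p) :
    _root_.FibCat.IsRepresentable1 (_root_.FibCat.diag (_root_.FibCat.toSelf 𝒮)) ↔
      ∀ (U : C) (G : _root_.FibCat.overCat U ⥤ᵇ 𝒮), _root_.FibCat.IsRepresentable1 G :=
  ⟨fun h _ G => isRepresentable1_of_diag h h𝒮 G, fun h => isRepresentable1_diag_of h h𝒮⟩

end GrothLib.FibCat
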