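import Groth.Agent.Lib.FibCat.FpMap

/-!
# Representable categories and representable 1-morphisms
-/

set_option backward.isDefEq.respectTransparency false
set_option backward.isDefEq.respectTransparency.types false

universe v₇ u₇ v₆ u₆ v₅ u₅ v₄ u₄ v₃ u₃ v₂ u₂ v u

open CategoryTheory CategoryTheory.Functor

namespace GrothLib.FibCat

variable {C : Type u} [Category.{v} C]
variable {𝒳 : BasedCategory.{v₂, u₂} C} {𝒴 : BasedCategory.{v₃, u₃} C} {𝒵 : BasedCategory.{v₄, u₄} C}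
variable {𝒳' : BasedCategory.{v₅, u₅} C} {𝒴' : BasedCategory.{v₆, u₆} C}

theorem isRepresentable_of_equiv {F : 𝒳 ⥤ᵇ 𝒴} (h : _root_.FibCat.IsEquivOver F)
    (hr : _root_.FibCat.IsRepresentable 𝒴) : _root_.FibCat.IsRepresentable 𝒳 := by
  obtain ⟨U, G, hG⟩ := hr
  exact ⟨U, BasedFunctor.comp F G, IsEquivOver.comp h hG⟩

theorem isRepresentable_of_equiv' {F : 𝒳 ⥤ᵇ 𝒴} (h : _root_.FibCat.IsEquivOver F)
    (hr : _root_.FibCat.IsRepresentable 𝒳) : _root_.FibCat.IsRepresentable 𝒴 := by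
  obtain ⟨G, hG, -, -⟩ := IsEquivOver.symm h
  exact isRepresentable_of_equiv hG hr

theorem isRepresentable_overCat (U : C) : _root_.FibCat.IsRepresentable (_root_.FibCat.overCat U) :=
  ⟨U, BasedFunctor.id _, IsEquivOver.refl _⟩

theorem isRepresentable1_of_iso {f f' : 𝒳 ⥤ᵇ 𝒴} (α : f ≅ f') (h : _root_.FibCat.IsRepresentable1 f) :
    _root_.FibCat.IsRepresentable1 f' :=
  fun U y => isRepresentable_of_equiv' (Fp.isEquivOver_congr (Iso.refl y) α) (h U y)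

/-- Representability of a 1-morphism is inherited by composites. -/
theorem isRepresentable1_comp {f : 𝒳 ⥤ᵇ 𝒴} {g : 𝒴 ⥤ᵇ 𝒵} (hf : _root_.FibCat.IsRepresentable1 f)
    (hg : _root_.FibCat.IsRepresentable1 g) : _root_.FibCat.IsRepresentable1 (BasedFunctor.comp f g) := by
  intro U y
  obtain ⟨V, E, hE⟩ := hg U y
  obtain ⟨E', hE', -, -⟩ := IsEquivOver.symm hE
  let w := BasedFunctor.comp E' (_root_.FibCat.fpSnd y g)
  have : (BasedFunctor.id 𝒴).toFunctor.Full := IsEquivOver.full (IsEquivOver.refl 𝒴)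
  have : (BasedFunctor.id 𝒴).toFunctor.Faithful := IsEquivOver.faithful (IsEquivOver.refl 𝒴)
  have he := IsEquivOver.comp
    (Fp.isEquivOver_map (F := w) (G := f) (F' := _root_.FibCat.fpSnd y g) (G' := f) E' (BasedFunctor.id 𝒳)
      (BasedFunctor.id 𝒴) (Iso.refl _) (Iso.refl _) hE' (IsEquivOver.refl 𝒳))
    (Fp.isEquivOver_pasteComp f g y)
  exact isRepresentable_of_equiv' he (hf V w)

theorem isRepresentable1_fpFst {f : 𝒳 ⥤ᵇ 𝒴} (g : 𝒵 ⥤ᵇ 𝒴) (hf : _root_.FibCat.IsRepresentable1 f) :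
    _root_.FibCat.IsRepresentable1 (_root_.FibCat.fpFst g f) :=
  fun U y => isRepresentable_of_equiv (Fp.isEquivOver_paste f g y) (hf U (BasedFunctor.comp y g))

theorem isRepresentable1_fpSnd {f : 𝒳 ⥤ᵇ 𝒴} (g : 𝒵 ⥤ᵇ 𝒴) (hf : _root_.FibCat.IsRepresentable1 f) :
    _root_.FibCat.IsRepresentable1 (_root_.FibCat.fpSnd f g) := by
  intro U y
  have : (BasedFunctor.id 𝒵).toFunctor.Full := IsEquivOver.full (IsEquivOver.refl 𝒵)
  have : (BasedFunctor.id 𝒵).toFunctor.Faithful := IsEquivOver.faithful (IsEquivOver.refl 𝒵)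
  exact isRepresentable_of_equiv (Fp.isEquivOver_map (F := y) (G := _root_.FibCat.fpSnd f g) (F' := y)
    (G' := _root_.FibCat.fpFst g f) (BasedFunctor.id _) (Fp.symm f g) (BasedFunctor.id 𝒵) (Iso.refl _) (Iso.refl _)
    (IsEquivOver.refl _) (Fp.isEquivOver_symm f g)) (isRepresentable1_fpFst g hf U y)

theorem isRepresentable1_of_square {f : 𝒳 ⥤ᵇ 𝒴} {f' : 𝒳' ⥤ᵇ 𝒴'} (a : 𝒳' ⥤ᵇ 𝒳) (b : 𝒴' ⥤ᵇ 𝒴)
    (ha : _root_.FibCat.IsEquivOver a) (hb : _root_.FibCat.IsEquivOver b)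
    (e : BasedFunctor.comp f' b ≅ BasedFunctor.comp a f) :
    _root_.FibCat.IsRepresentable1 f ↔ _root_.FibCat.IsRepresentable1 f' := by
  have := IsEquivOver.full hb
  have := IsEquivOver.faithful hb
  refine ⟨fun h U y => ?_, fun h U y => ?_⟩
  · exact isRepresentable_of_equiv (Fp.isEquivOver_map (F := y) (G := f') (F' := BasedFunctor.comp y b) (G' := f)
      (BasedFunctor.id _) a b (Iso.refl _) e.symm (IsEquivOver.refl _) ha) (h U _)
  · obtain ⟨b', -, -, ⟨ε⟩⟩ := IsEquivOver.symm hb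
    exact isRepresentable_of_equiv' (Fp.isEquivOver_map (F := BasedFunctor.comp y b') (G := f') (F' := y) (G' := f)
      (BasedFunctor.id _) a b (whiskerLeftIso y ε).symm e.symm (IsEquivOver.refl _) ha) (h U _)

/-- A category fibred in groupoids is representable by the terminal object if it has one. -/
theorem isRepresentable_of_terminal (h : _root_.FibCat.IsFibGrpd 𝒳.p) (ξ : 𝒳.obj)
    (hξ : ∀ ρ : 𝒳.obj, Nonempty (Unique (ρ ⟶ ξ))) : _root_.FibCat.IsRepresentable 𝒳 := by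
  obtain ⟨G, e, he⟩ := Yon.exists_functor h ξ rfl
  have sub : ∀ ρ : 𝒳.obj, Subsingleton (ρ ⟶ ξ) := fun ρ => (hξ ρ).some.instSubsingleton
  have hfa : G.toFunctor.Faithful := ⟨fun {a b φ ψ} h =>
    IsFibSetoid.hom_ext (isFibSetoid_overCat _) (by
      have := p_map_map G φ
      rw [show G.map φ = G.map ψ from h, p_map_map G ψ] at this
      exact ((cancel_mono (eqToHom (G.w_obj b).symm)).1 ((cancel_epi (eqToHom (G.w_obj a))).1 this)).symm)⟩
  have hfu : G.toFunctor.Full := ⟨fun {a b} ψ => by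
    let f : a.left ⟶ b.left := eqToHom (G.w_obj a).symm ≫ 𝒳.p.map ψ ≫ eqToHom (G.w_obj b)
    have hf : 𝒳.p.IsHomLift f ψ := IsHomLift.of_fac 𝒳.p f ψ (G.w_obj a) (G.w_obj b) rfl
    have h2 : 𝒳.p.IsHomLift (f ≫ b.hom) (ψ ≫ G.map (Yon.toId b) ≫ e.hom) := by
      have := Yon.toId_lift b
      have : 𝒳.p.IsHomLift b.hom (G.map (Yon.toId b) ≫ e.hom) :=
        IsHomLift.comp_lift_id_right' 𝒳.p b.hom (G.map (Yon.toId b)) (𝒳.p.obj ξ) e.hom
      infer_instance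
    have h3 : 𝒳.p.IsHomLift a.hom (G.map (Yon.toId a) ≫ e.hom) := by
      have := Yon.toId_lift a
      exact IsHomLift.comp_lift_id_right' 𝒳.p a.hom (G.map (Yon.toId a)) (𝒳.p.obj ξ) e.hom
    have hw : f ≫ b.hom = a.hom := by
      have e1 := (sub _).allEq (ψ ≫ G.map (Yon.toId b) ≫ e.hom) (G.map (Yon.toId a) ≫ e.hom)
      have h2' : 𝒳.p.IsHomLift (f ≫ b.hom) (G.map (Yon.toId a) ≫ e.hom) := e1 ▸ h2
      exact (IsHomLift.fac 𝒳.p (f ≫ b.hom) (G.map (Yon.toId a) ≫ e.hom)).trans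
        (IsHomLift.fac 𝒳.p a.hom (G.map (Yon.toId a) ≫ e.hom)).symm
    refine ⟨Over.homMk f hw, ?_⟩
    have : (_root_.FibCat.overCat _).p.IsHomLift f (Over.homMk f hw : a ⟶ b) :=
      IsHomLift.map (_root_.FibCat.overCat _).p (Over.homMk f hw : a ⟶ b)
    have : 𝒳.p.IsHomLift f (G.map (Over.homMk f hw : a ⟶ b)) := inferInstance
    have := Yon.toId_lift b
    refine IsFibGrpd.hom_ext h f b.hom (G.map (Yon.toId b)) ?_
    rw [← cancel_mono e.hom]
    exact (sub _).allEq _ _⟩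
  have hG : _root_.FibCat.IsEquivOver G := FFEssSurjOver.isEquivOver ⟨hfu, hfa, fun η => by
    let φ : η ⟶ ξ := (hξ η).some.default
    let a : (_root_.FibCat.overCat (𝒳.p.obj ξ)).obj := Over.mk (𝒳.p.map φ)
    have := Yon.toId_lift a
    have : 𝒳.p.IsHomLift (𝒳.p.map φ) (G.map (Yon.toId a) ≫ e.hom) :=
      IsHomLift.comp_lift_id_right' 𝒳.p a.hom (G.map (Yon.toId a)) (𝒳.p.obj ξ) e.hom
    obtain ⟨u, hu, -⟩ := IsFibGrpd.exists_iso_of_lifts h (𝒳.p.map φ) φ (G.map (Yon.toId a) ≫ e.hom)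
    exact ⟨a, u, hu⟩⟩
  obtain ⟨G', hG', -, -⟩ := IsEquivOver.symm hG
  exact ⟨_, G', hG'⟩

end GrothLib.FibCat
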