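import Groth.Agent.Lib.FibCat.FibSet
import Groth.Prelude.Def_W4stkcategoriessitesFib

/-!
# Inertia
-/

set_option backward.isDefEq.respectTransparency false
set_option backward.isDefEq.respectTransparency.types false

universe v₃ u₃ v₂ u₂ v u

open CategoryTheory CategoryTheory.Functor

namespace GrothLib.FibCat

variable {C : Type u} [Category.{v} C]
variable {𝒳 : BasedCategory.{v₂, u₂} C} {𝒴 : BasedCategory.{v₃, u₃} C} {F : 𝒳 ⥤ᵇ 𝒴}

namespace Inertia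

theorem vertical (x : (_root_.FibCat.inertia F).obj) : 𝒳.p.IsHomLift (𝟙 (𝒳.p.obj x.pt)) x.aut.hom := by
  refine (F.isHomLift_iff _ _).1 ?_
  rw [x.map_aut]
  infer_instance

theorem isHomLift_iff {x y : (_root_.FibCat.inertia F).obj} (φ : x ⟶ y) {R S : C} (f : R ⟶ S) :
    (_root_.FibCat.inertia F).p.IsHomLift f φ ↔ 𝒳.p.IsHomLift f φ.hom :=
  ((_root_.FibCat.inertiaToBase F).isHomLift_iff f φ).symm

/-- Strongly cartesian morphisms of `𝒳` give strongly cartesian morphisms of the inertia. -/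
theorem isStronglyCartesian {x y : (_root_.FibCat.inertia F).obj} (φ : x ⟶ y) {R S : C} (f : R ⟶ S)
    [hc : 𝒳.p.IsStronglyCartesian f φ.hom] : (_root_.FibCat.inertia F).p.IsStronglyCartesian f φ := by
  have : (_root_.FibCat.inertia F).p.IsHomLift f φ := (isHomLift_iff φ f).2 inferInstance
  refine { universal_property' := fun {z} g ψ hψ => ?_ }
  have hψ' : 𝒳.p.IsHomLift (g ≫ f) ψ.hom := (isHomLift_iff ψ _).1 hψ
  obtain ⟨χ, ⟨hχ, hχ'⟩, hu⟩ := IsStronglyCartesian.universal_property 𝒳.p f φ.hom g (g ≫ f) rfl ψ.hom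
  have := vertical z
  have := vertical x
  have h1 : 𝒳.p.IsHomLift g (z.aut.hom ≫ χ) :=
    IsHomLift.comp_lift_id_left' 𝒳.p (𝒳.p.obj z.pt) z.aut.hom g χ
  have h2 : 𝒳.p.IsHomLift g (χ ≫ x.aut.hom) :=
    IsHomLift.comp_lift_id_right' 𝒳.p g χ (𝒳.p.obj x.pt) x.aut.hom
  have comm : z.aut.hom ≫ χ = χ ≫ x.aut.hom := by
    apply IsStronglyCartesian.ext 𝒳.p f φ.hom g
    rw [Category.assoc, Category.assoc, hχ', φ.comm, reassoc_of% hχ', ψ.comm]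
  refine ⟨⟨χ, comm⟩, ⟨(isHomLift_iff (⟨χ, comm⟩ : z ⟶ x) g).2 hχ,
    _root_.FibCat.InertiaObj.hom_ext hχ'⟩, fun χ' hχ' => ?_⟩
  exact _root_.FibCat.InertiaObj.hom_ext
    (hu _ ⟨(isHomLift_iff χ' g).1 hχ'.1, congrArg (fun t => t.hom) hχ'.2⟩)

theorem exists_stronglyCartesian_lift (hF : ∀ ⦃R S : C⦄ (f : R ⟶ S) ⦃a b : 𝒳.obj⦄ (φ : a ⟶ b),
    𝒳.p.IsStronglyCartesian f φ → 𝒴.p.IsStronglyCartesian f (F.map φ))
    (y : (_root_.FibCat.inertia F).obj) {R : C} (f : R ⟶ 𝒳.p.obj y.pt) {b : 𝒳.obj} (φ : b ⟶ y.pt)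
    [𝒳.p.IsStronglyCartesian f φ] :
    ∃ (x : (_root_.FibCat.inertia F).obj) (ψ : x ⟶ y), (_root_.FibCat.inertia F).p.IsStronglyCartesian f ψ := by
  have := vertical y
  have := isHomLift_id_inv 𝒳.p (R := 𝒳.p.obj y.pt) y.aut
  have h1 : 𝒳.p.IsHomLift f (φ ≫ y.aut.hom) := inferInstance
  have h2 : 𝒳.p.IsHomLift f (φ ≫ y.aut.inv) := inferInstance
  let β := IsCartesian.map 𝒳.p f φ (φ ≫ y.aut.hom)
  let β' := IsCartesian.map 𝒳.p f φ (φ ≫ y.aut.inv)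
  have hb : 𝒳.p.IsHomLift (𝟙 R) (𝟙 b) := IsHomLift.id (IsHomLift.domain_eq 𝒳.p f φ)
  let e : b ≅ b :=
    { hom := β
      inv := β'
      hom_inv_id := IsCartesian.ext 𝒳.p f φ _ _ (by simp [β, β'])
      inv_hom_id := IsCartesian.ext 𝒳.p f φ _ _ (by simp [β, β']) }
  have hFφ : 𝒴.p.IsStronglyCartesian f (F.map φ) := hF f φ inferInstance
  have hFb : 𝒴.p.IsHomLift (𝟙 R) (F.map β) := inferInstance
  have hFb' : 𝒴.p.IsHomLift (𝟙 R) (𝟙 (F.obj b)) :=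
    IsHomLift.id ((F.w_obj b).trans (IsHomLift.domain_eq 𝒳.p f φ))
  have he : F.map β = 𝟙 (F.obj b) := by
    apply IsCartesian.ext 𝒴.p f (F.map φ)
    rw [← F.map_comp, IsCartesian.fac, F.map_comp, y.map_aut]
    simp
  refine ⟨⟨b, e, he⟩, ⟨φ, by simp [e, β]⟩, ?_⟩
  exact isStronglyCartesian (x := ⟨b, e, he⟩) (y := y) ⟨φ, by simp [e, β]⟩ f

theorem isFibered [𝒳.p.IsFibered] (hF : ∀ ⦃R S : C⦄ (f : R ⟶ S) ⦃a b : 𝒳.obj⦄ (φ : a ⟶ b),
    𝒳.p.IsStronglyCartesian f φ → 𝒴.p.IsStronglyCartesian f (F.map φ)) :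
    (_root_.FibCat.inertia F).p.IsFibered :=
  Functor.IsFibered.of_exists_isStronglyCartesian fun y R f => by
    obtain ⟨b, φ, hφ⟩ := IsPreFibered.exists_isCartesian 𝒳.p (rfl : 𝒳.p.obj y.pt = _) f
    exact exists_stronglyCartesian_lift hF y f φ

theorem isFibGrpd (h𝒳 : _root_.FibCat.IsFibGrpd 𝒳.p) (h𝒴 : _root_.FibCat.IsFibGrpd 𝒴.p) :
    _root_.FibCat.IsFibGrpd (_root_.FibCat.inertia F).p := by
  constructor
  · intro y R f
    obtain ⟨b, φ, hφ⟩ := IsFibGrpd.exists_lift_of_eq h𝒳 (rfl : 𝒳.p.obj y.pt = _) f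
    have := IsFibGrpd.isStronglyCartesian' h𝒳 f φ
    obtain ⟨x, ψ, hψ⟩ := exists_stronglyCartesian_lift
      (fun R S f a b φ _ => IsFibGrpd.isStronglyCartesian' h𝒴 f (F.map φ)) y f φ
    exact ⟨x, ψ, inferInstance⟩
  · intro x y φ
    have := (isHomLift_iff φ _).1 (IsHomLift.map (_root_.FibCat.inertia F).p φ)
    have := IsFibGrpd.isStronglyCartesian' h𝒳 ((_root_.FibCat.inertia F).p.map φ) φ.hom
    exact isStronglyCartesian φ _

end Inertia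

end GrothLib.FibCat
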