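import Groth.Agent.Lib.FibCat.Fp

/-!
# Cartesian morphisms and lifts in 2-fibre products over the base
-/

set_option backward.isDefEq.respectTransparency false
set_option backward.isDefEq.respectTransparency.types false

universe v₂ v₃ v₄ u₂ u₃ u₄ v u

open CategoryTheory CategoryTheory.Functor CategoryTheory.Limits

namespace GrothLib.FibCat.Fp

variable {C : Type u} [Category.{v} C] {𝒳 : BasedCategory.{v₂, u₂} C} {𝒴 : BasedCategory.{v₃, u₃} C}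
  {𝒮 : BasedCategory.{v₄, u₄} C} {F : 𝒳 ⥤ᵇ 𝒮} {G : 𝒴 ⥤ᵇ 𝒮}

theorem compat {R' R : C} (g : R' ⟶ R) {c a : (_root_.FibCat.fp F G).obj} (α : c.obj.fst ⟶ a.obj.fst)
    (β : c.obj.snd ⟶ a.obj.snd) [𝒳.p.IsHomLift g α] [𝒴.p.IsHomLift g β] :
    𝒮.p.IsHomLift g (F.map α ≫ a.obj.iso.hom) ∧ 𝒮.p.IsHomLift g (c.obj.iso.hom ≫ G.map β) := by
  have : 𝒮.p.IsHomLift (𝟙 (𝒳.p.obj a.obj.fst)) a.obj.iso.hom := iso_lift a
  have : 𝒮.p.IsHomLift (𝟙 (𝒳.p.obj c.obj.fst)) c.obj.iso.hom := iso_lift c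
  exact ⟨IsHomLift.comp_lift_id_right' 𝒮.p g (F.map α) (𝒳.p.obj a.obj.fst) a.obj.iso.hom,
    IsHomLift.comp_lift_id_left' 𝒮.p (𝒳.p.obj c.obj.fst) c.obj.iso.hom g (G.map β)⟩

/-- Componentwise strongly cartesian morphisms are strongly cartesian. -/
theorem isStronglyCartesian {a b : (_root_.FibCat.fp F G).obj} (φ : a ⟶ b) {R S : C} (f : R ⟶ S)
    [𝒳.p.IsStronglyCartesian f φ.hom.fst] [𝒴.p.IsStronglyCartesian f φ.hom.snd]
    [𝒮.p.IsStronglyCartesian f (G.map φ.hom.snd)] : (_root_.FibCat.fp F G).p.IsStronglyCartesian f φ := by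
  have : (_root_.FibCat.fp F G).p.IsHomLift f φ := (isHomLift_iff φ f).2 inferInstance
  refine { universal_property' := fun {c} g ψ hψ => ?_ }
  have : 𝒳.p.IsHomLift (g ≫ f) ψ.hom.fst := (isHomLift_iff _ _).1 hψ
  have : 𝒴.p.IsHomLift (g ≫ f) ψ.hom.snd := isHomLift_snd _ _ hψ
  let α := IsStronglyCartesian.map 𝒳.p f φ.hom.fst (g := g) (f' := g ≫ f) rfl ψ.hom.fst
  let β := IsStronglyCartesian.map 𝒴.p f φ.hom.snd (g := g) (f' := g ≫ f) rfl ψ.hom.snd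
  have hα : 𝒳.p.IsHomLift g α := IsStronglyCartesian.map_isHomLift 𝒳.p f φ.hom.fst rfl ψ.hom.fst
  have hβ : 𝒴.p.IsHomLift g β := IsStronglyCartesian.map_isHomLift 𝒴.p f φ.hom.snd rfl ψ.hom.snd
  obtain ⟨i₁, i₂⟩ := compat g α β
  have w' : F.map α ≫ a.obj.iso.hom = c.obj.iso.hom ≫ G.map β := by
    refine IsStronglyCartesian.ext 𝒮.p f (G.map φ.hom.snd) g ?_
    rw [Category.assoc, Category.assoc, ← w φ, ← G.map_comp, IsStronglyCartesian.fac, ← F.map_comp_assoc,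
      IsStronglyCartesian.fac, ← w ψ]
  refine ⟨homMk α β w', ⟨(isHomLift_iff _ _).2 hα,
    hom_ext (IsStronglyCartesian.fac 𝒳.p f φ.hom.fst rfl ψ.hom.fst)
      (IsStronglyCartesian.fac 𝒴.p f φ.hom.snd rfl ψ.hom.snd)⟩, fun χ hχ => hom_ext ?_ ?_⟩
  · have : 𝒳.p.IsHomLift g χ.hom.fst := (isHomLift_iff _ _).1 hχ.1
    exact IsStronglyCartesian.map_uniq 𝒳.p f φ.hom.fst rfl _ _ (congrArg (fun t => t.hom.fst) hχ.2)
  · have : 𝒴.p.IsHomLift g χ.hom.snd := isHomLift_snd _ _ hχ.1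
    exact IsStronglyCartesian.map_uniq 𝒴.p f φ.hom.snd rfl _ _ (congrArg (fun t => t.hom.snd) hχ.2)

/-- Componentwise cartesian morphisms are cartesian. -/
theorem isCartesian {a b : (_root_.FibCat.fp F G).obj} (φ : a ⟶ b) {R S : C} (f : R ⟶ S)
    [𝒳.p.IsCartesian f φ.hom.fst] [𝒴.p.IsCartesian f φ.hom.snd]
    [𝒮.p.IsCartesian f (G.map φ.hom.snd)] : (_root_.FibCat.fp F G).p.IsCartesian f φ := by
  have : (_root_.FibCat.fp F G).p.IsHomLift f φ := (isHomLift_iff φ f).2 inferInstance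
  refine { universal_property := fun {c} ψ hψ => ?_ }
  have : 𝒳.p.IsHomLift f ψ.hom.fst := (isHomLift_iff _ _).1 hψ
  have : 𝒴.p.IsHomLift f ψ.hom.snd := isHomLift_snd _ _ hψ
  let α := IsCartesian.map 𝒳.p f φ.hom.fst ψ.hom.fst
  let β := IsCartesian.map 𝒴.p f φ.hom.snd ψ.hom.snd
  have hα : 𝒳.p.IsHomLift (𝟙 R) α := IsCartesian.map_isHomLift 𝒳.p f φ.hom.fst ψ.hom.fst
  have hβ : 𝒴.p.IsHomLift (𝟙 R) β := IsCartesian.map_isHomLift 𝒴.p f φ.hom.snd ψ.hom.snd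
  obtain ⟨i₁, i₂⟩ := compat (𝟙 R) α β
  have w' : F.map α ≫ a.obj.iso.hom = c.obj.iso.hom ≫ G.map β := by
    refine IsCartesian.ext 𝒮.p f (G.map φ.hom.snd) _ _ ?_
    rw [Category.assoc, Category.assoc, ← w φ, ← G.map_comp, IsCartesian.fac, ← F.map_comp_assoc,
      IsCartesian.fac, ← w ψ]
  refine ⟨homMk α β w', ⟨(isHomLift_iff _ _).2 hα,
    hom_ext (IsCartesian.fac 𝒳.p f φ.hom.fst ψ.hom.fst)
      (IsCartesian.fac 𝒴.p f φ.hom.snd ψ.hom.snd)⟩, fun χ hχ => hom_ext ?_ ?_⟩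
  · have : 𝒳.p.IsHomLift (𝟙 R) χ.hom.fst := (isHomLift_iff _ _).1 hχ.1
    exact IsCartesian.map_uniq 𝒳.p f φ.hom.fst _ _ (congrArg (fun t => t.hom.fst) hχ.2)
  · have : 𝒴.p.IsHomLift (𝟙 R) χ.hom.snd := isHomLift_snd _ _ hχ.1
    exact IsCartesian.map_uniq 𝒴.p f φ.hom.snd _ _ (congrArg (fun t => t.hom.snd) hχ.2)

/-- Every morphism of the base over itself is strongly cartesian. -/
theorem isStronglyCartesian_selfOver {a b : (_root_.FibCat.selfOver C).obj} (φ : a ⟶ b) {R S : C} (f : R ⟶ S)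
    [(_root_.FibCat.selfOver C).p.IsHomLift f φ] : (_root_.FibCat.selfOver C).p.IsStronglyCartesian f φ :=
  IsFibGrpd.isStronglyCartesian' isFibGrpd_selfOver f φ

/-- The object of the fibre product with given lifts as components. -/
theorem exists_homMk {b : (_root_.FibCat.fp F G).obj} {R : C} (f : R ⟶ 𝒳.p.obj b.obj.fst) {x : 𝒳.obj} {y : 𝒴.obj}
    (φ : x ⟶ b.obj.fst) (ψ : y ⟶ b.obj.snd) [𝒳.p.IsHomLift f φ] [𝒴.p.IsHomLift f ψ]
    [𝒮.p.IsCartesian f (F.map φ)] [𝒮.p.IsCartesian f (G.map ψ)] :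
    ∃ (e : F.obj x ≅ G.obj y) (he : 𝒮.p.IsHomLift (𝟙 (𝒳.p.obj x)) e.hom)
      (w : F.map φ ≫ b.obj.iso.hom = e.hom ≫ G.map ψ), (_root_.FibCat.fp F G).p.IsHomLift f
        (homMk (a := mk x y e he) (b := b) φ ψ w) := by
  have : 𝒮.p.IsHomLift (𝟙 (𝒳.p.obj b.obj.fst)) b.obj.iso.hom := iso_lift b
  have : 𝒮.p.IsCartesian f (F.map φ ≫ b.obj.iso.hom) := IsCartesian.of_comp_iso 𝒮.p f (F.map φ) b.obj.iso
  let e := IsCartesian.domainUniqueUpToIso 𝒮.p f (G.map ψ) (F.map φ ≫ b.obj.iso.hom)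
  have hd : 𝒳.p.obj x = R := IsHomLift.domain_eq 𝒳.p f φ
  have he : 𝒮.p.IsHomLift (𝟙 (𝒳.p.obj x)) e.hom := by
    rw [hd]
    exact IsCartesian.domainUniqueUpToIso_inv_isHomLift 𝒮.p f (G.map ψ) (F.map φ ≫ b.obj.iso.hom)
  refine ⟨e, he, (IsCartesian.fac 𝒮.p f (G.map ψ) (F.map φ ≫ b.obj.iso.hom)).symm, ?_⟩
  exact (isHomLift_iff _ _).2 (inferInstanceAs (𝒳.p.IsHomLift f φ))

theorem isFibered [𝒳.p.IsFibered] [𝒴.p.IsFibered]
    (hF : ∀ {R S : C} (f : R ⟶ S) {a b : 𝒳.obj} (φ : a ⟶ b),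
      𝒳.p.IsStronglyCartesian f φ → 𝒮.p.IsStronglyCartesian f (F.map φ))
    (hG : ∀ {R S : C} (f : R ⟶ S) {a b : 𝒴.obj} (φ : a ⟶ b),
      𝒴.p.IsStronglyCartesian f φ → 𝒮.p.IsStronglyCartesian f (G.map φ)) :
    (_root_.FibCat.fp F G).p.IsFibered :=
  IsFibered.of_exists_isStronglyCartesian fun b R f => by
    let f' : R ⟶ 𝒳.p.obj b.obj.fst := f
    let φ := IsPreFibered.pullbackMap (p := 𝒳.p) (rfl : 𝒳.p.obj b.obj.fst = _) f'
    let ψ := IsPreFibered.pullbackMap (p := 𝒴.p) (snd_proj b) f'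
    have h1 := IsFibered.isStronglyCartesian_of_isCartesian 𝒳.p f' φ
    have h2 := IsFibered.isStronglyCartesian_of_isCartesian 𝒴.p f' ψ
    have h3 := hF f' φ h1
    have h4 := hG f' ψ h2
    obtain ⟨e, he, w, hl⟩ := exists_homMk f' φ ψ
    let Φ := homMk (a := mk _ _ e he) (b := b) φ ψ w
    have i₁ : 𝒳.p.IsStronglyCartesian f' Φ.hom.fst := h1
    have i₂ : 𝒴.p.IsStronglyCartesian f' Φ.hom.snd := h2
    have i₃ : 𝒮.p.IsStronglyCartesian f' (G.map Φ.hom.snd) := h4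
    exact ⟨_, Φ, isStronglyCartesian Φ f'⟩

end GrothLib.FibCat.Fp
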