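import Groth.Agent.Lib.FibCat.Repr

/-!
# Functors between slices
-/

set_option backward.isDefEq.respectTransparency false
set_option backward.isDefEq.respectTransparency.types false

universe v₂ u₂ v u

open CategoryTheory CategoryTheory.Functor

namespace GrothLib.FibCat

variable {C : Type u} [Category.{v} C]

/-- A vertical morphism of a slice: the structure morphisms agree. -/
theorem overCat_hom_eq {U : C} {a b : (_root_.FibCat.overCat U).obj} (φ : a ⟶ b) {R : C}
    [(_root_.FibCat.overCat U).p.IsHomLift (𝟙 R) φ] (h : a.left = b.left) : a.hom = eqToHom h ≫ b.hom := by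
  rw [← Over.w φ]
  congr 1
  exact map_eq_eqToHom (_root_.FibCat.overCat U).p (R := R) φ

/-- `Over.map` as a functor over the base. -/
abbrev overMap {X Y : C} (f : X ⟶ Y) : _root_.FibCat.overCat X ⥤ᵇ _root_.FibCat.overCat Y :=
  ⟨Over.map f, Over.mapForget_eq f⟩

/-- The morphism underlying a functor between slices. -/
def sliceHom {X Y : C} (k : _root_.FibCat.overCat X ⥤ᵇ _root_.FibCat.overCat Y) : X ⟶ Y :=
  eqToHom (k.w_obj (Yon.idObj X)).symm ≫ (k.obj (Yon.idObj X)).hom

/-- A functor between slices is `Over.map` of its underlying morphism. -/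
noncomputable def isoOverMap {X Y : C} (k : _root_.FibCat.overCat X ⥤ᵇ _root_.FibCat.overCat Y) :
    k ≅ overMap (sliceHom k) := by
  refine Yon.isoOfIdObj (isFibGrpd_overCat Y) (Over.isoMk (eqToIso (k.w_obj (Yon.idObj X))) ?_) ?_
  · change eqToHom (k.w_obj (Yon.idObj X)) ≫ (𝟙 X ≫ sliceHom k) = _
    erw [Category.id_comp, eqToHom_trans_assoc, eqToHom_refl, Category.id_comp]
  · exact IsHomLift.of_fac' (_root_.FibCat.overCat Y).p _ _ (k.w_obj (Yon.idObj X)) rfl (by simp; rfl)

theorem sliceHom_congr {X Y : C} {k k' : _root_.FibCat.overCat X ⥤ᵇ _root_.FibCat.overCat Y} (α : k ≅ k') :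
    sliceHom k = sliceHom k' := by
  have := isHomLift_isoApp α (x := Yon.idObj X) rfl
  have h : (k.obj (Yon.idObj X)).left = (k'.obj (Yon.idObj X)).left :=
    (k.w_obj (Yon.idObj X)).trans (k'.w_obj (Yon.idObj X)).symm
  rw [sliceHom, sliceHom, overCat_hom_eq (isoApp α (Yon.idObj X)).hom (R := (_root_.FibCat.overCat X).p.obj (Yon.idObj X)) h,
    eqToHom_trans_assoc]

theorem sliceHom_id (X : C) : sliceHom (BasedFunctor.id (_root_.FibCat.overCat X)) = 𝟙 X := by
  change 𝟙 X ≫ 𝟙 X = 𝟙 X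
  simp

theorem sliceHom_comp_overMap {X Y Z : C} (f : X ⟶ Y) (g : Y ⟶ Z) :
    sliceHom (BasedFunctor.comp (overMap f) (overMap g)) = f ≫ g := by
  change 𝟙 X ≫ ((𝟙 X ≫ f) ≫ g) = f ≫ g
  simp

/-- The isomorphism underlying an equivalence of slices. -/
theorem isIso_sliceHom {X Y : C} (k : _root_.FibCat.overCat X ⥤ᵇ _root_.FibCat.overCat Y)
    (hk : _root_.FibCat.IsEquivOver k) : IsIso (sliceHom k) := by
  obtain ⟨k', -, ⟨η⟩, ⟨ε⟩⟩ := IsEquivOver.symm hk
  refine ⟨sliceHom k', ?_, ?_⟩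
  · rw [← sliceHom_comp_overMap, ← sliceHom_id]
    exact sliceHom_congr (whiskerRightIso (isoOverMap k).symm _ ≪≫ whiskerLeftIso k (isoOverMap k').symm ≪≫ η)
  · rw [← sliceHom_comp_overMap, ← sliceHom_id]
    exact sliceHom_congr (whiskerRightIso (isoOverMap k').symm _ ≪≫ whiskerLeftIso k' (isoOverMap k).symm ≪≫ ε)

end GrothLib.FibCat
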