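import Groth.Agent.Lib.FibCat.FibGrpd

/-!
# Equivalences over a base preserve and reflect cartesian morphisms
-/

set_option backward.isDefEq.respectTransparency false
set_option backward.isDefEq.respectTransparency.types false

universe v₃ u₃ v₂ u₂ v u

open CategoryTheory CategoryTheory.Functor

namespace GrothLib.FibCat

variable {C : Type u} [Category.{v} C] {𝒳 : BasedCategory.{v₂, u₂} C} {𝒴 : BasedCategory.{v₃, u₃} C}
variable {F : 𝒳 ⥤ᵇ 𝒴}

theorem isCartesian_of_map [F.toFunctor.Full] [F.toFunctor.Faithful] {R S : C} (f : R ⟶ S) {a b : 𝒳.obj}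
    (φ : a ⟶ b) [𝒴.p.IsCartesian f (F.map φ)] : 𝒳.p.IsCartesian f φ where
  toIsHomLift := F.isHomLift_map f φ
  universal_property := fun {z} ψ _ => by
    let χ := IsCartesian.map 𝒴.p f (F.map φ) (F.map ψ)
    have hχ : F.map (F.toFunctor.preimage χ) = χ := F.toFunctor.map_preimage _
    refine ⟨F.toFunctor.preimage χ, ⟨?_, F.toFunctor.map_injective ?_⟩, fun χ' ⟨h1, h2⟩ => F.toFunctor.map_injective ?_⟩
    · refine (F.isHomLift_iff _ _).1 ?_
      rw [hχ]; infer_instance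
    · rw [F.map_comp, hχ, IsCartesian.fac]
    · rw [hχ]
      exact IsCartesian.map_uniq 𝒴.p f (F.map φ) (F.map ψ) (F.map χ') (by rw [← F.map_comp, h2])

theorem isCartesian_map_of (hF : _root_.FibCat.IsEquivOver F) {R S : C} (f : R ⟶ S) {a b : 𝒳.obj}
    (φ : a ⟶ b) [𝒳.p.IsCartesian f φ] : 𝒴.p.IsCartesian f (F.map φ) where
  universal_property := fun {z} ψ hψ => by
    have := IsEquivOver.full hF
    have := IsEquivOver.faithful hF
    obtain ⟨w, e, he⟩ := IsEquivOver.essSurj hF z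
    have hz : 𝒴.p.obj z = R := IsHomLift.domain_eq 𝒴.p f ψ
    have he' : 𝒴.p.IsHomLift (𝟙 R) e.hom := by rw [← hz]; exact he
    have hei : 𝒴.p.IsHomLift (𝟙 R) e.inv := IsHomLift.lift_id_inv 𝒴.p R e
    have hl : 𝒳.p.IsHomLift f (F.toFunctor.preimage (e.hom ≫ ψ)) := by
      refine (F.isHomLift_iff _ _).1 ?_
      rw [show F.map (F.toFunctor.preimage (e.hom ≫ ψ)) = e.hom ≫ ψ from F.toFunctor.map_preimage _]
      infer_instance
    let χ := IsCartesian.map 𝒳.p f φ (F.toFunctor.preimage (e.hom ≫ ψ))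
    refine ⟨e.inv ≫ F.map χ, ⟨inferInstance, ?_⟩, fun χ' ⟨h1, h2⟩ => ?_⟩
    · rw [Category.assoc, ← F.map_comp, IsCartesian.fac, F.toFunctor.map_preimage, e.inv_hom_id_assoc]
    · rw [Iso.eq_inv_comp]
      have hp : F.map (F.toFunctor.preimage (e.hom ≫ χ')) = e.hom ≫ χ' := F.toFunctor.map_preimage _
      rw [← hp]
      congr 1
      have : 𝒳.p.IsHomLift (𝟙 R) (F.toFunctor.preimage (e.hom ≫ χ')) := by
        refine (F.isHomLift_iff _ _).1 ?_
        rw [hp]; infer_instance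
      apply IsCartesian.map_uniq
      apply F.toFunctor.map_injective
      rw [F.map_comp, hp, F.toFunctor.map_preimage, Category.assoc, h2]

theorem isCartesian_map_iff (hF : _root_.FibCat.IsEquivOver F) {R S : C} (f : R ⟶ S) {a b : 𝒳.obj} (φ : a ⟶ b) :
    𝒴.p.IsCartesian f (F.map φ) ↔ 𝒳.p.IsCartesian f φ :=
  have := IsEquivOver.full hF
  have := IsEquivOver.faithful hF
  ⟨fun _ => isCartesian_of_map (F := F) f φ, fun _ => isCartesian_map_of hF f φ⟩

theorem isStronglyCartesian_of_map [F.toFunctor.Full] [F.toFunctor.Faithful] {R S : C} (f : R ⟶ S)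
    {a b : 𝒳.obj} (φ : a ⟶ b) [𝒴.p.IsStronglyCartesian f (F.map φ)] : 𝒳.p.IsStronglyCartesian f φ := by
  have : 𝒳.p.IsHomLift f φ := F.isHomLift_map f φ
  refine { universal_property' := fun {z} g ψ hψ => ?_ }
  obtain ⟨χ, ⟨h1, h2⟩, hu⟩ := IsStronglyCartesian.universal_property 𝒴.p f (F.map φ) g (g ≫ f) rfl (F.map ψ)
  have hχ : F.map (F.toFunctor.preimage χ) = χ := F.toFunctor.map_preimage _
  refine ⟨F.toFunctor.preimage χ, ⟨(F.isHomLift_iff _ _).1 (hχ.symm ▸ h1), F.toFunctor.map_injective (by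
    rw [F.map_comp, hχ, h2])⟩, fun χ' ⟨k1, k2⟩ => F.toFunctor.map_injective ?_⟩
  rw [hχ]
  exact hu _ ⟨inferInstance, by rw [← F.map_comp, k2]⟩

theorem isStronglyCartesian_map_of (hF : _root_.FibCat.IsEquivOver F) {R S : C} (f : R ⟶ S) {a b : 𝒳.obj}
    (φ : a ⟶ b) [𝒳.p.IsStronglyCartesian f φ] : 𝒴.p.IsStronglyCartesian f (F.map φ) := by
  refine { universal_property' := fun {z} g ψ hψ => ?_ }
  have := IsEquivOver.full hF
  have := IsEquivOver.faithful hF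
  obtain ⟨w, e, he⟩ := IsEquivOver.essSurj hF z
  have hei : 𝒴.p.IsHomLift (𝟙 (𝒴.p.obj z)) e.inv := IsHomLift.lift_id_inv 𝒴.p _ e
  have hl : 𝒳.p.IsHomLift (g ≫ f) (F.toFunctor.preimage (e.hom ≫ ψ)) := by
    refine (F.isHomLift_iff _ _).1 ?_
    rw [show F.map (F.toFunctor.preimage (e.hom ≫ ψ)) = e.hom ≫ ψ from F.toFunctor.map_preimage _]
    exact IsHomLift.comp_lift_id_left' 𝒴.p (𝒴.p.obj z) e.hom (g ≫ f) ψ
  obtain ⟨χ, ⟨h1, h2⟩, hu⟩ := IsStronglyCartesian.universal_property 𝒳.p f φ g (g ≫ f) rfl (F.toFunctor.preimage (e.hom ≫ ψ))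
  refine ⟨e.inv ≫ F.map χ, ⟨IsHomLift.comp_lift_id_left' 𝒴.p (𝒴.p.obj z) e.inv g (F.map χ), ?_⟩, fun χ' ⟨k1, k2⟩ => ?_⟩
  · rw [Category.assoc, ← F.map_comp, h2, F.toFunctor.map_preimage, e.inv_hom_id_assoc]
  · rw [Iso.eq_inv_comp]
    have hp : F.map (F.toFunctor.preimage (e.hom ≫ χ')) = e.hom ≫ χ' := F.toFunctor.map_preimage _
    rw [← hp]
    congr 1
    refine hu _ ⟨(F.isHomLift_iff _ _).1 ?_, F.toFunctor.map_injective ?_⟩
    · rw [hp]; exact IsHomLift.comp_lift_id_left' 𝒴.p (𝒴.p.obj z) e.hom g χ'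
    · rw [F.map_comp, hp, F.toFunctor.map_preimage, Category.assoc, k2]

theorem isStronglyCartesian_map_iff (hF : _root_.FibCat.IsEquivOver F) {R S : C} (f : R ⟶ S) {a b : 𝒳.obj}
    (φ : a ⟶ b) : 𝒴.p.IsStronglyCartesian f (F.map φ) ↔ 𝒳.p.IsStronglyCartesian f φ :=
  have := IsEquivOver.full hF
  have := IsEquivOver.faithful hF
  ⟨fun _ => isStronglyCartesian_of_map (F := F) f φ, fun _ => isStronglyCartesian_map_of hF f φ⟩

theorem isFibered_of_isEquivOver (hF : _root_.FibCat.IsEquivOver F) [𝒳.p.IsFibered] : 𝒴.p.IsFibered :=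
  Functor.IsFibered.of_exists_isStronglyCartesian fun y R f => by
    obtain ⟨x, e, he⟩ := IsEquivOver.essSurj hF y
    have hx : 𝒳.p.obj x = 𝒴.p.obj y :=
      (F.w_obj x).symm.trans (IsHomLift.domain_eq 𝒴.p (𝟙 (𝒴.p.obj y)) e.hom)
    obtain ⟨w, φ, hφ⟩ := IsPreFibered.exists_isCartesian 𝒳.p hx f
    have := isStronglyCartesian_map_of hF f φ
    have : 𝒴.p.IsStronglyCartesian (f ≫ 𝟙 _) (F.map φ ≫ e.hom) := inferInstance
    rw [Category.comp_id] at this
    exact ⟨_, _, this⟩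

theorem isFibered_iff_of_isEquivOver (hF : _root_.FibCat.IsEquivOver F) : 𝒳.p.IsFibered ↔ 𝒴.p.IsFibered := by
  obtain ⟨G, hG, -, -⟩ := IsEquivOver.symm hF
  exact ⟨fun _ => isFibered_of_isEquivOver hF, fun _ => isFibered_of_isEquivOver hG⟩

end GrothLib.FibCat
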