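import Groth.Agent.Lib.FibCat.Fp

/-!
# Composites `F ⋙ G` of structure functors
-/

set_option backward.isDefEq.respectTransparency false
set_option backward.isDefEq.respectTransparency.types false

universe v₃ u₃ v₂ u₂ v₁ u₁

open CategoryTheory CategoryTheory.Functor

namespace GrothLib.FibCat.Tower

variable {𝒜 : Type u₁} [Category.{v₁} 𝒜] {ℬ : Type u₂} [Category.{v₂} ℬ] {𝒞 : Type u₃} [Category.{v₃} 𝒞]
variable {F : 𝒜 ⥤ ℬ} {G : ℬ ⥤ 𝒞}

theorem isHomLift_comp {R S : ℬ} {R' S' : 𝒞} {x y : 𝒜} (f : R ⟶ S) (f' : R' ⟶ S') (φ : x ⟶ y)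
    [F.IsHomLift f φ] [G.IsHomLift f' f] : (F ⋙ G).IsHomLift f' φ := by
  subst_hom_lift F f φ
  subst_hom_lift G f' (F.map φ)
  exact IsHomLift.map (F ⋙ G) φ

theorem isHomLift_of_comp {R' S' : 𝒞} {x y : 𝒜} (f' : R' ⟶ S') (φ : x ⟶ y)
    [(F ⋙ G).IsHomLift f' φ] : G.IsHomLift f' (F.map φ) := by
  subst_hom_lift (F ⋙ G) f' φ
  exact IsHomLift.map G (F.map φ)

theorem isStronglyCartesian_of_isHomLift {R S : ℬ} {x y : 𝒜} (f : R ⟶ S) (φ : x ⟶ y) [F.IsHomLift f φ]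
    (h : F.IsStronglyCartesian (F.map φ) φ) : F.IsStronglyCartesian f φ := by
  subst_hom_lift F f φ
  exact h

/-- Strongly cartesian for `F` over strongly cartesian for `G` gives strongly cartesian for `F ⋙ G`. -/
theorem isStronglyCartesian_comp {R S : ℬ} {R' S' : 𝒞} {x y : 𝒜} (f : R ⟶ S) (f' : R' ⟶ S') (φ : x ⟶ y)
    [F.IsStronglyCartesian f φ] [G.IsStronglyCartesian f' f] : (F ⋙ G).IsStronglyCartesian f' φ := by
  have := isHomLift_comp (F := F) (G := G) f f' φ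
  subst_hom_lift F f φ
  refine { universal_property' := fun {z} g ψ hψ => ?_ }
  have := isHomLift_of_comp (F := F) (G := G) (g ≫ f') ψ
  obtain ⟨b, ⟨hb, hb'⟩, hbu⟩ :=
    IsStronglyCartesian.universal_property G f' (F.map φ) g (g ≫ f') rfl (F.map ψ)
  have : F.IsHomLift (b ≫ F.map φ) ψ := hb'.symm ▸ IsHomLift.map F ψ
  obtain ⟨χ, ⟨hχ, hχ'⟩, hχu⟩ :=
    IsStronglyCartesian.universal_property F (F.map φ) φ b (b ≫ F.map φ) rfl ψ
  refine ⟨χ, ⟨isHomLift_comp (F := F) (G := G) b g χ, hχ'⟩, fun χ' hχ'' => ?_⟩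
  have := hχ''.1
  have : F.map χ' = b := hbu _ ⟨isHomLift_of_comp (F := F) (G := G) g χ', by rw [← F.map_comp, hχ''.2]⟩
  exact hχu _ ⟨this ▸ IsHomLift.map F χ', hχ''.2⟩

theorem isFibered_comp [F.IsFibered] [G.IsFibered] : (F ⋙ G).IsFibered :=
  Functor.IsFibered.of_exists_isStronglyCartesian fun x R f => by
    obtain ⟨b, g, hg⟩ := IsPreFibered.exists_isCartesian G (rfl : G.obj (F.obj x) = _) f
    obtain ⟨a, φ, hφ⟩ := IsPreFibered.exists_isCartesian F (rfl : F.obj x = _) g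
    exact ⟨a, φ, isStronglyCartesian_comp (F := F) (G := G) g f φ⟩

theorem isFibGrpd_comp (hF : _root_.FibCat.IsFibGrpd F) (hG : _root_.FibCat.IsFibGrpd G) :
    _root_.FibCat.IsFibGrpd (F ⋙ G) where
  exists_lift := fun {x V} f => by
    obtain ⟨b, g, hg⟩ := hG.exists_lift (x := F.obj x) f
    obtain ⟨a, φ, hφ⟩ := hF.exists_lift (x := x) g
    exact ⟨a, φ, isHomLift_comp (F := F) (G := G) g f φ⟩
  isStronglyCartesian := fun {y x} φ => by
    have := hF.isStronglyCartesian φ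
    have := isHomLift_of_comp (F := F) (G := G) ((F ⋙ G).map φ) φ
    have := IsFibGrpd.isStronglyCartesian' hG ((F ⋙ G).map φ) (F.map φ)
    exact isStronglyCartesian_comp (F := F) (G := G) (F.map φ) ((F ⋙ G).map φ) φ

section OfComp

variable (hG : ∀ {a b c : ℬ} (χ χ' : a ⟶ b) (ψ : b ⟶ c), G.map χ = G.map χ' → χ ≫ ψ = χ' ≫ ψ → χ = χ')
include hG

/-- If parallel morphisms of `ℬ` are separated by cartesianness over `𝒞`, strongly cartesian for the composite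
gives strongly cartesian for `F`. -/
theorem isStronglyCartesian_of_comp {R' S' : 𝒞} {x y : 𝒜} (f' : R' ⟶ S') (φ : x ⟶ y)
    [(F ⋙ G).IsStronglyCartesian f' φ] : F.IsStronglyCartesian (F.map φ) φ := by
  refine { universal_property' := fun {z} g ψ hψ => ?_ }
  subst_hom_lift (F ⋙ G) f' φ
  have e : g ≫ F.map φ = F.map ψ := IsHomLift.eq_of_isHomLift F (g ≫ F.map φ) ψ
  have : (F ⋙ G).IsHomLift (G.map g ≫ (F ⋙ G).map φ) ψ := by
    have h : G.map g ≫ (F ⋙ G).map φ = (F ⋙ G).map ψ := by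
      simp only [Functor.comp_map, ← G.map_comp, e]
    rw [h]; exact IsHomLift.map _ ψ
  obtain ⟨χ, ⟨hχ, hχ'⟩, hu⟩ :=
    IsStronglyCartesian.universal_property (F ⋙ G) ((F ⋙ G).map φ) φ (G.map g) _ rfl ψ
  have h1 : F.map χ = g := by
    refine hG _ _ (F.map φ) ?_ (by rw [← F.map_comp, hχ', e])
    exact (IsHomLift.eq_of_isHomLift (F ⋙ G) (G.map g) χ).symm
  refine ⟨χ, ⟨h1 ▸ IsHomLift.map F χ, hχ'⟩, fun χ' hχ'' => ?_⟩
  have := hχ''.1
  obtain rfl := IsHomLift.eq_of_isHomLift F g χ'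
  exact hu _ ⟨IsHomLift.map (F ⋙ G) χ', hχ''.2⟩

end OfComp

theorem sep_of_isFibSetoid (hG : _root_.FibCat.IsFibSetoid G) {a b c : ℬ} (χ χ' : a ⟶ b) (_ψ : b ⟶ c)
    (h : G.map χ = G.map χ') (_ : χ ≫ _ψ = χ' ≫ _ψ) : χ = χ' :=
  IsFibSetoid.hom_ext hG h

/-- In a category fibred in sets a morphism is determined by its target and its image. -/
theorem eq_of_isFibSet (hG : _root_.FibCat.IsFibSet G) {R S : 𝒞} (f : R ⟶ S) {a a' b : ℬ} (φ : a ⟶ b)
    (φ' : a' ⟶ b) [G.IsHomLift f φ] [G.IsHomLift f φ'] : ∃ h : a' = a, eqToHom h ≫ φ = φ' := by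
  obtain ⟨e, he, he'⟩ := IsFibGrpd.exists_iso_of_lifts hG.1 f φ φ'
  obtain rfl := IsFibSet.eq_of_iso hG (R := R) e.hom
  refine ⟨rfl, ?_⟩
  rw [eqToHom_refl, Category.id_comp]
  exact IsFibSetoid.hom_ext' (IsFibSet.isFibSetoid hG) f

/-- Lifts along `F` from lifts along `F ⋙ G`, for `G` fibred in sets. -/
theorem exists_lift_of_comp (hG : _root_.FibCat.IsFibSet G) (h : ∀ (x : 𝒜) (R : 𝒞) (f : R ⟶ G.obj (F.obj x)),
      ∃ (a : 𝒜) (φ : a ⟶ x), (F ⋙ G).IsHomLift f φ) {x : 𝒜} {R : ℬ} (g : R ⟶ F.obj x) :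
    ∃ (a : 𝒜) (φ : a ⟶ x), (F ⋙ G).IsHomLift (G.map g) φ ∧ F.IsHomLift g φ := by
  obtain ⟨a, φ, hφ⟩ := h x _ (G.map g)
  refine ⟨a, φ, hφ, ?_⟩
  have := isHomLift_of_comp (F := F) (G := G) (G.map g) φ
  obtain ⟨e, he⟩ := eq_of_isFibSet hG (G.map g) g (F.map φ)
  exact IsHomLift.of_fac' F g φ e rfl (by simp [he])

theorem isFibered_iff_comp (hG : _root_.FibCat.IsFibSet G) : F.IsFibered ↔ (F ⋙ G).IsFibered := by
  refine ⟨fun _ => ?_, fun hc => ?_⟩
  · have := IsFibGrpd.isFibered hG.1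
    exact isFibered_comp
  · refine Functor.IsFibered.of_exists_isStronglyCartesian fun x R g => ?_
    obtain ⟨a, φ, hφ⟩ := IsPreFibered.exists_isCartesian (F ⋙ G) (rfl : G.obj (F.obj x) = _) (G.map g)
    have := isHomLift_of_comp (F := F) (G := G) (G.map g) φ
    obtain ⟨e, he⟩ := eq_of_isFibSet hG (G.map g) g (F.map φ)
    have := isStronglyCartesian_of_comp (F := F) (G := G) (sep_of_isFibSetoid (IsFibSet.isFibSetoid hG)) (G.map g) φ
    have hl : F.IsHomLift g φ := IsHomLift.of_fac' F g φ e rfl (by simp [he])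
    exact ⟨a, φ, isStronglyCartesian_of_isHomLift g φ inferInstance⟩

theorem isFibGrpd_iff_comp (hG : _root_.FibCat.IsFibSet G) :
    _root_.FibCat.IsFibGrpd F ↔ _root_.FibCat.IsFibGrpd (F ⋙ G) := by
  refine ⟨fun h => isFibGrpd_comp h hG.1, fun hc => ⟨fun {x R} g => ?_, fun {y x} φ => ?_⟩⟩
  · obtain ⟨a, φ, -, hφ⟩ := exists_lift_of_comp (F := F) hG (fun x R f => hc.exists_lift f) g
    exact ⟨a, φ, hφ⟩
  · have := hc.isStronglyCartesian φ
    exact isStronglyCartesian_of_comp (F := F) (G := G) (sep_of_isFibSetoid (IsFibSet.isFibSetoid hG))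
      ((F ⋙ G).map φ) φ

theorem isFibSet_iff_comp (hG : _root_.FibCat.IsFibSet G) :
    _root_.FibCat.IsFibSet F ↔ _root_.FibCat.IsFibSet (F ⋙ G) := by
  refine ⟨fun h => ⟨(isFibGrpd_iff_comp hG).1 h.1, fun U => ?_⟩,
    fun h => ⟨(isFibGrpd_iff_comp hG).2 h.1, fun U => ?_⟩⟩
  · refine { eq_of_hom := fun {A B} φ => Subtype.ext ?e, subsingleton := fun A B => ⟨fun φ ψ => Subtype.ext ?s⟩ }
    case e =>
      have := φ.2
      have := isHomLift_of_comp (F := F) (G := G) (𝟙 U) φ.1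
      have e := IsFibSet.eq_of_iso hG (R := U) (F.map φ.1)
      have : F.IsHomLift (𝟙 (F.obj A.1)) φ.1 :=
        isHomLift_id_of_map_eq F φ.1 e (IsFibSet.map_eq_eqToHom hG (R := U) (F.map φ.1))
      exact IsFibSet.eq_of_iso h (R := F.obj A.1) φ.1
    case s =>
      have := φ.2
      have := ψ.2
      refine IsFibSetoid.hom_ext (IsFibSet.isFibSetoid h) ?_
      have := isHomLift_of_comp (F := F) (G := G) (𝟙 U) φ.1
      have := isHomLift_of_comp (F := F) (G := G) (𝟙 U) ψ.1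
      exact IsFibSetoid.hom_ext' (IsFibSet.isFibSetoid hG) (𝟙 U)
  · refine { eq_of_hom := fun {A B} φ => Subtype.ext ?e, subsingleton := fun A B => ⟨fun φ ψ => Subtype.ext ?s⟩ }
    case e =>
      have := φ.2
      have : (F ⋙ G).IsHomLift (𝟙 (G.obj U)) φ.1 := isHomLift_comp (F := F) (G := G) (𝟙 U) _ φ.1
      exact IsFibSet.eq_of_iso h (R := G.obj U) φ.1
    case s =>
      have := φ.2
      have := ψ.2
      have : (F ⋙ G).IsHomLift (𝟙 (G.obj U)) φ.1 := isHomLift_comp (F := F) (G := G) (𝟙 U) _ φ.1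
      have : (F ⋙ G).IsHomLift (𝟙 (G.obj U)) ψ.1 := isHomLift_comp (F := F) (G := G) (𝟙 U) _ ψ.1
      exact IsFibSetoid.hom_ext' (IsFibSet.isFibSetoid h) (𝟙 (G.obj U))

end GrothLib.FibCat.Tower
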