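import Groth.Agent.Lib.FibCat.SliceRepr
import Mathlib.CategoryTheory.Limits.Shapes.Pullback.Mono

/-!
# The diagonal
-/

set_option backward.isDefEq.respectTransparency false
set_option backward.isDefEq.respectTransparency.types false

universe v₄ u₄ v₃ u₃ v₂ u₂ v u

open CategoryTheory CategoryTheory.Functor CategoryTheory.Limits

namespace GrothLib.FibCat

variable {C : Type u} [Category.{v} C] {𝒳 : BasedCategory.{v₂, u₂} C} {𝒴 : BasedCategory.{v₃, u₃} C}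
variable {G : 𝒳 ⥤ᵇ 𝒴}

theorem diag_iso (a : 𝒳.obj) : ((_root_.FibCat.diag G).obj a).obj.iso.hom = 𝟙 (G.obj a) := rfl

theorem isEquivOver_diag [G.toFunctor.Full] [G.toFunctor.Faithful] : _root_.FibCat.IsEquivOver (_root_.FibCat.diag G) := by
  refine FFEssSurjOver.isEquivOver ⟨?_, ?_, fun η => ?_⟩
  · refine ⟨fun {a b} ψ => ⟨ψ.hom.fst, Fp.hom_ext rfl ?_⟩⟩
    have hw : G.map (ψ.hom.fst : a ⟶ b) ≫ 𝟙 (G.obj b) = 𝟙 (G.obj a) ≫ G.map (ψ.hom.snd : a ⟶ b) := Fp.w ψ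
    exact G.toFunctor.map_injective (((Category.comp_id _).symm.trans hw).trans (Category.id_comp _))
  · exact ⟨fun {a b φ ψ} h => congrArg (fun t => t.hom.fst) h⟩
  · let j : η.obj.fst ≅ η.obj.snd := G.toFunctor.preimageIso η.obj.iso
    have hj : G.map j.hom = η.obj.iso.hom := G.toFunctor.map_preimage _
    refine ⟨η.obj.fst, Fp.isoMk (Iso.refl _) j ?_, (Fp.isHomLift_iff _ _).2 (IsHomLift.id rfl)⟩
    rw [diag_iso, hj]
    change G.map (𝟙 _) ≫ η.obj.iso.hom = 𝟙 _ ≫ η.obj.iso.hom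
    rw [G.map_id]

theorem faithful_of_full_diag [(_root_.FibCat.diag G).toFunctor.Full] : G.toFunctor.Faithful := by
  refine ⟨fun {a b φ ψ} h => ?_⟩
  let χ : (_root_.FibCat.diag G).obj a ⟶ (_root_.FibCat.diag G).obj b :=
    Fp.homMk φ ψ (by
      rw [diag_iso, diag_iso]
      change G.map φ ≫ 𝟙 _ = 𝟙 _ ≫ G.map ψ
      rw [Category.comp_id, Category.id_comp]; exact h)
  obtain ⟨θ, hθ⟩ := (_root_.FibCat.diag G).toFunctor.map_surjective χ
  exact ((congrArg (fun t => t.hom.fst) hθ).symm.trans (congrArg (fun t => t.hom.snd) hθ) :)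

theorem full_of_isEquivOver_diag (h𝒳 : _root_.FibCat.IsFibGrpd 𝒳.p) (h𝒴 : _root_.FibCat.IsFibGrpd 𝒴.p)
    (h : _root_.FibCat.IsEquivOver (_root_.FibCat.diag G)) : G.toFunctor.Full := by
  refine ⟨fun {a b} ψ => ?_⟩
  let f : 𝒳.p.obj a ⟶ 𝒳.p.obj b := eqToHom (G.w_obj a).symm ≫ 𝒴.p.map ψ ≫ eqToHom (G.w_obj b)
  have hf : 𝒴.p.IsHomLift f ψ := IsHomLift.of_fac 𝒴.p f ψ (G.w_obj a) (G.w_obj b) rfl
  obtain ⟨b', θ, hθ⟩ := IsFibGrpd.exists_lift_of_eq h𝒳 (rfl : 𝒳.p.obj b = _) f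
  obtain ⟨i, hi, hi'⟩ := IsFibGrpd.exists_iso_of_lifts h𝒴 f (G.map θ) ψ
  let η : (_root_.FibCat.fp G G).obj := Fp.mk a b' i hi
  obtain ⟨c, e, -⟩ := IsEquivOver.essSurj h η
  have hw : G.map e.hom.hom.fst ≫ i.hom = 𝟙 (G.obj c) ≫ G.map e.hom.hom.snd := Fp.w e.hom
  let u : c ≅ a := Fp.isoFst e
  refine ⟨u.inv ≫ e.hom.hom.snd ≫ θ, ?_⟩
  rw [Category.id_comp] at hw
  have e1 : G.map u.inv ≫ G.map e.hom.hom.snd = i.hom := by
    rw [← hw, ← G.map_comp_assoc]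
    change G.map (u.inv ≫ u.hom) ≫ _ = _
    rw [u.inv_hom_id, G.map_id, Category.id_comp]
  rw [G.map_comp, G.map_comp, ← Category.assoc, e1, hi']

theorem fullyFaithful_iff_isEquivOver_diag (h𝒳 : _root_.FibCat.IsFibGrpd 𝒳.p) (h𝒴 : _root_.FibCat.IsFibGrpd 𝒴.p) :
    (G.toFunctor.Full ∧ G.toFunctor.Faithful) ↔ _root_.FibCat.IsEquivOver (_root_.FibCat.diag G) :=
  ⟨fun ⟨_, _⟩ => isEquivOver_diag, fun h => ⟨full_of_isEquivOver_diag h𝒳 h𝒴 h,
    have := IsEquivOver.full h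
    faithful_of_full_diag⟩⟩

/-! ## Base change of the diagonal against a pair -/

section Pair

variable {𝒜 : BasedCategory.{v₄, u₄} C} (w : 𝒜 ⥤ᵇ _root_.FibCat.fp G G)

/-- The fibre product of `w = (w₁, w₂, e)` with the diagonal, mapped to the fibre product of `w₁` and `w₂`. -/
def pairToFp : _root_.FibCat.fp w (_root_.FibCat.diag G) ⥤ᵇ
    _root_.FibCat.fp (BasedFunctor.comp w (_root_.FibCat.fpFst G G)) (BasedFunctor.comp w (_root_.FibCat.fpSnd G G)) :=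
  _root_.FibCat.fpLift (_root_.FibCat.fpFst w (_root_.FibCat.diag G)) (_root_.FibCat.fpFst w (_root_.FibCat.diag G))
    (whiskerRightIso (_root_.FibCat.fpIso w (_root_.FibCat.diag G)) (_root_.FibCat.fpFst G G) ≪≫
      (whiskerRightIso (_root_.FibCat.fpIso w (_root_.FibCat.diag G)) (_root_.FibCat.fpSnd G G)).symm)

theorem pairToFp_iso (x : (_root_.FibCat.fp w (_root_.FibCat.diag G)).obj) :
    ((pairToFp w).obj x).obj.iso.hom = x.obj.iso.hom.hom.fst ≫ x.obj.iso.inv.hom.snd := rfl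

theorem faithful_pairToFp : (pairToFp w).toFunctor.Faithful := by
  refine ⟨fun {a b φ ψ} h => ?_⟩
  have h1 : φ.hom.fst = ψ.hom.fst := congrArg (fun t => t.hom.fst) h
  refine Fp.hom_ext h1 ?_
  have e1 : (w.map φ.hom.fst).hom.fst ≫ (Fp.isoFst b.obj.iso).hom = (Fp.isoFst a.obj.iso).hom ≫ φ.hom.snd :=
    congrArg (fun t => t.hom.fst) (Fp.w φ)
  have e2 : (w.map ψ.hom.fst).hom.fst ≫ (Fp.isoFst b.obj.iso).hom = (Fp.isoFst a.obj.iso).hom ≫ ψ.hom.snd :=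
    congrArg (fun t => t.hom.fst) (Fp.w ψ)
  rw [h1] at e1
  exact (cancel_epi (Fp.isoFst a.obj.iso).hom).1 (e1.symm.trans e2)

/-- A morphism in the target comes from the source as soon as its two components agree. -/
theorem exists_map_pairToFp {a b : (_root_.FibCat.fp w (_root_.FibCat.diag G)).obj}
    (ψ : (pairToFp w).obj a ⟶ (pairToFp w).obj b) (h : ψ.hom.fst = ψ.hom.snd) :
    ∃ φ, (pairToFp w).map φ = ψ := by
  let φ₁ : a.obj.fst ⟶ b.obj.fst := ψ.hom.fst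
  let u₁ := Fp.isoFst a.obj.iso
  let u₂ := Fp.isoSnd a.obj.iso
  let v₁ := Fp.isoFst b.obj.iso
  let v₂ := Fp.isoSnd b.obj.iso
  let g : a.obj.snd ⟶ b.obj.snd := u₁.inv ≫ (w.map φ₁).hom.fst ≫ v₁.hom
  have hw : (w.map φ₁).hom.fst ≫ v₁.hom ≫ v₂.inv = (u₁.hom ≫ u₂.inv) ≫ (w.map φ₁).hom.snd := by
    have e : (w.map ψ.hom.fst).hom.fst ≫ (v₁.hom ≫ v₂.inv) = (u₁.hom ≫ u₂.inv) ≫ (w.map ψ.hom.snd).hom.snd := Fp.w ψ
    rw [← h] at e
    exact e
  have hg : (w.map φ₁) ≫ b.obj.iso.hom = a.obj.iso.hom ≫ (_root_.FibCat.diag G).map g := by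
    refine Fp.hom_ext ?_ ?_
    · change (w.map φ₁).hom.fst ≫ v₁.hom = u₁.hom ≫ g
      simp only [g, Iso.hom_inv_id_assoc]
    · change (w.map φ₁).hom.snd ≫ v₂.hom = u₂.hom ≫ g
      simp only [g]
      rw [← cancel_mono v₂.inv, Category.assoc, v₂.hom_inv_id, Category.comp_id, Category.assoc, Category.assoc,
        Category.assoc, hw, Category.assoc, u₁.inv_hom_id_assoc, u₂.hom_inv_id_assoc]
  exact ⟨Fp.homMk φ₁ g hg, Fp.hom_ext rfl h⟩

/-- An object of the target with equal components comes from the source. -/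
theorem exists_obj_pairToFp (h : _root_.FibCat.IsFibGrpd 𝒳.p) (a : 𝒜.obj)
    (i : (BasedFunctor.comp w (_root_.FibCat.fpFst G G)).obj a ≅ (BasedFunctor.comp w (_root_.FibCat.fpSnd G G)).obj a)
    (hi : 𝒳.p.IsHomLift (𝟙 (𝒜.p.obj a)) i.hom) (he : (w.obj a).obj.iso.hom = G.map i.hom) :
    ∃ (x : (_root_.FibCat.fp w (_root_.FibCat.diag G)).obj) (ε : (pairToFp w).obj x ≅ Fp.mk a a i hi),
      (_root_.FibCat.fp _ _).p.IsHomLift (𝟙 (𝒜.p.obj a)) ε.hom := by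
  let s : 𝒳.obj := (w.obj a).obj.snd
  let u : (w.obj a).obj.fst ≅ s := i
  let e : w.obj a ≅ (_root_.FibCat.diag G).obj s :=
    Fp.isoMk u (Iso.refl s) (by
      rw [diag_iso]
      change G.map u.hom ≫ 𝟙 _ = (w.obj a).obj.iso.hom ≫ G.map (𝟙 s)
      rw [G.map_id, Category.comp_id, he]
      exact (Category.comp_id _).symm)
  refine ⟨Fp.mk a s e ((Fp.isHomLift_iff _ _).2 hi), Fp.isoMk (Iso.refl a) (Iso.refl a) ?_,
    (Fp.isHomLift_iff _ _).2 (IsHomLift.id rfl)⟩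
  rw [pairToFp_iso]
  change (w.map (𝟙 a)).hom.fst ≫ u.hom = (u.hom ≫ 𝟙 s) ≫ (w.map (𝟙 a)).hom.snd
  rw [w.map_id]
  exact (Category.id_comp u.hom).trans ((Category.comp_id u.hom).symm.trans (Category.comp_id _).symm)

end Pair

/-- Over the base itself all vertical endomorphisms are trivial. -/
theorem selfOver_hom_ext {a b : (_root_.FibCat.selfOver C).obj} (φ ψ : a ⟶ b) {R : C}
    (h₁ : (_root_.FibCat.selfOver C).p.IsHomLift (𝟙 R) φ) (h₂ : (_root_.FibCat.selfOver C).p.IsHomLift (𝟙 R) ψ) : φ = ψ := by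
  exact (map_eq_eqToHom (_root_.FibCat.selfOver C).p (R := R) φ).trans (map_eq_eqToHom (_root_.FibCat.selfOver C).p (R := R) ψ).symm

end GrothLib.FibCat
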