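import Groth.Agent.Lib.FibCat.FibGrpd
import Groth.Prelude.Def_W4stkcategoriessitesFib

/-!
# Functors between fibred categories and their fibre functors
-/

set_option backward.isDefEq.respectTransparency false
set_option backward.isDefEq.respectTransparency.types false

universe v₄ u₄ v₃ u₃ v₂ u₂ v u

open CategoryTheory CategoryTheory.Functor

namespace GrothLib.FibCat

variable {C : Type u} [Category.{v} C]
variable {𝒳 : BasedCategory.{v₂, u₂} C} {𝒴 : BasedCategory.{v₃, u₃} C}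

/-- A morphism of a fibre category with prescribed underlying morphism. -/
abbrev fiberHom {p : 𝒳.obj ⥤ C} {U : C} {a b : p.Fiber U} (φ : a.1 ⟶ b.1) (h : p.IsHomLift (𝟙 U) φ) : a ⟶ b :=
  ⟨φ, h⟩

/-- Vertical isomorphisms are the isomorphisms of fibre categories. -/
def fiberIso {p : 𝒳.obj ⥤ C} {U : C} {a b : p.Fiber U} (e : a.1 ≅ b.1) (h : p.IsHomLift (𝟙 U) e.hom) : a ≅ b where
  hom := ⟨e.hom, h⟩
  inv := ⟨e.inv, IsHomLift.lift_id_inv p U e⟩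
  hom_inv_id := Fiber.hom_ext e.hom_inv_id
  inv_hom_id := Fiber.hom_ext e.inv_hom_id

theorem faithful_fiberFunctor (F : 𝒳 ⥤ᵇ 𝒴) [F.toFunctor.Faithful] (U : C) :
    (_root_.FibCat.fiberFunctor F U).Faithful :=
  ⟨fun {_ _ φ ψ} h => Fiber.hom_ext (F.toFunctor.map_injective (congrArg Subtype.val h))⟩

theorem full_fiberFunctor (F : 𝒳 ⥤ᵇ 𝒴) [F.toFunctor.Full] (U : C) :
    (_root_.FibCat.fiberFunctor F U).Full := by
  refine ⟨fun {a b} ψ => ⟨⟨F.toFunctor.preimage (X := a.1) (Y := b.1) ψ.1, (F.isHomLift_iff _ _).1 ?_⟩,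
    Fiber.hom_ext (F.toFunctor.map_preimage _)⟩⟩
  rw [show F.map (F.toFunctor.preimage (X := a.1) (Y := b.1) ψ.1) = ψ.1 from F.toFunctor.map_preimage _]
  exact ψ.2

theorem essSurj_fiberFunctor_iff (F : 𝒳 ⥤ᵇ 𝒴) :
    (∀ U : C, (_root_.FibCat.fiberFunctor F U).EssSurj) ↔
      ∀ η : 𝒴.obj, ∃ (ξ : 𝒳.obj) (e : F.obj ξ ≅ η), 𝒴.p.IsHomLift (𝟙 (𝒴.p.obj η)) e.hom := by
  refine ⟨fun h η => ?_, fun h U => ⟨fun η => ?_⟩⟩
  · obtain ⟨ξ, ⟨e⟩⟩ := (h (𝒴.p.obj η)).mem_essImage ⟨η, rfl⟩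
    exact ⟨ξ.1, Fiber.fiberInclusion.mapIso e, e.hom.2⟩
  · obtain ⟨ξ, e, he⟩ := h η.1
    have := IsHomLift.domain_eq 𝒴.p (𝟙 (𝒴.p.obj η.1)) e.hom
    refine ⟨⟨ξ, (F.w_obj ξ).symm.trans (this.trans η.2)⟩, ⟨fiberIso e ?_⟩⟩
    exact isHomLift_id_of_eq 𝒴.p (R := 𝒴.p.obj η.1) _ (Or.inr η.2)

section Fibred

variable [𝒳.p.IsFibered] (F : 𝒳 ⥤ᵇ 𝒴)
  (hF : ∀ ⦃a b : 𝒳.obj⦄ (φ : a ⟶ b), 𝒳.p.IsStronglyCartesian (𝒳.p.map φ) φ →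
    𝒴.p.IsStronglyCartesian (𝒳.p.map φ) (F.toFunctor.map φ))

omit [𝒳.p.IsFibered] in
include hF in
theorem preservesStronglyCartesian_of_map ⦃R S : C⦄ (f : R ⟶ S) ⦃a b : 𝒳.obj⦄ (φ : a ⟶ b)
    (h : 𝒳.p.IsStronglyCartesian f φ) : 𝒴.p.IsStronglyCartesian f (F.map φ) := by
  subst_hom_lift 𝒳.p f φ
  exact hF φ h

include hF

theorem faithful_of_fiberFunctor (h : ∀ U, (_root_.FibCat.fiberFunctor F U).Faithful) :
    F.toFunctor.Faithful := by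
  constructor
  intro a b φ ψ e
  obtain ⟨b', θ, hθ⟩ := IsPreFibered.exists_isCartesian 𝒳.p (rfl : 𝒳.p.obj b = _) (𝒳.p.map φ)
  have hψl : 𝒳.p.IsHomLift (𝒳.p.map φ) ψ := by
    refine (F.isHomLift_iff _ _).1 ?_
    rw [show F.map ψ = F.map φ from e.symm]; infer_instance
  have hθ' : 𝒴.p.IsStronglyCartesian (𝒳.p.map φ) (F.map θ) := preservesStronglyCartesian_of_map F hF _ θ inferInstance
  let α := IsCartesian.map 𝒳.p (𝒳.p.map φ) θ φ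
  let β := IsCartesian.map 𝒳.p (𝒳.p.map φ) θ ψ
  have e' : F.map α = F.map β := by
    apply IsCartesian.ext 𝒴.p (𝒳.p.map φ) (F.map θ)
    rw [← F.map_comp, ← F.map_comp, IsCartesian.fac, IsCartesian.fac]; exact e
  have hb' : 𝒳.p.obj b' = 𝒳.p.obj a := IsHomLift.domain_eq 𝒳.p (𝒳.p.map φ) θ
  let A : 𝒳.p.Fiber (𝒳.p.obj a) := ⟨a, rfl⟩
  let B : 𝒳.p.Fiber (𝒳.p.obj a) := ⟨b', hb'⟩
  have hα : 𝒳.p.IsHomLift (𝟙 (𝒳.p.obj a)) α := inferInstance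
  have hβ : 𝒳.p.IsHomLift (𝟙 (𝒳.p.obj a)) β := inferInstance
  have : (⟨α, hα⟩ : A ⟶ B) = ⟨β, hβ⟩ := (h _).map_injective (Fiber.hom_ext e')
  have : α = β := congrArg Subtype.val this
  rw [← IsCartesian.fac 𝒳.p (𝒳.p.map φ) θ φ, ← IsCartesian.fac 𝒳.p (𝒳.p.map φ) θ ψ]
  exact congrArg (· ≫ θ) this

theorem full_of_fiberFunctor (h : ∀ U, (_root_.FibCat.fiberFunctor F U).Full) : F.toFunctor.Full := by
  constructor
  intro a b ψ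
  let f : 𝒳.p.obj a ⟶ 𝒳.p.obj b := eqToHom (F.w_obj a).symm ≫ 𝒴.p.map ψ ≫ eqToHom (F.w_obj b)
  have : 𝒴.p.IsHomLift f ψ := IsHomLift.of_fac 𝒴.p f ψ (F.w_obj a) (F.w_obj b) rfl
  obtain ⟨b', θ, hθ⟩ := IsPreFibered.exists_isCartesian 𝒳.p (rfl : 𝒳.p.obj b = _) f
  have hθ' : 𝒴.p.IsStronglyCartesian f (F.map θ) := preservesStronglyCartesian_of_map F hF _ θ inferInstance
  have hb' : 𝒳.p.obj b' = 𝒳.p.obj a := IsHomLift.domain_eq 𝒳.p f θ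
  let β : (_root_.FibCat.fiberFunctor F _).obj (⟨a, rfl⟩ : 𝒳.p.Fiber (𝒳.p.obj a)) ⟶
      (_root_.FibCat.fiberFunctor F _).obj ⟨b', hb'⟩ :=
    ⟨IsCartesian.map 𝒴.p f (F.map θ) ψ, inferInstanceAs (𝒴.p.IsHomLift (𝟙 (𝒳.p.obj a)) (IsCartesian.map 𝒴.p f (F.map θ) ψ))⟩
  obtain ⟨α, hα⟩ := (h _).map_surjective β
  refine ⟨α.1 ≫ θ, ?_⟩
  have : F.map α.1 = IsCartesian.map 𝒴.p f (F.map θ) ψ := congrArg Subtype.val hα
  rw [F.map_comp, this, IsCartesian.fac]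

end Fibred

theorem IsFibGrpd.preservesStronglyCartesian (h : _root_.FibCat.IsFibGrpd 𝒴.p) (F : 𝒳 ⥤ᵇ 𝒴) ⦃a b : 𝒳.obj⦄
    (φ : a ⟶ b) (_ : 𝒳.p.IsStronglyCartesian (𝒳.p.map φ) φ) :
    𝒴.p.IsStronglyCartesian (𝒳.p.map φ) (F.toFunctor.map φ) :=
  IsFibGrpd.isStronglyCartesian' h _ _

end GrothLib.FibCat
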