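import Groth.Agent.Lib.FibCat.Yoneda

/-!
# Functoriality and pasting of 2-fibre products over a base
-/

set_option backward.isDefEq.respectTransparency false
set_option backward.isDefEq.respectTransparency.types false

universe v₇ u₇ v₆ u₆ v₅ u₅ v₄ u₄ v₃ u₃ v₂ u₂ v u

open CategoryTheory CategoryTheory.Functor

namespace GrothLib.FibCat.Fp

variable {C : Type u} [Category.{v} C]
variable {𝒳 : BasedCategory.{v₂, u₂} C} {𝒴 : BasedCategory.{v₃, u₃} C} {𝒮 : BasedCategory.{v₄, u₄} C}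
variable {𝒳' : BasedCategory.{v₅, u₅} C} {𝒴' : BasedCategory.{v₆, u₆} C} {𝒮' : BasedCategory.{v₇, u₇} C}
variable {F : 𝒳 ⥤ᵇ 𝒮} {G : 𝒴 ⥤ᵇ 𝒮} {F' : 𝒳' ⥤ᵇ 𝒮'} {G' : 𝒴' ⥤ᵇ 𝒮'}

/-- The functor of fibre products induced by a morphism of cospans. -/
def map (a : 𝒳 ⥤ᵇ 𝒳') (b : 𝒴 ⥤ᵇ 𝒴') (c : 𝒮 ⥤ᵇ 𝒮') (eF : BasedFunctor.comp a F' ≅ BasedFunctor.comp F c)
    (eG : BasedFunctor.comp b G' ≅ BasedFunctor.comp G c) : _root_.FibCat.fp F G ⥤ᵇ _root_.FibCat.fp F' G' :=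
  _root_.FibCat.fpLift (BasedFunctor.comp (_root_.FibCat.fpFst F G) a) (BasedFunctor.comp (_root_.FibCat.fpSnd F G) b)
    (whiskerLeftIso (_root_.FibCat.fpFst F G) eF ≪≫ whiskerRightIso (_root_.FibCat.fpIso F G) c ≪≫
      (whiskerLeftIso (_root_.FibCat.fpSnd F G) eG).symm)

theorem map_fst (a : 𝒳 ⥤ᵇ 𝒳') (b : 𝒴 ⥤ᵇ 𝒴') (c : 𝒮 ⥤ᵇ 𝒮') (eF : BasedFunctor.comp a F' ≅ BasedFunctor.comp F c)
    (eG : BasedFunctor.comp b G' ≅ BasedFunctor.comp G c) :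
    BasedFunctor.comp (map a b c eF eG) (_root_.FibCat.fpFst F' G') = BasedFunctor.comp (_root_.FibCat.fpFst F G) a :=
  rfl

theorem map_snd (a : 𝒳 ⥤ᵇ 𝒳') (b : 𝒴 ⥤ᵇ 𝒴') (c : 𝒮 ⥤ᵇ 𝒮') (eF : BasedFunctor.comp a F' ≅ BasedFunctor.comp F c)
    (eG : BasedFunctor.comp b G' ≅ BasedFunctor.comp G c) :
    BasedFunctor.comp (map a b c eF eG) (_root_.FibCat.fpSnd F' G') = BasedFunctor.comp (_root_.FibCat.fpSnd F G) b :=
  rfl

theorem map_iso (a : 𝒳 ⥤ᵇ 𝒳') (b : 𝒴 ⥤ᵇ 𝒴') (c : 𝒮 ⥤ᵇ 𝒮') (eF : BasedFunctor.comp a F' ≅ BasedFunctor.comp F c)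
    (eG : BasedFunctor.comp b G' ≅ BasedFunctor.comp G c) (x : (_root_.FibCat.fp F G).obj) :
    ((map a b c eF eG).obj x).obj.iso.hom =
      eF.hom.toNatTrans.app x.obj.fst ≫ c.map x.obj.iso.hom ≫ eG.inv.toNatTrans.app x.obj.snd := rfl

theorem isEquivOver_map (a : 𝒳 ⥤ᵇ 𝒳') (b : 𝒴 ⥤ᵇ 𝒴') (c : 𝒮 ⥤ᵇ 𝒮')
    (eF : BasedFunctor.comp a F' ≅ BasedFunctor.comp F c) (eG : BasedFunctor.comp b G' ≅ BasedFunctor.comp G c)
    (ha : _root_.FibCat.IsEquivOver a) (hb : _root_.FibCat.IsEquivOver b)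
    [c.toFunctor.Full] [c.toFunctor.Faithful] : _root_.FibCat.IsEquivOver (map a b c eF eG) := by
  have := IsEquivOver.full ha
  have := IsEquivOver.faithful ha
  have := IsEquivOver.full hb
  have := IsEquivOver.faithful hb
  have hfa : (map a b c eF eG).toFunctor.Faithful := ⟨fun {x y φ ψ} h =>
    hom_ext (a.toFunctor.map_injective (congrArg (fun t => t.hom.fst) h))
      (b.toFunctor.map_injective (congrArg (fun t => t.hom.snd) h))⟩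
  have hfu : (map a b c eF eG).toFunctor.Full := ⟨fun {x y} ψ => by
    let α := a.toFunctor.preimage (X := x.obj.fst) (Y := y.obj.fst) ψ.hom.fst
    let β := b.toFunctor.preimage (X := x.obj.snd) (Y := y.obj.snd) ψ.hom.snd
    have hα : a.map α = ψ.hom.fst := a.toFunctor.map_preimage _
    have hβ : b.map β = ψ.hom.snd := b.toFunctor.map_preimage _
    have hw : F'.map ψ.hom.fst ≫ ((map a b c eF eG).obj y).obj.iso.hom =
        ((map a b c eF eG).obj x).obj.iso.hom ≫ G'.map ψ.hom.snd := w ψ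
    rw [map_iso, map_iso, ← hα, ← hβ] at hw
    have n1 : F'.map (a.map α) ≫ eF.hom.toNatTrans.app y.obj.fst =
        eF.hom.toNatTrans.app x.obj.fst ≫ c.map (F.map α) := eF.hom.toNatTrans.naturality α
    have n2 : c.map (G.map β) ≫ eG.inv.toNatTrans.app y.obj.snd =
        eG.inv.toNatTrans.app x.obj.snd ≫ G'.map (b.map β) := eG.inv.toNatTrans.naturality β
    rw [reassoc_of% n1, Category.assoc, Category.assoc, ← n2] at hw
    have e : c.map (F.map α ≫ y.obj.iso.hom) = c.map (x.obj.iso.hom ≫ G.map β) := by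
      have h1 : (isoApp eF x.obj.fst).hom ≫ (c.map (F.map α) ≫ c.map y.obj.iso.hom) ≫ (isoApp eG y.obj.snd).inv =
          (isoApp eF x.obj.fst).hom ≫ (c.map x.obj.iso.hom ≫ c.map (G.map β)) ≫ (isoApp eG y.obj.snd).inv := by
        simpa only [Category.assoc, isoApp_hom, isoApp_inv] using hw
      rw [cancel_epi, cancel_mono] at h1
      rw [c.map_comp, c.map_comp]
      exact h1
    exact ⟨homMk α β (c.toFunctor.map_injective e), hom_ext hα hβ⟩⟩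
  refine FFEssSurjOver.isEquivOver ⟨hfu, hfa, fun η => ?_⟩
  obtain ⟨x, ex, hex⟩ := IsEquivOver.essSurj ha η.obj.fst
  obtain ⟨y, ey, hey⟩ := IsEquivOver.essSurj hb η.obj.snd
  let U := 𝒳'.p.obj η.obj.fst
  have hx : 𝒳.p.obj x = U := (a.w_obj x).symm.trans (IsHomLift.domain_eq 𝒳'.p (𝟙 U) ex.hom)
  have hey' : 𝒴'.p.IsHomLift (𝟙 U) ey.hom :=
    isHomLift_id_of_eq 𝒴'.p (R := 𝒴'.p.obj η.obj.snd) _ (Or.inr (snd_proj η))
  have hy : 𝒴.p.obj y = U := (b.w_obj y).symm.trans (IsHomLift.domain_eq 𝒴'.p (𝟙 U) ey.hom)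
  let m : c.obj (F.obj x) ≅ c.obj (G.obj y) :=
    (isoApp eF x).symm ≪≫ F'.toFunctor.mapIso ex ≪≫ η.obj.iso ≪≫ G'.toFunctor.mapIso ey.symm ≪≫ isoApp eG y
  have hm : 𝒮'.p.IsHomLift (𝟙 U) m.hom := by
    have := isHomLift_isoApp eF hx
    have := isHomLift_isoApp eG hy
    have := isHomLift_id_inv 𝒮'.p (R := U) (isoApp eF x)
    have := iso_lift η
    have := isHomLift_id_inv 𝒴'.p (R := U) ey
    exact inferInstanceAs (𝒮'.p.IsHomLift (𝟙 U) ((isoApp eF x).inv ≫ F'.map ex.hom ≫ η.obj.iso.hom ≫ G'.map ey.inv ≫ (isoApp eG y).hom))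
  let ε : F.obj x ≅ G.obj y := c.toFunctor.preimageIso m
  have hε : c.map ε.hom = m.hom := c.toFunctor.map_preimage _
  have hε' : 𝒮.p.IsHomLift (𝟙 (𝒳.p.obj x)) ε.hom := by
    rw [hx]
    refine (c.isHomLift_iff _ _).1 ?_
    rw [hε]; exact hm
  refine ⟨mk x y ε hε', isoMk ex ey ?_, ?_⟩
  · rw [map_iso]
    change F'.map ex.hom ≫ η.obj.iso.hom =
      ((isoApp eF x).hom ≫ c.map ε.hom ≫ (isoApp eG y).inv) ≫ G'.map ey.hom
    rw [hε]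
    simp only [m, Iso.trans_hom, Iso.symm_hom, Functor.mapIso_hom, Category.assoc, Iso.hom_inv_id_assoc]
    rw [← G'.map_comp, ey.inv_hom_id, G'.map_id, Category.comp_id]
  · exact (isHomLift_iff _ _).2 hex

/-- Replace the two functors of a fibre product by isomorphic ones. -/
def congr {F₁ F₂ : 𝒳 ⥤ᵇ 𝒮} {G₁ G₂ : 𝒴 ⥤ᵇ 𝒮} (α : F₁ ≅ F₂) (β : G₁ ≅ G₂) :
    _root_.FibCat.fp F₁ G₁ ⥤ᵇ _root_.FibCat.fp F₂ G₂ :=
  map (BasedFunctor.id 𝒳) (BasedFunctor.id 𝒴) (BasedFunctor.id 𝒮) α.symm β.symm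

theorem isEquivOver_congr {F₁ F₂ : 𝒳 ⥤ᵇ 𝒮} {G₁ G₂ : 𝒴 ⥤ᵇ 𝒮} (α : F₁ ≅ F₂) (β : G₁ ≅ G₂) :
    _root_.FibCat.IsEquivOver (congr α β) :=
  have := IsEquivOver.full (IsEquivOver.refl 𝒮)
  have := IsEquivOver.faithful (IsEquivOver.refl 𝒮)
  isEquivOver_map _ _ _ _ _ (IsEquivOver.refl 𝒳) (IsEquivOver.refl 𝒴)

/-- Symmetry of the fibre product. -/
def symm (F : 𝒳 ⥤ᵇ 𝒮) (G : 𝒴 ⥤ᵇ 𝒮) : _root_.FibCat.fp F G ⥤ᵇ _root_.FibCat.fp G F :=
  _root_.FibCat.fpLift (_root_.FibCat.fpSnd F G) (_root_.FibCat.fpFst F G) (_root_.FibCat.fpIso F G).symm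

theorem isEquivOver_symm (F : 𝒳 ⥤ᵇ 𝒮) (G : 𝒴 ⥤ᵇ 𝒮) : _root_.FibCat.IsEquivOver (symm F G) :=
  ⟨symm G F,
    ⟨natIsoOfComponents (fun x => isoMk (a := (symm G F).obj ((symm F G).obj x)) (b := x) (Iso.refl _) (Iso.refl _)
        (by simp; rfl))
      (fun x => (isHomLift_iff _ _).2 (IsHomLift.id rfl)) (fun f => hom_ext ((Category.comp_id _).trans (Category.id_comp _).symm) ((Category.comp_id _).trans (Category.id_comp _).symm))⟩,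
    ⟨natIsoOfComponents (fun x => isoMk (a := (symm F G).obj ((symm G F).obj x)) (b := x) (Iso.refl _) (Iso.refl _)
        (by simp; rfl))
      (fun x => (isHomLift_iff _ _).2 (IsHomLift.id rfl)) (fun f => hom_ext ((Category.comp_id _).trans (Category.id_comp _).symm) ((Category.comp_id _).trans (Category.id_comp _).symm))⟩⟩

section Paste

variable {𝒵 : BasedCategory.{v₅, u₅} C} {𝒲 : BasedCategory.{v₆, u₆} C}
variable (f : 𝒳 ⥤ᵇ 𝒴) (g : 𝒵 ⥤ᵇ 𝒴) (y : 𝒲 ⥤ᵇ 𝒵)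

/-- Base change along a composite: `𝒲 ×_𝒵 (𝒵 ×_𝒴 𝒳) ⟶ 𝒲 ×_𝒴 𝒳`. -/
def paste : _root_.FibCat.fp y (_root_.FibCat.fpFst g f) ⥤ᵇ _root_.FibCat.fp (BasedFunctor.comp y g) f :=
  _root_.FibCat.fpLift (_root_.FibCat.fpFst _ _)
    (BasedFunctor.comp (_root_.FibCat.fpSnd y (_root_.FibCat.fpFst g f)) (_root_.FibCat.fpSnd g f))
    (whiskerRightIso (_root_.FibCat.fpIso y (_root_.FibCat.fpFst g f)) g ≪≫
      whiskerLeftIso (_root_.FibCat.fpSnd y (_root_.FibCat.fpFst g f)) (_root_.FibCat.fpIso g f))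

theorem paste_fst : BasedFunctor.comp (paste f g y) (_root_.FibCat.fpFst _ _) = _root_.FibCat.fpFst _ _ := rfl

theorem paste_iso (x : (_root_.FibCat.fp y (_root_.FibCat.fpFst g f)).obj) :
    ((paste f g y).obj x).obj.iso.hom = g.map x.obj.iso.hom ≫ x.obj.snd.obj.iso.hom := rfl

theorem isEquivOver_paste : _root_.FibCat.IsEquivOver (paste f g y) := by
  have hfa : (paste f g y).toFunctor.Faithful := by
    refine ⟨fun {a b φ ψ} h => ?_⟩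
    have h1 : φ.hom.fst = ψ.hom.fst := congrArg (fun t => t.hom.fst) h
    have e1 : y.map φ.hom.fst ≫ b.obj.iso.hom = a.obj.iso.hom ≫ φ.hom.snd.hom.fst := w φ
    have e2 : y.map ψ.hom.fst ≫ b.obj.iso.hom = a.obj.iso.hom ≫ ψ.hom.snd.hom.fst := w ψ
    refine hom_ext h1 (hom_ext ?_ (congrArg (fun t => t.hom.snd) h :))
    rw [h1] at e1
    rw [← cancel_epi a.obj.iso.hom]
    exact e1.symm.trans e2
  have hfu : (paste f g y).toFunctor.Full := by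
    refine ⟨fun {a b} ψ => ?_⟩
    have hw : g.map (y.map ψ.hom.fst) ≫ g.map b.obj.iso.hom ≫ b.obj.snd.obj.iso.hom =
        (g.map a.obj.iso.hom ≫ a.obj.snd.obj.iso.hom) ≫ f.map ψ.hom.snd := w ψ
    let ia : y.obj a.obj.fst ≅ a.obj.snd.obj.fst := a.obj.iso
    let ib : y.obj b.obj.fst ≅ b.obj.snd.obj.fst := b.obj.iso
    replace hw : g.map (y.map ψ.hom.fst) ≫ g.map ib.hom ≫ b.obj.snd.obj.iso.hom =
        (g.map ia.hom ≫ a.obj.snd.obj.iso.hom) ≫ f.map ψ.hom.snd := hw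
    let β₁ : a.obj.snd.obj.fst ⟶ b.obj.snd.obj.fst := ia.inv ≫ y.map ψ.hom.fst ≫ ib.hom
    have hwβ : g.map β₁ ≫ b.obj.snd.obj.iso.hom = a.obj.snd.obj.iso.hom ≫ f.map ψ.hom.snd := by
      simp only [β₁, g.map_comp, Category.assoc]
      rw [hw, Category.assoc, ← g.map_comp_assoc, ia.inv_hom_id, g.map_id, Category.id_comp]
    have hwo : y.map ψ.hom.fst ≫ ib.hom = ia.hom ≫ β₁ := by simp [β₁]
    exact ⟨homMk ψ.hom.fst (homMk β₁ ψ.hom.snd hwβ) hwo, hom_ext rfl rfl⟩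
  refine FFEssSurjOver.isEquivOver ⟨hfu, hfa, fun η => ?_⟩
  have hs : 𝒵.p.obj (y.obj η.obj.fst) = 𝒲.p.obj η.obj.fst := y.w_obj _
  have hη : 𝒴.p.IsHomLift (𝟙 (𝒲.p.obj η.obj.fst)) η.obj.iso.hom := iso_lift η
  let inner : (_root_.FibCat.fp g f).obj := mk (y.obj η.obj.fst) η.obj.snd η.obj.iso (by rw [hs]; exact hη)
  let o : (_root_.FibCat.fp y (_root_.FibCat.fpFst g f)).obj :=
    mk η.obj.fst inner (Iso.refl (y.obj η.obj.fst)) (IsHomLift.id (y.w_obj _))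
  refine ⟨o, isoMk (Iso.refl _) (Iso.refl _) ?_, (isHomLift_iff _ _).2 (IsHomLift.id rfl)⟩
  rw [paste_iso]
  change g.map (y.map (𝟙 _)) ≫ η.obj.iso.hom = (g.map (𝟙 _) ≫ η.obj.iso.hom) ≫ f.map (𝟙 _)
  simp

variable {𝒰 : BasedCategory.{v₆, u₆} C} (h : 𝒴 ⥤ᵇ 𝒵) (z : 𝒰 ⥤ᵇ 𝒵)

/-- Base change of a composite: `(𝒰 ×_𝒵 𝒴) ×_𝒴 𝒳 ⟶ 𝒰 ×_𝒵 𝒳`. -/
def pasteComp : _root_.FibCat.fp (_root_.FibCat.fpSnd z h) f ⥤ᵇ _root_.FibCat.fp z (BasedFunctor.comp f h) :=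
  _root_.FibCat.fpLift (BasedFunctor.comp (_root_.FibCat.fpFst (_root_.FibCat.fpSnd z h) f) (_root_.FibCat.fpFst z h))
    (_root_.FibCat.fpSnd (_root_.FibCat.fpSnd z h) f)
    (whiskerLeftIso (_root_.FibCat.fpFst (_root_.FibCat.fpSnd z h) f) (_root_.FibCat.fpIso z h) ≪≫
      whiskerRightIso (_root_.FibCat.fpIso (_root_.FibCat.fpSnd z h) f) h)

theorem pasteComp_fst : BasedFunctor.comp (pasteComp f h z) (_root_.FibCat.fpFst _ _) =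
    BasedFunctor.comp (_root_.FibCat.fpFst _ _) (_root_.FibCat.fpFst _ _) := rfl

theorem pasteComp_iso (x : (_root_.FibCat.fp (_root_.FibCat.fpSnd z h) f).obj) :
    ((pasteComp f h z).obj x).obj.iso.hom = x.obj.fst.obj.iso.hom ≫ h.map x.obj.iso.hom := rfl

theorem isEquivOver_pasteComp : _root_.FibCat.IsEquivOver (pasteComp f h z) := by
  have hfa : (pasteComp f h z).toFunctor.Faithful := by
    refine ⟨fun {a b φ ψ} e => ?_⟩
    have h1 : φ.hom.snd = ψ.hom.snd := congrArg (fun t => t.hom.snd) e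
    have e1 : φ.hom.fst.hom.snd ≫ b.obj.iso.hom = a.obj.iso.hom ≫ f.map φ.hom.snd := w φ
    have e2 : ψ.hom.fst.hom.snd ≫ b.obj.iso.hom = a.obj.iso.hom ≫ f.map ψ.hom.snd := w ψ
    refine hom_ext (hom_ext (congrArg (fun t => t.hom.fst) e :) ?_) h1
    rw [h1] at e1
    rw [← cancel_mono b.obj.iso.hom]
    exact e1.trans e2.symm
  have hfu : (pasteComp f h z).toFunctor.Full := by
    refine ⟨fun {a b} ψ => ?_⟩
    have hw : z.map ψ.hom.fst ≫ b.obj.fst.obj.iso.hom ≫ h.map b.obj.iso.hom =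
        (a.obj.fst.obj.iso.hom ≫ h.map a.obj.iso.hom) ≫ h.map (f.map ψ.hom.snd) := w ψ
    let ia : a.obj.fst.obj.snd ≅ f.obj a.obj.snd := a.obj.iso
    let ib : b.obj.fst.obj.snd ≅ f.obj b.obj.snd := b.obj.iso
    replace hw : z.map ψ.hom.fst ≫ b.obj.fst.obj.iso.hom ≫ h.map ib.hom =
        (a.obj.fst.obj.iso.hom ≫ h.map ia.hom) ≫ h.map (f.map ψ.hom.snd) := hw
    let β₁ : a.obj.fst.obj.snd ⟶ b.obj.fst.obj.snd := ia.hom ≫ f.map ψ.hom.snd ≫ ib.inv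
    have hwβ : z.map ψ.hom.fst ≫ b.obj.fst.obj.iso.hom = a.obj.fst.obj.iso.hom ≫ h.map β₁ := by
      calc z.map ψ.hom.fst ≫ b.obj.fst.obj.iso.hom
          = (z.map ψ.hom.fst ≫ b.obj.fst.obj.iso.hom ≫ h.map ib.hom) ≫ h.map ib.inv := by
            simp only [Category.assoc]
            rw [← h.map_comp, ib.hom_inv_id, h.map_id, Category.comp_id]
        _ = a.obj.fst.obj.iso.hom ≫ h.map β₁ := by
            rw [hw]; simp only [β₁, h.map_comp, Category.assoc]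
    have hwo : β₁ ≫ ib.hom = ia.hom ≫ f.map ψ.hom.snd := by simp [β₁]
    exact ⟨homMk (homMk ψ.hom.fst β₁ hwβ) ψ.hom.snd hwo, hom_ext rfl rfl⟩
  refine FFEssSurjOver.isEquivOver ⟨hfu, hfa, fun η => ?_⟩
  have hη : 𝒵.p.IsHomLift (𝟙 (𝒰.p.obj η.obj.fst)) η.obj.iso.hom := iso_lift η
  let inner : (_root_.FibCat.fp z h).obj := mk η.obj.fst (f.obj η.obj.snd) η.obj.iso hη
  have hs : 𝒴.p.obj (f.obj η.obj.snd) = 𝒰.p.obj η.obj.fst := (f.w_obj _).trans (snd_proj η)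
  let o : (_root_.FibCat.fp (_root_.FibCat.fpSnd z h) f).obj :=
    mk inner η.obj.snd (Iso.refl (f.obj η.obj.snd)) (IsHomLift.id hs)
  refine ⟨o, isoMk (Iso.refl _) (Iso.refl _) ?_, (isHomLift_iff _ _).2 (IsHomLift.id rfl)⟩
  rw [pasteComp_iso]
  change z.map (𝟙 _) ≫ η.obj.iso.hom = (η.obj.iso.hom ≫ h.map (𝟙 _)) ≫ h.map (f.map (𝟙 _))
  simp
  exact (Category.comp_id η.obj.iso.hom).symm

end Paste

/-- The projection `𝒳 ×_𝒴 𝒴 ⟶ 𝒳` is an equivalence over `C`. -/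
theorem isEquivOver_fpFst_of_isEquivOver (F : 𝒳 ⥤ᵇ 𝒮) (hG : _root_.FibCat.IsEquivOver G) :
    _root_.FibCat.IsEquivOver (_root_.FibCat.fpFst F G) := by
  have := IsEquivOver.full hG
  have := IsEquivOver.faithful hG
  refine FFEssSurjOver.isEquivOver ⟨?_, faithful_fpFst, fun x => ?_⟩
  · refine ⟨fun {a b} φ => ?_⟩
    let β := G.toFunctor.preimage (a.obj.iso.inv ≫ F.map φ ≫ b.obj.iso.hom)
    have hβ : G.map β = a.obj.iso.inv ≫ F.map φ ≫ b.obj.iso.hom := G.toFunctor.map_preimage _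
    exact ⟨homMk φ β (by rw [hβ]; simp), rfl⟩
  · obtain ⟨y, e, he⟩ := IsEquivOver.essSurj hG (F.obj x)
    have := isHomLift_id_inv 𝒮.p (R := 𝒮.p.obj (F.obj x)) e
    exact ⟨mk x y e.symm (isHomLift_id_of_eq 𝒮.p (R := 𝒮.p.obj (F.obj x)) e.inv (Or.inl (F.w_obj x))),
      Iso.refl x, IsHomLift.id rfl⟩

theorem isEquivOver_fpSnd_of_isEquivOver (G : 𝒴 ⥤ᵇ 𝒮) (hF : _root_.FibCat.IsEquivOver F) :
    _root_.FibCat.IsEquivOver (_root_.FibCat.fpSnd F G) :=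
  IsEquivOver.comp (isEquivOver_symm F G) (isEquivOver_fpFst_of_isEquivOver G hF)

end GrothLib.FibCat.Fp
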