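import Groth.Prelude.Def_AlgSt
import Groth.Agent.Lib.FibCat.FpMap
import Mathlib.CategoryTheory.Limits.FunctorCategory.Shapes.Pullbacks
import Mathlib.CategoryTheory.Limits.Types.Pullbacks
import Mathlib.CategoryTheory.Limits.Shapes.Pullback.IsPullback.Basic

/-!
# The category over `C` of a presheaf of sets
-/

set_option backward.isDefEq.respectTransparency false
set_option backward.isDefEq.respectTransparency.types false

universe w v₂ u₂ v u

open CategoryTheory CategoryTheory.Functor CategoryTheory.Limits Opposite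

namespace GrothLib.FibCat

variable {C : Type u} [Category.{v} C] {P Q R : Cᵒᵖ ⥤ Type w}

theorem eltObj_eq {a b : Stk.EltObj P} (h : a.base = b.base) (h' : P.map (eqToHom h).op b.sec = a.sec) :
    a = b := by
  obtain ⟨T, x⟩ := a
  obtain ⟨T', y⟩ := b
  dsimp at h
  subst h
  change P.map (𝟙 (op T)) y = x at h'
  erw [P.map_id] at h'
  exact congrArg _ h'.symm

theorem isFibSet_ofPsh (P : Cᵒᵖ ⥤ Type w) : _root_.FibCat.IsFibSet (Stk.EltObj.forget P) := by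
  refine ⟨Stk.isFibGrpd_ofPsh P, fun U => ?_⟩
  refine { subsingleton := fun A B => ⟨fun φ ψ => ?_⟩, eq_of_hom := fun {A B} φ => ?_ }
  · have := φ.2
    have := ψ.2
    exact Subtype.ext (Stk.EltObj.hom_ext
      ((map_eq_eqToHom (Stk.EltObj.forget P) (R := U) φ.1).trans
        (map_eq_eqToHom (Stk.EltObj.forget P) (R := U) ψ.1).symm))
  · have := φ.2
    apply Subtype.ext
    have e := map_eq_eqToHom (Stk.EltObj.forget P) (R := U) φ.1
    refine eltObj_eq (A.2.trans B.2.symm) ?_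
    have h' := φ.1.map_sec
    rw [show φ.1.hom = eqToHom (A.2.trans B.2.symm) from e] at h'
    exact h'

theorem isFibSetoid_ofPsh (P : Cᵒᵖ ⥤ Type w) : _root_.FibCat.IsFibSetoid (Stk.EltObj.forget P) :=
  IsFibSet.isFibSetoid (isFibSet_ofPsh P)

theorem map_map_sec {X Y Z : C} (f : Z ⟶ Y) (g : Y ⟶ X) (k : Z ⟶ X) (h : f ≫ g = k) (x : P.obj (op X)) :
    P.map f.op (P.map g.op x) = P.map k.op x := by
  rw [← h, op_comp, Functor.map_comp_apply]

theorem ofPsh_hom_ext {a b : Stk.EltObj P} {f g : a ⟶ b} (h : f.hom = g.hom) : f = g := Stk.EltObj.hom_ext h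

/-- A vertical morphism in the category of a presheaf transports the section. -/
theorem sec_eq_of_isHomLift {T : C} {a b : Stk.EltObj P} (φ : a ⟶ b)
    [hφ : (Stk.EltObj.forget P).IsHomLift (𝟙 T) φ] :
    P.map (eqToHom ((IsHomLift.domain_eq (Stk.EltObj.forget P) (𝟙 T) φ).trans
      (IsHomLift.codomain_eq (Stk.EltObj.forget P) (𝟙 T) φ).symm)).op b.sec = a.sec := by
  have e := map_eq_eqToHom (Stk.EltObj.forget P) (R := T) φ
  have h := φ.map_sec
  rw [Stk.EltObj.forget_map] at e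
  rw [e] at h
  exact h

section PshHom

/-- The value of a functor over `C` between categories of presheaves on a section. -/
def pshSec (Φ : Stk.ofPsh P ⥤ᵇ Stk.ofPsh Q) (T : C) (x : P.obj (op T)) : Q.obj (op T) :=
  Q.map (eqToHom (Φ.w_obj ⟨T, x⟩).symm).op (Φ.obj ⟨T, x⟩).sec

theorem pshSec_map (Φ : Stk.ofPsh P ⥤ᵇ Stk.ofPsh Q) {T' T : C} (g : T' ⟶ T) (x : P.obj (op T)) :
    pshSec Φ T' (P.map g.op x) = Q.map g.op (pshSec Φ T x) := by
  let ψ : (⟨T', P.map g.op x⟩ : Stk.EltObj P) ⟶ ⟨T, x⟩ := ⟨g, rfl⟩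
  have h1 : (Φ.map ψ).hom = eqToHom (Φ.w_obj ⟨T', P.map g.op x⟩) ≫ g ≫ eqToHom (Φ.w_obj ⟨T, x⟩).symm :=
    p_map_map Φ ψ
  have h2 := (Φ.map ψ).map_sec
  rw [pshSec, pshSec, ← h2, h1]
  refine (map_map_sec _ _ _ ?_ _).trans (map_map_sec g _ _ rfl _).symm
  exact (eqToHom_trans_assoc _ _ _).trans (by simp)

/-- The map of presheaves determined by a functor over `C` between their categories. -/
def pshHom (Φ : Stk.ofPsh P ⥤ᵇ Stk.ofPsh Q) : P ⟶ Q where
  app T := ↾fun x => pshSec Φ T.unop x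
  naturality T' T g := by
    ext x
    exact pshSec_map Φ g.unop x

theorem pshHom_app (Φ : Stk.ofPsh P ⥤ᵇ Stk.ofPsh Q) (T : C) (x : P.obj (op T)) :
    (pshHom Φ).app (op T) x = pshSec Φ T x := rfl

theorem pshHom_ofPshMap (a : P ⟶ Q) : pshHom (Stk.ofPshMap a) = a := by
  ext T x
  change Q.map (𝟙 T.unop).op (a.app T x) = a.app T x
  simp

theorem pshHom_congr {Φ Ψ : Stk.ofPsh P ⥤ᵇ Stk.ofPsh Q} (α : Φ ≅ Ψ) : pshHom Φ = pshHom Ψ := by
  ext T x
  let a : Stk.EltObj P := ⟨T.unop, x⟩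
  have h := sec_eq_of_isHomLift (T := T.unop) (isoApp α a).hom (hφ := isHomLift_isoApp α (x := a) rfl)
  change Q.map _ (Φ.obj a).sec = Q.map _ (Ψ.obj a).sec
  rw [← h]
  exact map_map_sec _ _ _ (eqToHom_trans _ _) _

theorem obj_eq_pshHom (Φ : Stk.ofPsh P ⥤ᵇ Stk.ofPsh Q) (a : Stk.EltObj P) :
    Φ.obj a = (Stk.ofPshMap (pshHom Φ)).obj a := by
  refine eltObj_eq (Φ.w_obj a) ?_
  change Q.map _ (Q.map _ (Φ.obj a).sec) = (Φ.obj a).sec
  refine (map_map_sec _ _ (𝟙 _) ((eqToHom_trans _ _).trans (eqToHom_refl _ _)) _).trans ?_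
  simp

theorem eltObj_eqToHom_hom {a b : Stk.EltObj P} (h : a = b) :
    (eqToHom h).hom = eqToHom (congrArg Stk.EltObj.base h) := by
  subst h; rfl

/-- Every functor over `C` between categories of presheaves comes from a map of presheaves. -/
def isoOfPshHom (Φ : Stk.ofPsh P ⥤ᵇ Stk.ofPsh Q) : Φ ≅ Stk.ofPshMap (pshHom Φ) :=
  natIsoOfComponents (fun a => eqToIso (obj_eq_pshHom Φ a))
    (fun a => IsHomLift.of_fac' _ _ _ (Φ.w_obj a) rfl (by
      simp only [eqToIso.hom, Stk.EltObj.forget_map, eltObj_eqToHom_hom]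
      simp))
    (fun {a b} f => ofPsh_hom_ext (by
      have h1 : (Φ.map f).hom = eqToHom (Φ.w_obj a) ≫ f.hom ≫ eqToHom (Φ.w_obj b).symm := p_map_map Φ f
      simp only [eqToIso.hom, Stk.EltObj.comp_hom, eltObj_eqToHom_hom, h1]
      change _ = _ ≫ f.hom
      simp))

theorem iso_of_pshHom_eq {Φ Ψ : Stk.ofPsh P ⥤ᵇ Stk.ofPsh Q} (h : pshHom Φ = pshHom Ψ) : Nonempty (Φ ≅ Ψ) :=
  ⟨isoOfPshHom Φ ≪≫ eqToIso (congrArg Stk.ofPshMap h) ≪≫ (isoOfPshHom Ψ).symm⟩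

theorem pshHom_id : pshHom (BasedFunctor.id (Stk.ofPsh P)) = 𝟙 P := by
  ext T x
  change P.map (𝟙 T.unop).op x = x
  simp

theorem pshHom_comp_ofPshMap (Φ : Stk.ofPsh P ⥤ᵇ Stk.ofPsh Q) (b : Q ⟶ R) :
    pshHom (BasedFunctor.comp Φ (Stk.ofPshMap b)) = pshHom Φ ≫ b := by
  ext T x
  exact (NatTrans.naturality_apply b (eqToHom (Φ.w_obj ⟨T.unop, x⟩).symm).op (Φ.obj ⟨T.unop, x⟩).sec).symm

theorem pshHom_comp (Φ : Stk.ofPsh P ⥤ᵇ Stk.ofPsh Q) (Ψ : Stk.ofPsh Q ⥤ᵇ Stk.ofPsh R) :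
    pshHom (BasedFunctor.comp Φ Ψ) = pshHom Φ ≫ pshHom Ψ :=
  (pshHom_congr (whiskerLeftIso Φ (isoOfPshHom Ψ))).trans (pshHom_comp_ofPshMap Φ (pshHom Ψ))

theorem isIso_pshHom {Φ : Stk.ofPsh P ⥤ᵇ Stk.ofPsh Q} (h : _root_.FibCat.IsEquivOver Φ) : IsIso (pshHom Φ) := by
  obtain ⟨Ψ, ⟨η⟩, ⟨ε⟩⟩ := h
  exact ⟨pshHom Ψ, by rw [← pshHom_comp, pshHom_congr η, pshHom_id],
    by rw [← pshHom_comp, pshHom_congr ε, pshHom_id]⟩

theorem pshHom_id_ofPshMap : pshHom (Stk.ofPshMap (𝟙 P)) = pshHom (BasedFunctor.id (Stk.ofPsh P)) := by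
  rw [pshHom_ofPshMap, pshHom_id]

theorem isEquivOver_ofPshMap (a : P ⟶ Q) [IsIso a] : _root_.FibCat.IsEquivOver (Stk.ofPshMap a) := by
  refine ⟨Stk.ofPshMap (inv a), iso_of_pshHom_eq ?_, iso_of_pshHom_eq ?_⟩ <;>
    simp [pshHom_comp, pshHom_ofPshMap, pshHom_id]

theorem isEquivOver_iff_isIso_pshHom (Φ : Stk.ofPsh P ⥤ᵇ Stk.ofPsh Q) :
    _root_.FibCat.IsEquivOver Φ ↔ IsIso (pshHom Φ) :=
  ⟨isIso_pshHom, fun _ => IsEquivOver.of_iso (isoOfPshHom Φ).symm (isEquivOver_ofPshMap _)⟩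

end PshHom

section Pullback

variable {L : Cᵒᵖ ⥤ Type w} {fst : L ⟶ P} {snd : L ⟶ Q} {a : P ⟶ R} {b : Q ⟶ R}

/-- The square of categories over `C` of a commutative square of presheaves. -/
def pshSquareIso (w : fst ≫ a = snd ≫ b) :
    BasedFunctor.comp (Stk.ofPshMap fst) (Stk.ofPshMap a) ≅
      BasedFunctor.comp (Stk.ofPshMap snd) (Stk.ofPshMap b) :=
  isoOfPshHom _ ≪≫ eqToIso (congrArg Stk.ofPshMap
    (by rw [pshHom_comp_ofPshMap, pshHom_comp_ofPshMap, pshHom_ofPshMap, pshHom_ofPshMap, w])) ≪≫ (isoOfPshHom _).symm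

/-- The comparison functor to the 2-fibre product. -/
def pshToFp (w : fst ≫ a = snd ≫ b) :
    Stk.ofPsh L ⥤ᵇ _root_.FibCat.fp (Stk.ofPshMap a) (Stk.ofPshMap b) :=
  _root_.FibCat.fpLift (Stk.ofPshMap fst) (Stk.ofPshMap snd) (pshSquareIso w)

theorem pshToFp_fst (w : fst ≫ a = snd ≫ b) :
    BasedFunctor.comp (pshToFp w) (_root_.FibCat.fpFst _ _) = Stk.ofPshMap fst := rfl

theorem pshToFp_snd (w : fst ≫ a = snd ≫ b) :
    BasedFunctor.comp (pshToFp w) (_root_.FibCat.fpSnd _ _) = Stk.ofPshMap snd := rfl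

/-- The category of a fibre product of presheaves is the 2-fibre product. -/
theorem isEquivOver_pshToFp (h : IsPullback fst snd a b) : _root_.FibCat.IsEquivOver (pshToFp h.w) := by
  have hT : ∀ T : Cᵒᵖ, IsPullback (fst.app T) (snd.app T) (a.app T) (b.app T) := fun T =>
    Functor.map_isPullback ((CategoryTheory.evaluation Cᵒᵖ (Type w)).obj T) h
  refine FFEssSurjOver.isEquivOver ⟨⟨fun {x y} ψ => ?_⟩, ⟨fun {x y φ φ'} e => ?_⟩, fun η => ?_⟩
  · let g : x.base ⟶ y.base := ψ.hom.fst.hom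
    have h1 : P.map g.op (fst.app _ y.sec) = fst.app _ x.sec := ψ.hom.fst.map_sec
    have h2 : Q.map ψ.hom.snd.hom.op (snd.app _ y.sec) = snd.app _ x.sec := ψ.hom.snd.map_sec
    have hg : ψ.hom.snd.hom = g := by
      have h3 := @IsHomLift.fac' _ _ _ _ (Stk.EltObj.forget Q) _ _ _ _ _ ψ.hom.snd (_root_.FibCat.fp_isHomLift_snd _ _ ψ)
      exact h3.trans (by erw [eqToHom_refl, eqToHom_refl, Category.id_comp, Category.comp_id]; rfl)
    rw [hg] at h2
    refine ⟨⟨g, Types.ext_of_isPullback (hT _) ?_ ?_⟩, Fp.hom_ext (ofPsh_hom_ext rfl) (ofPsh_hom_ext hg.symm)⟩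
    · rw [NatTrans.naturality_apply]; exact h1
    · rw [NatTrans.naturality_apply]; exact h2
  · exact ofPsh_hom_ext (congrArg (fun t => t.hom.fst.hom) e)
  · let T : C := η.obj.fst.base
    have hη := Fp.iso_lift η
    have e : η.obj.snd.base = T := Fp.snd_proj η
    have hs := sec_eq_of_isHomLift (T := T) η.obj.iso.hom (hφ := hη)
    let u : P.obj (op T) := η.obj.fst.sec
    let v : Q.obj (op T) := Q.map (eqToHom e.symm).op η.obj.snd.sec
    have huv : a.app _ u = b.app _ v := by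
      change a.app _ u = b.app _ (Q.map _ η.obj.snd.sec)
      rw [NatTrans.naturality_apply]
      exact hs.symm
    obtain ⟨l, hl1, hl2⟩ := Types.exists_of_isPullback (hT (op T)) u v huv
    let l' : Stk.EltObj L := ⟨T, l⟩
    let i₁ : (Stk.ofPshMap fst).obj l' ≅ η.obj.fst :=
      eqToIso (eltObj_eq (b := η.obj.fst) rfl (by
        change P.map (𝟙 (op T)) η.obj.fst.sec = fst.app _ l
        simpa [u] using hl1.symm))
    let i₂ : (Stk.ofPshMap snd).obj l' ≅ η.obj.snd :=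
      eqToIso (eltObj_eq (b := η.obj.snd) e.symm (by exact hl2.symm))
    refine ⟨l', Fp.isoMk i₁ i₂ (ofPsh_hom_ext ?_), (Fp.isHomLift_iff _ _).2 ?_⟩
    · have k1 : η.obj.iso.hom.hom = eqToHom e.symm :=
        @map_eq_eqToHom _ _ _ _ (Stk.EltObj.forget R) T _ _ η.obj.iso.hom hη
      have k2 := @map_eq_eqToHom _ _ _ _ (Stk.EltObj.forget R) T _ _ ((pshToFp h.w).obj l').obj.iso.hom
        (Fp.iso_lift ((pshToFp h.w).obj l'))
      change i₁.hom.hom ≫ η.obj.iso.hom.hom = ((pshToFp h.w).obj l').obj.iso.hom.hom ≫ i₂.hom.hom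
      rw [k1, show ((pshToFp h.w).obj l').obj.iso.hom.hom = _ from k2]
      simp [i₁, i₂, eltObj_eqToHom_hom]
    · exact IsHomLift.of_fac' _ _ _ rfl rfl (by simp [i₁, eltObj_eqToHom_hom])

end Pullback

section Image

variable {L K : Cᵒᵖ ⥤ Type w} {𝒜 : BasedCategory.{v₂, u₂} C}

/-- A fully faithful functor to the category of a presheaf with image a subpresheaf. -/
theorem exists_equiv_of_image (m : L ⟶ K) (hm : ∀ T, Function.Injective (m.app T))
    (H : 𝒜 ⥤ᵇ Stk.ofPsh K) [H.toFunctor.Full] [H.toFunctor.Faithful]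
    (h1 : ∀ x, ∃ l, m.app (op (H.obj x).base) l = (H.obj x).sec)
    (h2 : ∀ (T : C) (l : L.obj (op T)), ∃ (x : 𝒜.obj) (i : H.obj x ≅ ⟨T, m.app (op T) l⟩),
      (Stk.ofPsh K).p.IsHomLift (𝟙 T) i.hom) :
    ∃ Φ : 𝒜 ⥤ᵇ Stk.ofPsh L, _root_.FibCat.IsEquivOver Φ := by
  choose l hl using h1
  let Φ : 𝒜 ⥤ᵇ Stk.ofPsh L :=
    { toFunctor :=
        { obj := fun x => ⟨(H.obj x).base, l x⟩
          map := fun {x y} φ => ⟨(H.map φ).hom, hm _ (by
            rw [NatTrans.naturality_apply, hl, hl]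
            exact (H.map φ).map_sec)⟩
          map_id := fun x => ofPsh_hom_ext (congrArg (fun t => t.hom) (H.map_id x))
          map_comp := fun φ ψ => ofPsh_hom_ext (congrArg (fun t => t.hom) (H.map_comp φ ψ)) }
      w := (show (H.toFunctor ⋙ (Stk.ofPsh K).p) = 𝒜.p from H.w) }
  refine ⟨Φ, FFEssSurjOver.isEquivOver ⟨⟨fun {x y} ψ => ?_⟩, ⟨fun {x y φ φ'} e => ?_⟩, fun η => ?_⟩⟩
  · have hsec : K.map ψ.hom.op (H.obj y).sec = (H.obj x).sec := by
      rw [← hl, ← hl]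
      exact (NatTrans.naturality_apply m ψ.hom.op (l y)).symm.trans (congrArg _ ψ.map_sec)
    let χ : H.obj x ⟶ H.obj y := ⟨ψ.hom, hsec⟩
    exact ⟨H.toFunctor.preimage χ, ofPsh_hom_ext (congrArg (fun t => t.hom) (H.toFunctor.map_preimage χ))⟩
  · exact H.toFunctor.map_injective (ofPsh_hom_ext (congrArg (fun t => t.hom) e))
  · obtain ⟨T, l'⟩ := η
    obtain ⟨x, i, hi⟩ := h2 T l'
    have hb : (H.obj x).base = T := IsHomLift.domain_eq (Stk.EltObj.forget K) (𝟙 T) i.hom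
    have hs := sec_eq_of_isHomLift (T := T) i.hom (hφ := hi)
    refine ⟨x, eqToIso (eltObj_eq hb (hm _ ?_)),
      IsHomLift.of_fac' _ _ _ hb rfl (by simp [eltObj_eqToHom_hom])⟩
    rw [NatTrans.naturality_apply, hl]
    exact hs

end Image

end GrothLib.FibCat
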