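import Groth.Agent.Lib.FibCat.FiberFunctor

/-!
# Categories fibred in sets / setoids
-/

set_option backward.isDefEq.respectTransparency false
set_option backward.isDefEq.respectTransparency.types false

universe v₄ u₄ v₃ u₃ v₂ u₂ v u

open CategoryTheory CategoryTheory.Functor

namespace GrothLib.FibCat

variable {C : Type u} [Category.{v} C]

section

variable {𝒳 : Type u₂} [Category.{v₂} 𝒳] {p : 𝒳 ⥤ C}

/-- Parallel morphisms with the same image coincide in a category fibred in setoids. -/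
theorem IsFibSetoid.hom_ext (h : _root_.FibCat.IsFibSetoid p) {a b : 𝒳} {φ ψ : a ⟶ b}
    (e : p.map φ = p.map ψ) : φ = ψ := by
  have := IsFibGrpd.isStronglyCartesian' h.1 (p.map φ) φ
  have hψ : p.IsHomLift (p.map φ) ψ := e ▸ IsHomLift.map p ψ
  let α := IsCartesian.map p (p.map φ) φ ψ
  have hα : p.IsHomLift (𝟙 (p.obj a)) α := inferInstance
  have hid : p.IsHomLift (𝟙 (p.obj a)) (𝟙 a) := IsHomLift.id rfl
  have := h.2 (p.obj a)
  let A : p.Fiber (p.obj a) := ⟨a, rfl⟩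
  have : (⟨α, hα⟩ : A ⟶ A) = ⟨𝟙 a, hid⟩ := (this A A).allEq _ _
  have h1 : α = 𝟙 a := congrArg Subtype.val this
  rw [← IsCartesian.fac p (p.map φ) φ ψ]
  change φ = α ≫ φ
  rw [h1, Category.id_comp]

/-- Two morphisms over the same base morphism coincide in a category fibred in setoids. -/
theorem IsFibSetoid.hom_ext' (h : _root_.FibCat.IsFibSetoid p) {R S : C} (f : R ⟶ S) {a b : 𝒳} {φ ψ : a ⟶ b}
    [p.IsHomLift f φ] [p.IsHomLift f ψ] : φ = ψ :=
  IsFibSetoid.hom_ext h ((IsHomLift.fac' p f φ).trans (IsHomLift.fac' p f ψ).symm)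

theorem IsFibSet.isFibSetoid (h : _root_.FibCat.IsFibSet p) : _root_.FibCat.IsFibSetoid p :=
  ⟨h.1, fun U => have := h.2 U; fun a b => inferInstance⟩

theorem IsFibSet.eq_of_iso (h : _root_.FibCat.IsFibSet p) {R : C} {a b : 𝒳} (φ : a ⟶ b)
    [p.IsHomLift (𝟙 R) φ] : a = b := by
  have := h.2 R
  let A : p.Fiber R := ⟨a, IsHomLift.domain_eq p (𝟙 R) φ⟩
  let B : p.Fiber R := ⟨b, IsHomLift.codomain_eq p (𝟙 R) φ⟩
  let ψ : A ⟶ B := ⟨φ, inferInstance⟩
  exact congrArg Subtype.val (@IsDiscrete.eq_of_hom (p.Fiber R) _ this A B ψ)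

theorem IsFibSet.map_eq_eqToHom (h : _root_.FibCat.IsFibSet p) {R : C} {a b : 𝒳} (φ : a ⟶ b)
    [p.IsHomLift (𝟙 R) φ] : φ = eqToHom (IsFibSet.eq_of_iso h (R := R) φ) := by
  obtain rfl := IsFibSet.eq_of_iso h (R := R) φ
  have : p.IsHomLift (𝟙 R) (𝟙 a) := IsHomLift.id (IsHomLift.domain_eq p (𝟙 R) φ)
  rw [eqToHom_refl]
  exact IsFibSetoid.hom_ext' (IsFibSet.isFibSetoid h) (𝟙 R)

end

section

variable {𝒳 : BasedCategory.{v₂, u₂} C} {𝒴 : BasedCategory.{v₃, u₃} C}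

theorem isFibSetoid_of_faithful (F : 𝒳 ⥤ᵇ 𝒴) [F.toFunctor.Faithful] (hX : _root_.FibCat.IsFibGrpd 𝒳.p)
    (hY : _root_.FibCat.IsFibSetoid 𝒴.p) : _root_.FibCat.IsFibSetoid 𝒳.p :=
  ⟨hX, fun U a b => ⟨fun φ ψ =>
    have := hY.2 U
    (faithful_fiberFunctor F U).map_injective ((this _ _).allEq _ _)⟩⟩

theorem isFibSetoid_iff_of_isEquivOver (F : 𝒳 ⥤ᵇ 𝒴) (h : _root_.FibCat.IsEquivOver F) :
    _root_.FibCat.IsFibSetoid 𝒳.p ↔ _root_.FibCat.IsFibSetoid 𝒴.p := by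
  obtain ⟨G, hG, -, -⟩ := IsEquivOver.symm h
  have := IsEquivOver.faithful h
  have := IsEquivOver.faithful hG
  exact ⟨fun hX => isFibSetoid_of_faithful G ((isFibGrpd_iff_of_isEquivOver F h).1 hX.1) hX,
    fun hY => isFibSetoid_of_faithful F ((isFibGrpd_iff_of_isEquivOver F h).2 hY.1) hY⟩

end

end GrothLib.FibCat
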