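import Groth.Prelude.Def_FibCat2

/-!
# Equivalences over a base: criteria, composition, inverses

Everything is stated for based categories in arbitrary universes.
-/

set_option backward.isDefEq.respectTransparency false
set_option backward.isDefEq.respectTransparency.types false

universe v₅ u₅ v₄ u₄ v₃ u₃ v₂ u₂ v u

open CategoryTheory CategoryTheory.Functor

namespace GrothLib.FibCat

variable {C : Type u} [Category.{v} C]

section IsHomLift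

variable {𝒳 : Type u₂} [Category.{v₂} 𝒳] (p : 𝒳 ⥤ C)

/-- A morphism lying over an identity lies over the identity of the image of its source. -/
theorem isHomLift_id_domain {R : C} {a b : 𝒳} (φ : a ⟶ b) [h : p.IsHomLift (𝟙 R) φ] :
    p.IsHomLift (𝟙 (p.obj a)) φ := by
  have e := IsHomLift.domain_eq p (𝟙 R) φ
  subst e; exact h

/-- A morphism lying over an identity lies over the identity of the image of its target. -/
theorem isHomLift_id_codomain {R : C} {a b : 𝒳} (φ : a ⟶ b) [h : p.IsHomLift (𝟙 R) φ] :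
    p.IsHomLift (𝟙 (p.obj b)) φ := by
  have e := IsHomLift.codomain_eq p (𝟙 R) φ
  subst e; exact h

/-- Change the base object of a vertical morphism. -/
theorem isHomLift_id_of_eq {R R' : C} {a b : 𝒳} (φ : a ⟶ b) [h : p.IsHomLift (𝟙 R) φ]
    (e : p.obj a = R' ∨ p.obj b = R') : p.IsHomLift (𝟙 R') φ := by
  rcases e with e | e <;> subst e
  · exact isHomLift_id_domain p (R := R) φ
  · exact isHomLift_id_codomain p (R := R) φ

/-- Inverse of a vertical isomorphism. -/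
theorem isHomLift_id_inv {R : C} {a b : 𝒳} (e : a ≅ b) [p.IsHomLift (𝟙 R) e.hom] :
    p.IsHomLift (𝟙 R) e.inv := IsHomLift.lift_id_inv p R e

/-- Vertical morphisms have identity-like images. -/
theorem map_eq_eqToHom {R : C} {a b : 𝒳} (φ : a ⟶ b) [p.IsHomLift (𝟙 R) φ] :
    p.map φ = eqToHom ((IsHomLift.domain_eq p (𝟙 R) φ).trans (IsHomLift.codomain_eq p (𝟙 R) φ).symm) := by
  simp [IsHomLift.fac' p (𝟙 R) φ]

theorem isHomLift_id_of_map_eq {a b : 𝒳} (φ : a ⟶ b) (h : p.obj a = p.obj b)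
    (hφ : p.map φ = eqToHom h) : p.IsHomLift (𝟙 (p.obj a)) φ :=
  IsHomLift.of_fac' p _ φ rfl h.symm (by simp [hφ])

end IsHomLift

section OverC

variable {𝒳 : BasedCategory.{v₂, u₂} C} {𝒴 : BasedCategory.{v₃, u₃} C} {𝒵 : BasedCategory.{v₄, u₄} C}

/-- The image of a morphism under a based functor, in terms of the image of the morphism. -/
theorem p_map_map (F : 𝒳 ⥤ᵇ 𝒴) {a b : 𝒳.obj} (φ : a ⟶ b) :
    𝒴.p.map (F.map φ) = eqToHom (F.w_obj a) ≫ 𝒳.p.map φ ≫ eqToHom (F.w_obj b).symm :=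
  IsHomLift.fac' 𝒴.p (𝒳.p.map φ) (F.map φ)

/-- Component of a based natural isomorphism. -/
@[simps]
def isoApp {F G : 𝒳 ⥤ᵇ 𝒴} (α : F ≅ G) (x : 𝒳.obj) : F.obj x ≅ G.obj x where
  hom := α.hom.toNatTrans.app x
  inv := α.inv.toNatTrans.app x
  hom_inv_id := congrArg (fun β : F ⟶ F => β.toNatTrans.app x) α.hom_inv_id
  inv_hom_id := congrArg (fun β : G ⟶ G => β.toNatTrans.app x) α.inv_hom_id

theorem isHomLift_isoApp {F G : 𝒳 ⥤ᵇ 𝒴} (α : F ≅ G) {x : 𝒳.obj} {U : C} (hx : 𝒳.p.obj x = U) :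
    𝒴.p.IsHomLift (𝟙 U) (isoApp α x).hom := BasedNatTrans.isHomLift α.hom hx

theorem natTrans_ext {F G : 𝒳 ⥤ᵇ 𝒴} {α β : F ⟶ G} (h : ∀ x, α.toNatTrans.app x = β.toNatTrans.app x) :
    α = β := by
  apply BasedNatTrans.homCategory.ext
  exact CategoryTheory.NatTrans.ext (funext h)

theorem iso_ext {F G : 𝒳 ⥤ᵇ 𝒴} {α β : F ≅ G} (h : ∀ x, α.hom.toNatTrans.app x = β.hom.toNatTrans.app x) :
    α = β := Iso.ext (natTrans_ext h)

/-- A based natural isomorphism from vertical isomorphisms of components. -/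
def natIsoOfComponents {F G : 𝒳 ⥤ᵇ 𝒴} (e : ∀ x, F.obj x ≅ G.obj x)
    (he : ∀ x, 𝒴.p.IsHomLift (𝟙 (𝒳.p.obj x)) (e x).hom)
    (nat : ∀ {x y : 𝒳.obj} (f : x ⟶ y), F.map f ≫ (e y).hom = (e x).hom ≫ G.map f) : F ≅ G :=
  BasedNatIso.mkNatIso (NatIso.ofComponents e nat) he

@[simp]
theorem natIsoOfComponents_hom_app {F G : 𝒳 ⥤ᵇ 𝒴} (e : ∀ x, F.obj x ≅ G.obj x)
    (he : ∀ x, 𝒴.p.IsHomLift (𝟙 (𝒳.p.obj x)) (e x).hom)
    (nat : ∀ {x y : 𝒳.obj} (f : x ⟶ y), F.map f ≫ (e y).hom = (e x).hom ≫ G.map f) (x : 𝒳.obj) :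
    (natIsoOfComponents e he nat).hom.toNatTrans.app x = (e x).hom := rfl

/-- A functor over `C` is fully faithful and essentially surjective over identities of `C`. -/
structure FFEssSurjOver (F : 𝒳 ⥤ᵇ 𝒴) : Prop where
  full : F.toFunctor.Full
  faithful : F.toFunctor.Faithful
  essSurj : ∀ η : 𝒴.obj, ∃ (ξ : 𝒳.obj) (e : F.obj ξ ≅ η), 𝒴.p.IsHomLift (𝟙 (𝒴.p.obj η)) e.hom

/-- Whisker a based isomorphism on the left. -/
def whiskerLeftIso (F : 𝒳 ⥤ᵇ 𝒴) {G H : 𝒴 ⥤ᵇ 𝒵} (α : G ≅ H) : BasedFunctor.comp F G ≅ BasedFunctor.comp F H where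
  hom := BasedCategory.whiskerLeft F α.hom
  inv := BasedCategory.whiskerLeft F α.inv
  hom_inv_id := natTrans_ext fun x => (isoApp α (F.obj x)).hom_inv_id
  inv_hom_id := natTrans_ext fun x => (isoApp α (F.obj x)).inv_hom_id

/-- Whisker a based isomorphism on the right. -/
def whiskerRightIso {F G : 𝒳 ⥤ᵇ 𝒴} (α : F ≅ G) (H : 𝒴 ⥤ᵇ 𝒵) : BasedFunctor.comp F H ≅ BasedFunctor.comp G H where
  hom := BasedCategory.whiskerRight α.hom H
  inv := BasedCategory.whiskerRight α.inv H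
  hom_inv_id := natTrans_ext fun x => by
    change H.map (isoApp α x).hom ≫ H.map (isoApp α x).inv = 𝟙 _
    rw [← H.map_comp, Iso.hom_inv_id, H.map_id]
  inv_hom_id := natTrans_ext fun x => by
    change H.map (isoApp α x).inv ≫ H.map (isoApp α x).hom = 𝟙 _
    rw [← H.map_comp, Iso.inv_hom_id, H.map_id]

theorem IsEquivOver.isEquivalence {F : 𝒳 ⥤ᵇ 𝒴} (h : _root_.FibCat.IsEquivOver F) :
    F.toFunctor.IsEquivalence := by
  obtain ⟨G, ⟨η⟩, ⟨ε⟩⟩ := h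
  exact (CategoryTheory.Equivalence.mk F.toFunctor G.toFunctor
    ((BasedNatTrans.forgetful _ _).mapIso η).symm ((BasedNatTrans.forgetful _ _).mapIso ε)).isEquivalence_functor

theorem IsEquivOver.full {F : 𝒳 ⥤ᵇ 𝒴} (h : _root_.FibCat.IsEquivOver F) : F.toFunctor.Full :=
  have := IsEquivOver.isEquivalence h; inferInstance

theorem IsEquivOver.faithful {F : 𝒳 ⥤ᵇ 𝒴} (h : _root_.FibCat.IsEquivOver F) : F.toFunctor.Faithful :=
  have := IsEquivOver.isEquivalence h; inferInstance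

theorem IsEquivOver.essSurj {F : 𝒳 ⥤ᵇ 𝒴} (h : _root_.FibCat.IsEquivOver F) (η : 𝒴.obj) :
    ∃ (ξ : 𝒳.obj) (e : F.obj ξ ≅ η), 𝒴.p.IsHomLift (𝟙 (𝒴.p.obj η)) e.hom := by
  obtain ⟨G, -, ⟨ε⟩⟩ := h
  exact ⟨G.obj η, isoApp ε η, isHomLift_isoApp ε rfl⟩

theorem IsEquivOver.ffEssSurjOver {F : 𝒳 ⥤ᵇ 𝒴} (h : _root_.FibCat.IsEquivOver F) : FFEssSurjOver F :=
  ⟨IsEquivOver.full h, IsEquivOver.faithful h, IsEquivOver.essSurj h⟩

namespace FFEssSurjOver

variable {F : 𝒳 ⥤ᵇ 𝒴} (h : FFEssSurjOver F)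
include h

/-- Chosen preimage object. -/
noncomputable def obj (η : 𝒴.obj) : 𝒳.obj := (h.essSurj η).choose

/-- Chosen vertical isomorphism. -/
noncomputable def iso (η : 𝒴.obj) : F.obj (h.obj η) ≅ η := (h.essSurj η).choose_spec.choose

theorem iso_lift (η : 𝒴.obj) : 𝒴.p.IsHomLift (𝟙 (𝒴.p.obj η)) (h.iso η).hom :=
  (h.essSurj η).choose_spec.choose_spec

theorem obj_proj (η : 𝒴.obj) : 𝒳.p.obj (h.obj η) = 𝒴.p.obj η := by
  have := h.iso_lift η
  rw [← F.w_obj]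
  exact IsHomLift.domain_eq 𝒴.p (𝟙 (𝒴.p.obj η)) (h.iso η).hom

/-- The inverse functor. -/
noncomputable def inverseFunctor : 𝒴.obj ⥤ 𝒳.obj :=
  have := h.full
  have := h.faithful
  { obj := h.obj
    map := fun {η η'} f => F.toFunctor.preimage ((h.iso η).hom ≫ f ≫ (h.iso η').inv)
    map_id := fun η => F.toFunctor.map_injective (by simp)
    map_comp := fun f g => F.toFunctor.map_injective (by simp) }

theorem map_inverseFunctor {η η' : 𝒴.obj} (f : η ⟶ η') :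
    F.map (h.inverseFunctor.map f) = (h.iso η).hom ≫ f ≫ (h.iso η').inv :=
  have := h.full
  F.toFunctor.map_preimage _

theorem inverseFunctor_isHomLift {η η' : 𝒴.obj} (f : η ⟶ η') :
    𝒳.p.IsHomLift (𝒴.p.map f) (h.inverseFunctor.map f) := by
  refine (F.isHomLift_iff _ _).1 ?_
  rw [h.map_inverseFunctor f]
  have := h.iso_lift η
  have := h.iso_lift η'
  have := isHomLift_id_inv 𝒴.p (R := 𝒴.p.obj η') (h.iso η')
  infer_instance

/-- The inverse based functor. -/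
noncomputable def inverse : 𝒴 ⥤ᵇ 𝒳 where
  toFunctor := h.inverseFunctor
  w := CategoryTheory.Functor.ext (fun η => h.obj_proj η) fun η η' f => by
    have := h.inverseFunctor_isHomLift f
    exact IsHomLift.fac' 𝒳.p (𝒴.p.map f) (h.inverseFunctor.map f)

/-- The counit. -/
noncomputable def counitIso : BasedFunctor.comp h.inverse F ≅ BasedFunctor.id 𝒴 :=
  natIsoOfComponents (fun η => h.iso η) (fun η => h.iso_lift η) fun {η η'} f => by
    change F.map (h.inverseFunctor.map f) ≫ (h.iso η').hom = (h.iso η).hom ≫ f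
    simp [h.map_inverseFunctor f]

theorem isEquivOver : _root_.FibCat.IsEquivOver F := by
  have := h.full
  have := h.faithful
  refine ⟨h.inverse, ⟨natIsoOfComponents (fun ξ => F.toFunctor.preimageIso (h.iso (F.obj ξ))) ?_ ?_⟩,
    ⟨h.counitIso⟩⟩
  · intro ξ
    have := h.iso_lift (F.obj ξ)
    refine (F.isHomLift_iff _ _).1 ?_
    have e : F.map (F.toFunctor.preimageIso (h.iso (F.obj ξ))).hom = (h.iso (F.obj ξ)).hom :=
      F.toFunctor.map_preimage _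
    rw [e]
    exact isHomLift_id_of_eq 𝒴.p (R := 𝒴.p.obj (F.obj ξ)) _ (Or.inr (F.w_obj ξ))
  · intro x y f
    apply F.toFunctor.map_injective
    change F.map (h.inverseFunctor.map (F.map f) ≫ F.toFunctor.preimage (h.iso (F.obj y)).hom) =
      F.map (F.toFunctor.preimage (h.iso (F.obj x)).hom ≫ f)
    simp [h.map_inverseFunctor]

end FFEssSurjOver

theorem isEquivOver_iff (F : 𝒳 ⥤ᵇ 𝒴) : _root_.FibCat.IsEquivOver F ↔ FFEssSurjOver F :=
  ⟨IsEquivOver.ffEssSurjOver, FFEssSurjOver.isEquivOver⟩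

theorem IsEquivOver.refl (𝒳 : BasedCategory.{v₂, u₂} C) : _root_.FibCat.IsEquivOver (BasedFunctor.id 𝒳) :=
  ⟨BasedFunctor.id 𝒳, ⟨Iso.refl _⟩, ⟨Iso.refl _⟩⟩

/-- Every equivalence over `C` has an inverse that is an equivalence over `C`. -/
theorem IsEquivOver.symm {F : 𝒳 ⥤ᵇ 𝒴} (h : _root_.FibCat.IsEquivOver F) :
    ∃ G : 𝒴 ⥤ᵇ 𝒳, _root_.FibCat.IsEquivOver G ∧ Nonempty (BasedFunctor.comp F G ≅ BasedFunctor.id 𝒳) ∧
      Nonempty (BasedFunctor.comp G F ≅ BasedFunctor.id 𝒴) := by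
  obtain ⟨G, h1, h2⟩ := h
  exact ⟨G, ⟨F, h2, h1⟩, h1, h2⟩

theorem IsEquivOver.comp {F : 𝒳 ⥤ᵇ 𝒴} {G : 𝒴 ⥤ᵇ 𝒵} (hF : _root_.FibCat.IsEquivOver F)
    (hG : _root_.FibCat.IsEquivOver G) : _root_.FibCat.IsEquivOver (BasedFunctor.comp F G) := by
  obtain ⟨F', ⟨η⟩, ⟨ε⟩⟩ := hF
  obtain ⟨G', ⟨η'⟩, ⟨ε'⟩⟩ := hG
  exact ⟨BasedFunctor.comp G' F',
    ⟨whiskerLeftIso F (whiskerRightIso η' F') ≪≫ η⟩,
    ⟨whiskerLeftIso G' (whiskerRightIso ε G) ≪≫ ε'⟩⟩

theorem IsEquivOver.of_iso {F F' : 𝒳 ⥤ᵇ 𝒴} (α : F ≅ F') (h : _root_.FibCat.IsEquivOver F) :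
    _root_.FibCat.IsEquivOver F' := by
  obtain ⟨G, ⟨η⟩, ⟨ε⟩⟩ := h
  exact ⟨G, ⟨(whiskerRightIso α G).symm ≪≫ η⟩, ⟨(whiskerLeftIso G α).symm ≪≫ ε⟩⟩

theorem IsEquivOver.of_comp_right {F : 𝒳 ⥤ᵇ 𝒴} {G : 𝒴 ⥤ᵇ 𝒵}
    (h : _root_.FibCat.IsEquivOver (BasedFunctor.comp F G)) (hG : _root_.FibCat.IsEquivOver G) :
    _root_.FibCat.IsEquivOver F := by
  obtain ⟨G', hG', ⟨η⟩, -⟩ := IsEquivOver.symm hG
  exact IsEquivOver.of_iso (whiskerLeftIso F η) (IsEquivOver.comp (F := BasedFunctor.comp F G) h hG')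

theorem IsEquivOver.of_comp_left {F : 𝒳 ⥤ᵇ 𝒴} {G : 𝒴 ⥤ᵇ 𝒵}
    (h : _root_.FibCat.IsEquivOver (BasedFunctor.comp F G)) (hF : _root_.FibCat.IsEquivOver F) :
    _root_.FibCat.IsEquivOver G := by
  obtain ⟨F', hF', -, ⟨ε⟩⟩ := IsEquivOver.symm hF
  exact IsEquivOver.of_iso (whiskerRightIso ε G) (IsEquivOver.comp (G := BasedFunctor.comp F G) hF' h)

/-- Cancel an equivalence over `C` on the right in an isomorphism of functors. -/
theorem IsEquivOver.cancel_right {F F' : 𝒳 ⥤ᵇ 𝒴} {G : 𝒴 ⥤ᵇ 𝒵} (hG : _root_.FibCat.IsEquivOver G)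
    (α : BasedFunctor.comp F G ≅ BasedFunctor.comp F' G) : Nonempty (F ≅ F') := by
  obtain ⟨G', -, ⟨η⟩, -⟩ := IsEquivOver.symm hG
  exact ⟨(whiskerLeftIso F η).symm ≪≫ whiskerRightIso α G' ≪≫ whiskerLeftIso F' η⟩

/-- Cancel an equivalence over `C` on the left in an isomorphism of functors. -/
theorem IsEquivOver.cancel_left {F : 𝒳 ⥤ᵇ 𝒴} {G G' : 𝒴 ⥤ᵇ 𝒵} (hF : _root_.FibCat.IsEquivOver F)
    (α : BasedFunctor.comp F G ≅ BasedFunctor.comp F G') : Nonempty (G ≅ G') := by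
  obtain ⟨F', -, -, ⟨ε⟩⟩ := IsEquivOver.symm hF
  exact ⟨(whiskerRightIso ε G).symm ≪≫ whiskerLeftIso F' α ≪≫ whiskerRightIso ε G'⟩

end OverC

end GrothLib.FibCat
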