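import Groth.Agent.Lib.FibCat.Repr
import Groth.Agent.Lib.FibCat.Diag

/-!
# Graphs and products of 1-morphisms over an arbitrary base category
-/

set_option backward.isDefEq.respectTransparency false
set_option backward.isDefEq.respectTransparency.types false

universe v₅ u₅ v₄ u₄ v₃ u₃ v₂ u₂ v u

open CategoryTheory CategoryTheory.Functor

namespace GrothLib.FibCat.Cmp

variable {C : Type u} [Category.{v} C] {𝒳 : BasedCategory.{v₂, u₂} C} {𝒴 : BasedCategory.{v₃, u₃} C}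
  {𝒵 : BasedCategory.{v₄, u₄} C} {𝒳' : BasedCategory.{v₅, u₅} C}

/-- The comparison `𝒳 ×_𝒴 𝒳' ⟶ 𝒳 ×_𝒵 𝒳'`. -/
def fpToFp (f : 𝒳 ⥤ᵇ 𝒴) (f' : 𝒳' ⥤ᵇ 𝒴) (g : 𝒴 ⥤ᵇ 𝒵) :
    _root_.FibCat.fp f f' ⥤ᵇ _root_.FibCat.fp (BasedFunctor.comp f g) (BasedFunctor.comp f' g) :=
  _root_.FibCat.fpLift (_root_.FibCat.fpFst f f') (_root_.FibCat.fpSnd f f')
    (whiskerRightIso (_root_.FibCat.fpIso f f') g)

theorem fpToFp_iso (f : 𝒳 ⥤ᵇ 𝒴) (f' : 𝒳' ⥤ᵇ 𝒴) (g : 𝒴 ⥤ᵇ 𝒵) (a : (_root_.FibCat.fp f f').obj) :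
    ((fpToFp f f' g).obj a).obj.iso.hom = g.map a.obj.iso.hom := rfl

/-- `(f, f') : 𝒳 ×_𝒵 𝒳' ⟶ 𝒴 ×_𝒵 𝒴`. -/
def fpPair (f : 𝒳 ⥤ᵇ 𝒴) (f' : 𝒳' ⥤ᵇ 𝒴) (g : 𝒴 ⥤ᵇ 𝒵) :
    _root_.FibCat.fp (BasedFunctor.comp f g) (BasedFunctor.comp f' g) ⥤ᵇ _root_.FibCat.fp g g :=
  _root_.FibCat.fpLift (BasedFunctor.comp (_root_.FibCat.fpFst _ _) f) (BasedFunctor.comp (_root_.FibCat.fpSnd _ _) f')
    (_root_.FibCat.fpIso (BasedFunctor.comp f g) (BasedFunctor.comp f' g))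

theorem fpPair_iso (f : 𝒳 ⥤ᵇ 𝒴) (f' : 𝒳' ⥤ᵇ 𝒴) (g : 𝒴 ⥤ᵇ 𝒵)
    (a : (_root_.FibCat.fp (BasedFunctor.comp f g) (BasedFunctor.comp f' g)).obj) :
    ((fpPair f f' g).obj a).obj.iso.hom = a.obj.iso.hom := rfl

/-- The square of the comparison and the diagonal. -/
def fpToFpSquare (f : 𝒳 ⥤ᵇ 𝒴) (f' : 𝒳' ⥤ᵇ 𝒴) (g : 𝒴 ⥤ᵇ 𝒵) :
    BasedFunctor.comp (fpToFp f f' g) (fpPair f f' g) ≅
      BasedFunctor.comp (BasedFunctor.comp (_root_.FibCat.fpFst f f') f) (_root_.FibCat.diag g) :=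
  natIsoOfComponents
    (fun a => Fp.isoMk (a := (fpPair f f' g).obj ((fpToFp f f' g).obj a))
      (b := (_root_.FibCat.diag g).obj (f.obj a.obj.fst)) (Iso.refl _) a.obj.iso.symm (by
        rw [fpPair_iso, fpToFp_iso, diag_iso]
        change g.map (𝟙 (f.obj a.obj.fst)) ≫ 𝟙 _ = g.map a.obj.iso.hom ≫ g.map a.obj.iso.inv
        rw [← g.map_comp, a.obj.iso.hom_inv_id, g.map_id]
        exact Category.id_comp _))
    (fun a => (Fp.isHomLift_iff _ _).2 (IsHomLift.id (f.w_obj a.obj.fst)))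
    (fun {a b} φ => Fp.hom_ext ((Category.comp_id _).trans (Category.id_comp _).symm) (by
      change f'.map φ.hom.snd ≫ b.obj.iso.inv = a.obj.iso.inv ≫ f.map φ.hom.fst
      let ia : f.obj a.obj.fst ≅ f'.obj a.obj.snd := a.obj.iso
      let ib : f.obj b.obj.fst ≅ f'.obj b.obj.snd := b.obj.iso
      have hw : f.map φ.hom.fst ≫ ib.hom = ia.hom ≫ f'.map φ.hom.snd := Fp.w φ
      exact (Iso.comp_inv_eq ib).2 ((((Iso.eq_inv_comp ia).2 hw.symm)).trans (Category.assoc _ _ _).symm)))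

/-- The comparison is a base change of the diagonal. -/
def fpToFpLift (f : 𝒳 ⥤ᵇ 𝒴) (f' : 𝒳' ⥤ᵇ 𝒴) (g : 𝒴 ⥤ᵇ 𝒵) :
    _root_.FibCat.fp f f' ⥤ᵇ _root_.FibCat.fp (fpPair f f' g) (_root_.FibCat.diag g) :=
  _root_.FibCat.fpLift (fpToFp f f' g) (BasedFunctor.comp (_root_.FibCat.fpFst f f') f) (fpToFpSquare f f' g)

theorem isEquivOver_fpToFpLift (h𝒳' : _root_.FibCat.IsFibGrpd 𝒳'.p) (f : 𝒳 ⥤ᵇ 𝒴) (f' : 𝒳' ⥤ᵇ 𝒴) (g : 𝒴 ⥤ᵇ 𝒵) :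
    _root_.FibCat.IsEquivOver (fpToFpLift f f' g) := by
  have hfa : (fpToFpLift f f' g).toFunctor.Faithful := ⟨fun {a b φ ψ} h =>
    Fp.hom_ext (congrArg (fun t => t.hom.fst.hom.fst) h) (congrArg (fun t => t.hom.fst.hom.snd) h)⟩
  have hfu : (fpToFpLift f f' g).toFunctor.Full := by
    refine ⟨fun {a b} ψ => ?_⟩
    have h1 : f.map ψ.hom.fst.hom.fst ≫ 𝟙 (f.obj b.obj.fst) = 𝟙 (f.obj a.obj.fst) ≫ ψ.hom.snd :=
      congrArg (fun t => t.hom.fst) (Fp.w ψ)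
    let ia : f.obj a.obj.fst ≅ f'.obj a.obj.snd := a.obj.iso
    let ib : f.obj b.obj.fst ≅ f'.obj b.obj.snd := b.obj.iso
    have h2 : f'.map ψ.hom.fst.hom.snd ≫ ib.inv = ia.inv ≫ ψ.hom.snd := congrArg (fun t => t.hom.snd) (Fp.w ψ)
    have h1 : f.map ψ.hom.fst.hom.fst = ψ.hom.snd :=
      (Category.comp_id _).symm.trans (h1.trans (Category.id_comp _))
    have hw : f.map ψ.hom.fst.hom.fst ≫ ib.hom = ia.hom ≫ f'.map ψ.hom.fst.hom.snd := by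
      rw [Iso.comp_inv_eq] at h2
      rw [h1, h2]
      exact ((congrArg (ia.hom ≫ ·) (Category.assoc _ _ _)).trans (ia.hom_inv_id_assoc _)).symm
    exact ⟨Fp.homMk ψ.hom.fst.hom.fst ψ.hom.fst.hom.snd hw, Fp.hom_ext (Fp.hom_ext rfl rfl) h1⟩
  refine FFEssSurjOver.isEquivOver ⟨hfu, hfa, fun η => ?_⟩
  let P := η.obj.fst
  let y := η.obj.snd
  let γ₁ : f.obj P.obj.fst ≅ y := Fp.isoFst η.obj.iso
  let γ₂ : f'.obj P.obj.snd ≅ y := Fp.isoSnd η.obj.iso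
  have hc : g.map γ₁.hom ≫ 𝟙 (g.obj y) = P.obj.iso.hom ≫ g.map γ₂.hom := Fp.w η.obj.iso.hom
  let U := 𝒳.p.obj P.obj.fst
  have hγ₁ : 𝒴.p.IsHomLift (𝟙 U) γ₁.hom := (Fp.isHomLift_iff _ _).1 (Fp.iso_lift η)
  have hγ₂ : 𝒴.p.IsHomLift (𝟙 U) γ₂.hom := Fp.isHomLift_snd _ _ (Fp.iso_lift η)
  let β : f.obj P.obj.fst ≅ f'.obj P.obj.snd := γ₁ ≪≫ γ₂.symm
  have hβ : 𝒴.p.IsHomLift (𝟙 U) β.hom := by
    have := isHomLift_id_inv 𝒴.p (R := U) γ₂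
    exact inferInstanceAs (𝒴.p.IsHomLift (𝟙 U) (γ₁.hom ≫ γ₂.inv))
  let ξ : (_root_.FibCat.fp f f').obj := Fp.mk P.obj.fst P.obj.snd β hβ
  have hgβ : g.map β.hom = P.obj.iso.hom := by
    change g.map (γ₁.hom ≫ γ₂.inv) = _
    rw [g.map_comp, ← Category.comp_id (g.map γ₁.hom), hc, Category.assoc, ← g.map_comp, γ₂.hom_inv_id, g.map_id]
    exact Category.comp_id _
  let i₁ : (fpToFp f f' g).obj ξ ≅ P := Fp.isoMk (Iso.refl P.obj.fst) (Iso.refl P.obj.snd) (by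
    rw [fpToFp_iso]
    change g.map (f.map (𝟙 _)) ≫ P.obj.iso.hom = g.map β.hom ≫ g.map (f'.map (𝟙 _))
    rw [hgβ, f.map_id, f'.map_id, g.map_id, g.map_id]
    exact (Category.id_comp _).trans (Category.comp_id _).symm)
  refine ⟨ξ, Fp.isoMk i₁ γ₁ ?_, (Fp.isHomLift_iff _ _).2 ((Fp.isHomLift_iff _ _).2 (IsHomLift.id rfl))⟩
  refine Fp.hom_ext ?_ ?_
  · change f.map (𝟙 _) ≫ γ₁.hom = 𝟙 _ ≫ γ₁.hom
    rw [f.map_id]
  · change f'.map (𝟙 _) ≫ γ₂.hom = β.inv ≫ γ₁.hom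
    rw [f'.map_id, Category.id_comp]
    change γ₂.hom = (γ₂.hom ≫ γ₁.inv) ≫ γ₁.hom
    simp

/-- The graph. -/
def graph (f : 𝒳 ⥤ᵇ 𝒴) (g : 𝒴 ⥤ᵇ 𝒵) : 𝒳 ⥤ᵇ _root_.FibCat.fp (BasedFunctor.comp f g) g :=
  _root_.FibCat.fpLift (BasedFunctor.id 𝒳) f (Iso.refl _)

theorem graph_fpSnd (f : 𝒳 ⥤ᵇ 𝒴) (g : 𝒴 ⥤ᵇ 𝒵) : BasedFunctor.comp (graph f g) (_root_.FibCat.fpSnd _ _) = f := rfl

theorem isRepresentable1_graph (h𝒴 : _root_.FibCat.IsFibGrpd 𝒴.p) (f : 𝒳 ⥤ᵇ 𝒴) (g : 𝒴 ⥤ᵇ 𝒵)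
    (h : _root_.FibCat.IsRepresentable1 (_root_.FibCat.diag g)) : _root_.FibCat.IsRepresentable1 (graph f g) := by
  let G : 𝒳 ⥤ᵇ _root_.FibCat.fp f (BasedFunctor.id 𝒴) := _root_.FibCat.fpLift (BasedFunctor.id 𝒳) f (Iso.refl _)
  have hG : _root_.FibCat.IsEquivOver G := by
    have h1 : _root_.FibCat.IsEquivOver (BasedFunctor.comp G (_root_.FibCat.fpFst f (BasedFunctor.id 𝒴))) :=
      IsEquivOver.refl 𝒳
    exact IsEquivOver.of_comp_right h1 (Fp.isEquivOver_fpFst_of_isEquivOver f (IsEquivOver.refl 𝒴))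
  have hc : _root_.FibCat.IsRepresentable1 (fpToFp f (BasedFunctor.id 𝒴) g) :=
    (isRepresentable1_of_square (f := _root_.FibCat.fpFst (fpPair f (BasedFunctor.id 𝒴) g) (_root_.FibCat.diag g)) (f' := fpToFp f (BasedFunctor.id 𝒴) g) (fpToFpLift f (BasedFunctor.id 𝒴) g)
      (BasedFunctor.id _) (isEquivOver_fpToFpLift h𝒴 f (BasedFunctor.id 𝒴) g) (IsEquivOver.refl _)
      (Iso.refl _)).1 (isRepresentable1_fpFst (fpPair f (BasedFunctor.id 𝒴) g) h)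
  exact (isRepresentable1_of_square (f := fpToFp f (BasedFunctor.id 𝒴) g) (f' := graph f g) G (BasedFunctor.id _) hG (IsEquivOver.refl _)
    (natIsoOfComponents (fun a => Fp.isoMk (a := (graph f g).obj a)
      (b := (fpToFp f (BasedFunctor.id 𝒴) g).obj (G.obj a)) (Iso.refl _) (Iso.refl _) (by
        change g.map (f.map (𝟙 a)) ≫ g.map (𝟙 (f.obj a)) = 𝟙 _ ≫ g.map (𝟙 (f.obj a))
        rw [f.map_id, g.map_id])) (fun a => (Fp.isHomLift_iff _ _).2 (IsHomLift.id rfl))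
      (fun {a b} φ => Fp.hom_ext ((Category.comp_id _).trans (Category.id_comp _).symm)
        ((Category.comp_id _).trans (Category.id_comp _).symm)))).1 hc

/-- Cancellation. -/
theorem isRepresentable1_of_comp (h𝒴 : _root_.FibCat.IsFibGrpd 𝒴.p) (f : 𝒳 ⥤ᵇ 𝒴) (g : 𝒴 ⥤ᵇ 𝒵)
    (hfg : _root_.FibCat.IsRepresentable1 (BasedFunctor.comp f g))
    (h : _root_.FibCat.IsRepresentable1 (_root_.FibCat.diag g)) : _root_.FibCat.IsRepresentable1 f :=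
  graph_fpSnd f g ▸ isRepresentable1_comp (isRepresentable1_graph h𝒴 f g h) (isRepresentable1_fpSnd g hfg)

variable {𝒮 : BasedCategory.{v₅, u₅} C}

/-- `f ×_𝒮 id`. -/
def mapLeft (f : 𝒳 ⥤ᵇ 𝒴) (F : 𝒴 ⥤ᵇ 𝒮) (G : 𝒵 ⥤ᵇ 𝒮) :
    _root_.FibCat.fp (BasedFunctor.comp f F) G ⥤ᵇ _root_.FibCat.fp F G :=
  Fp.map f (BasedFunctor.id 𝒵) (BasedFunctor.id 𝒮) (Iso.refl _) (Iso.refl _)

theorem isRepresentable1_mapLeft (f : 𝒳 ⥤ᵇ 𝒴) (F : 𝒴 ⥤ᵇ 𝒮) (G : 𝒵 ⥤ᵇ 𝒮)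
    (hf : _root_.FibCat.IsRepresentable1 f) : _root_.FibCat.IsRepresentable1 (mapLeft f F G) := by
  refine (isRepresentable1_of_square (f := mapLeft f F G) (f' := _root_.FibCat.fpSnd f (_root_.FibCat.fpFst F G))
    (Fp.paste G F f) (BasedFunctor.id _) (Fp.isEquivOver_paste G F f) (IsEquivOver.refl _) ?_).2
    (isRepresentable1_fpSnd _ hf)
  let i : BasedFunctor.comp (Fp.paste G F f) (mapLeft f F G) ≅
      BasedFunctor.comp (_root_.FibCat.fpSnd f (_root_.FibCat.fpFst F G)) (BasedFunctor.id _) := natIsoOfComponents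
    (fun x => Fp.isoMk (a := (mapLeft f F G).obj ((Fp.paste G F f).obj x)) (b := x.obj.snd)
      x.obj.iso (Iso.refl _) (by
        have e : ((mapLeft f F G).obj ((Fp.paste G F f).obj x)).obj.iso.hom =
            F.map x.obj.iso.hom ≫ x.obj.snd.obj.iso.hom := (Category.id_comp _).trans (Category.comp_id _)
        rw [e]
        change _ = _ ≫ G.map (𝟙 x.obj.snd.obj.snd)
        rw [G.map_id]
        exact (Category.comp_id _).symm))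
    (fun x => (Fp.isHomLift_iff _ _).2 (Fp.iso_lift x))
    (fun {a b} φ => Fp.hom_ext φ.hom.w ((Category.comp_id _).trans (Category.id_comp _).symm))
  exact i.symm

end GrothLib.FibCat.Cmp
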