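import Groth.Prelude.Def_AlgSt
import Groth.Prelude.Def_FibCat2
import Groth.Prelude.Def_W4c2modmodulilectNerve
import Groth.Agent.Lib.FibCat.Basic
import Mathlib.CategoryTheory.Comma.StructuredArrow.Basic
import Mathlib.CategoryTheory.Category.ULift
import Mathlib.CategoryTheory.IsConnected

/-!
# Restriction of sections along a functor with simply connected comma categories
-/

set_option backward.isDefEq.respectTransparency false
set_option backward.isDefEq.respectTransparency.types false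
set_option autoImplicit false

universe w u v u₁ v₁ u₂ v₂ u₃ v₃

open CategoryTheory CategoryTheory.Functor

namespace GrothLib.FibCat.Contractible

attribute [local instance] CategoryTheory.uliftCategory

/-- Every functor to a big groupoid is isomorphic to a constant one. -/
def Triv (J : Type u) [Category.{v} J] : Prop :=
  Nonempty J ∧ ∀ (G : Type w) [Groupoid.{w} G] (T : J ⥤ G), ∃ s : G, Nonempty (T ≅ (Functor.const J).obj s)

theorem triv_of_contractible {J : Type u} [Category.{v} J]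
    (h : W4c2modmodulilect.HasContractibleNerve.{w, w} J) : Triv.{w} J :=
  ⟨h.1, fun G _ T => by
    have := h.2 G
    exact ⟨_, ⟨((Functor.const J).objObjPreimageIso T).symm⟩⟩⟩

/-- A category with objects and morphisms lifted to a bigger universe. -/
abbrev Up (G : Type u) := ULiftHom.{w} (ULift.{w} G)

/-- A lifted groupoid. -/
@[reducible] noncomputable def upGroupoid (G : Type u) [Category.{v} G] [IsGroupoid G] : Groupoid.{max v w} (Up.{w} G) :=
  have : IsGroupoid (Up.{w} G) := ⟨fun {a b} f => by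
    obtain ⟨⟨g, h₁, h₂⟩⟩ :=
      (IsGroupoid.all_isIso (C := G) (X := (ULiftHom.objDown a).down) (Y := (ULiftHom.objDown b).down) f.down)
    exact ⟨⟨⟨g⟩, ULift.ext _ _ h₁, ULift.ext _ _ h₂⟩⟩⟩
  Groupoid.ofIsGroupoid

theorem Triv.isConnected {J : Type u} [Category.{v} J] (h : Triv.{max w u} J) : IsConnected J := by
  have := h.1
  refine IsConnected.of_constant_of_preserves_morphisms fun {α} F hF j₁ j₂ => ?_
  let T : J ⥤ Discrete α := { obj := fun j => ⟨F j⟩, map := fun f => eqToHom (Discrete.ext (hF f)) }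
  let := upGroupoid.{max w u} (Discrete α)
  obtain ⟨s, ⟨e⟩⟩ := h.2 (Up.{max w u} (Discrete α)) (T ⋙ ULift.upFunctor ⋙ ULiftHom.up)
  have key : ∀ j, F j = (ULift.down (ULiftHom.objDown s)).as := fun j => Discrete.eq_of_hom (e.hom.app j).down
  rw [key j₁, key j₂]

section

variable {C : Type u₁} [Category.{v₁} C] {D : Type u₂} [Category.{v₂} D]

/-- The embedding of a fibre in the comma category. -/
def fiberToArrow (φ : C ⥤ D) (Y : D) : φ.Fiber Y ⥤ StructuredArrow Y φ where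
  obj z := StructuredArrow.mk (Y := z.1) (eqToHom z.2.symm)
  map {z z'} w := StructuredArrow.homMk w.1 (by
    have := w.2
    change eqToHom z.2.symm ≫ φ.map w.1 = eqToHom z'.2.symm
    rw [IsHomLift.fac' φ (𝟙 Y) w.1]
    simp)

theorem triv_structuredArrow_of_isFibered (φ : C ⥤ D) [φ.IsFibered] (Y : D) (h : Triv.{w} (φ.Fiber Y)) :
    Triv.{w} (StructuredArrow Y φ) := by
  refine ⟨h.1.map (fiberToArrow φ Y).obj, fun G _ T => ?_⟩
  obtain ⟨s, ⟨e⟩⟩ := h.2 G (fiberToArrow φ Y ⋙ T)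
  have lift : ∀ j : StructuredArrow Y φ, ∃ (z : C) (a : z ⟶ j.right), φ.IsStronglyCartesian j.hom a := fun j =>
    ⟨_, IsPreFibered.pullbackMap (p := φ) rfl j.hom, inferInstance⟩
  choose z a ha using lift
  let Z : ∀ j, φ.Fiber Y := fun j => ⟨z j, have := ha j; IsHomLift.domain_eq φ j.hom (a j)⟩
  let ε : ∀ j, (fiberToArrow φ Y).obj (Z j) ⟶ j := fun j => StructuredArrow.homMk (a j) (by
    have := ha j
    change eqToHom (Z j).2.symm ≫ φ.map (a j) = j.hom
    rw [IsHomLift.fac' φ j.hom (a j)]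
    simp)
  refine ⟨s, ⟨NatIso.ofComponents (fun j => (Groupoid.isoEquivHom _ _).symm (Groupoid.inv (T.map (ε j)) ≫ e.hom.app (Z j))) ?_⟩⟩
  intro j j' u
  have := ha j'
  have hu : φ.IsHomLift (𝟙 Y ≫ j'.hom) (a j ≫ u.right) := by
    have := ha j
    refine IsHomLift.of_fac' φ _ _ (IsHomLift.domain_eq φ j.hom (a j)) rfl ?_
    rw [φ.map_comp, IsHomLift.fac' φ j.hom (a j)]
    simp [StructuredArrow.w u]
  obtain ⟨b, ⟨hb, eb⟩, -⟩ := IsStronglyCartesian.universal_property φ j'.hom (a j') (𝟙 Y) _ rfl (a j ≫ u.right)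
  let B : Z j ⟶ Z j' := ⟨b, hb⟩
  have hB : (fiberToArrow φ Y).map B ≫ ε j' = ε j ≫ u := StructuredArrow.ext _ _ eb
  have hT : T.map ((fiberToArrow φ Y).map B) ≫ T.map (ε j') = T.map (ε j) ≫ T.map u := by
    rw [← T.map_comp, ← T.map_comp, hB]
  have he : T.map ((fiberToArrow φ Y).map B) ≫ e.hom.app (Z j') = e.hom.app (Z j) := by
    have := e.hom.naturality B; simpa using this
  change T.map u ≫ Groupoid.inv (T.map (ε j')) ≫ e.hom.app (Z j') = (Groupoid.inv (T.map (ε j)) ≫ e.hom.app (Z j)) ≫ 𝟙 _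
  rw [Category.comp_id, ← he, Groupoid.inv_eq_inv, Groupoid.inv_eq_inv, ← Category.assoc, ← Category.assoc]
  congr 1
  rw [IsIso.comp_inv_eq, Category.assoc, hT, IsIso.inv_hom_id_assoc]

variable {F : Type u₃} [Category.{v₃} F] (φ : C ⥤ D) (p : F ⥤ D) [_root_.FibCat.IsFibGrpd p]

omit [FibCat.IsFibGrpd p] in
theorem homLift_unique [_root_.FibCat.IsFibGrpd p] {a b c : F} (ψ : b ⟶ c) {g g' : a ⟶ b}
    (h : p.map g = p.map g') (e : g ≫ ψ = g' ≫ ψ) : g = g' := by
  have := _root_.FibCat.IsFibGrpd.isStronglyCartesian (p := p) ψ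
  have : p.IsHomLift (p.map g) g := IsHomLift.map p g
  have : p.IsHomLift (p.map g) g' := h ▸ IsHomLift.map p g'
  exact IsStronglyCartesian.ext p (p.map ψ) ψ (p.map g) e

theorem exists_factor {a b c : F} (θ : a ⟶ c) (ψ : b ⟶ c) (g : p.obj a ⟶ p.obj b) (h : g ≫ p.map ψ = p.map θ) :
    ∃ m : a ⟶ b, p.map m = g ∧ m ≫ ψ = θ := by
  have := _root_.FibCat.IsFibGrpd.isStronglyCartesian (p := p) ψ
  have : p.IsHomLift (p.map θ) θ := IsHomLift.map p θ
  obtain ⟨m, ⟨hm, em⟩, -⟩ := IsStronglyCartesian.universal_property p (p.map ψ) ψ g (p.map θ) h.symm θ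
  exact ⟨m, (IsHomLift.eq_of_isHomLift p g m).symm, em⟩

theorem exists_cone (G : C ⥤ F) (hG : G ⋙ p = φ) (Y : D)
    (h : Triv.{max u₁ u₂ u₃ v₁ v₂ v₃} (StructuredArrow Y φ)) :
    ∃ (s : p.Fiber Y) (c : ∀ j : StructuredArrow Y φ, s.1 ⟶ G.obj j.right),
      (∀ j, p.IsHomLift j.hom (c j)) ∧ ∀ {j j' : StructuredArrow Y φ} (u : j ⟶ j'), c j ≫ G.map u.right = c j' := by
  have hobj : ∀ X, p.obj (G.obj X) = φ.obj X := fun X => Functor.congr_obj hG X
  have lift : ∀ j : StructuredArrow Y φ, ∃ (y : F) (ψ : y ⟶ G.obj j.right), p.IsHomLift j.hom ψ := by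
    intro j
    obtain ⟨y, ψ, hψ⟩ := _root_.FibCat.IsFibGrpd.exists_lift (p := p) (x := G.obj j.right) (j.hom ≫ eqToHom (hobj _).symm)
    exact ⟨y, ψ, IsHomLift.of_fac p _ _ (IsHomLift.domain_eq p (j.hom ≫ eqToHom (hobj _).symm) ψ) (hobj _)
      (by rw [IsHomLift.fac' p (j.hom ≫ eqToHom (hobj _).symm) ψ]; simp)⟩
  choose y ψ hψ using lift
  let T₀ : StructuredArrow Y φ → p.Fiber Y := fun j => ⟨y j, have := hψ j; IsHomLift.domain_eq p j.hom (ψ j)⟩
  have fac : ∀ {j j' : StructuredArrow Y φ} (u : j ⟶ j'), ∃ m : T₀ j ⟶ T₀ j', m.1 ≫ ψ j' = ψ j ≫ G.map u.right := by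
    intro j j' u
    have := hψ j
    have := hψ j'
    have e : p.map (G.map u.right) = _ := Functor.congr_hom hG u.right
    obtain ⟨m, hm, em⟩ := exists_factor p (ψ j ≫ G.map u.right) (ψ j')
      (eqToHom ((T₀ j).2.trans (T₀ j').2.symm)) (by
        rw [p.map_comp, e, IsHomLift.fac' p j.hom (ψ j), IsHomLift.fac' p j'.hom (ψ j')]
        simp)
    exact ⟨⟨m, IsHomLift.of_fac' p _ _ (T₀ j).2 (T₀ j').2 (by rw [hm]; simp)⟩, em⟩
  choose m hm using @fac
  have uniq : ∀ {j j' : StructuredArrow Y φ} (g g' : T₀ j ⟶ T₀ j'), g.1 ≫ ψ j' = g'.1 ≫ ψ j' → g = g' := by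
    intro j j' g g' e
    have := g.2; have := g'.2
    exact Subtype.ext (homLift_unique p (ψ j') (by rw [IsHomLift.fac' p (𝟙 Y) g.1, IsHomLift.fac' p (𝟙 Y) g'.1]) e)
  let T : StructuredArrow Y φ ⥤ p.Fiber Y :=
    { obj := T₀
      map := fun u => m u
      map_id := fun j => uniq _ _ (by
        rw [hm]; change ψ j ≫ G.map (𝟙 _) = 𝟙 _ ≫ ψ j
        rw [G.map_id, Category.id_comp, Category.comp_id])
      map_comp := fun {i j k} u u' => uniq _ _ (by
        rw [hm]; change ψ i ≫ G.map (u.right ≫ u'.right) = ((m u).1 ≫ (m u').1) ≫ ψ k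
        rw [Category.assoc, hm, ← Category.assoc, hm, Category.assoc, G.map_comp]) }
  have : IsGroupoid (p.Fiber Y) := ⟨fun {a b} f => by
    have : p.IsHomLift (𝟙 Y) f.1 := f.2
    obtain ⟨g, hg⟩ : ∃ g : _ ⟶ _, g ≫ f = 𝟙 _ := by
      have hf := IsHomLift.fac' p (𝟙 Y) f.1
      obtain ⟨g, hg₁, hg₂⟩ := exists_factor p (𝟙 _) f.1 (eqToHom (b.2.trans a.2.symm))
        (by rw [hf]; simp)
      exact ⟨⟨g, IsHomLift.of_fac' p _ _ b.2 a.2 (by rw [hg₁]; simp)⟩, Subtype.ext hg₂⟩
    refine ⟨g, Subtype.ext (homLift_unique p f.1 ?_ ?_), hg⟩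
    · have := (f ≫ g).2
      change p.map (f ≫ g).1 = p.map (𝟙 _)
      rw [IsHomLift.fac' p (𝟙 Y) (f ≫ g).1, p.map_id]
      simp
    · change (f.1 ≫ g.1) ≫ f.1 = 𝟙 _ ≫ f.1
      have h' : g.1 ≫ f.1 = 𝟙 _ := congrArg Subtype.val hg
      rw [Category.assoc, h', Category.comp_id, Category.id_comp]⟩
  let := upGroupoid.{max u₁ u₂ u₃ v₁ v₂ v₃} (p.Fiber Y)
  obtain ⟨s, ⟨e⟩⟩ := h.2 (Up.{max u₁ u₂ u₃ v₁ v₂ v₃} (p.Fiber Y)) (T ⋙ ULift.upFunctor ⋙ ULiftHom.up)
  let s₀ : p.Fiber Y := (ULiftHom.objDown s).down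
  let ej : ∀ j, s₀ ⟶ T₀ j := fun j => (e.inv.app j).down
  refine ⟨s₀, fun j => (ej j).1 ≫ ψ j, fun j => ?_, fun {j j'} u => ?_⟩
  · have := (ej j).2
    have := hψ j
    simpa using (inferInstance : p.IsHomLift (𝟙 Y ≫ j.hom) ((ej j).1 ≫ ψ j))
  · have := congrArg (fun t => (ULift.down t)) (e.inv.naturality u)
    have h2 : ej j' = ej j ≫ m u := by
      change 𝟙 _ ≫ ej j' = ej j ≫ m u at this
      rwa [Category.id_comp] at this
    change _ = (ej j').1 ≫ ψ j'
    rw [h2]
    change _ = ((ej j).1 ≫ (m u).1) ≫ ψ j'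
    rw [Category.assoc, Category.assoc, hm]

/-- Restriction of sections to a functor with simply connected comma categories is an equivalence. -/
theorem isEquivalence_restr (h : ∀ Y, Triv.{max u₁ u₂ u₃ v₁ v₂ v₃} (StructuredArrow Y φ)) :
    (Stk.restr (_root_.FibCat.toSelf (BasedCategory.ofFunctor φ)) (BasedCategory.ofFunctor p)).IsEquivalence := by
  have conn : ∀ Y, IsConnected (StructuredArrow Y φ) := fun Y => Triv.isConnected.{max u₁ u₂ u₃ v₁ v₂ v₃} (h Y)
  have faithful : (Stk.restr (_root_.FibCat.toSelf (BasedCategory.ofFunctor φ)) (BasedCategory.ofFunctor p)).Faithful := by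
    refine ⟨fun {H H'} {α β} e => ?_⟩
    apply BasedNatTrans.homCategory.ext
    apply NatTrans.ext
    funext (Y : D)
    obtain ⟨j⟩ := (h Y).1
    have e' : α.toNatTrans.app (φ.obj j.right) = β.toNatTrans.app (φ.obj j.right) :=
      congrArg (fun t => (BasedNatTrans.toNatTrans t).app j.right) e
    have : p.IsHomLift (𝟙 Y) (α.toNatTrans.app Y) := α.isHomLift (rfl : (_root_.FibCat.selfOver D).p.obj Y = Y)
    have : p.IsHomLift (𝟙 Y) (β.toNatTrans.app Y) := β.isHomLift (rfl : (_root_.FibCat.selfOver D).p.obj Y = Y)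
    refine homLift_unique p (H'.map j.hom) ?_ ?_
    · rw [IsHomLift.fac' p (𝟙 Y) (α.toNatTrans.app Y), IsHomLift.fac' p (𝟙 Y) (β.toNatTrans.app Y)]
    · rw [← α.toNatTrans.naturality, ← β.toNatTrans.naturality, e']
  have full : (Stk.restr (_root_.FibCat.toSelf (BasedCategory.ofFunctor φ)) (BasedCategory.ofFunctor p)).Full := by
    refine ⟨fun {H H'} (a : BasedFunctor.comp _ H ⟶ BasedFunctor.comp _ H') => ?_⟩
    have hH : ∀ {Y Z : D} (g : Y ⟶ Z), p.map (H.map g) = eqToHom (H.w_obj Y) ≫ g ≫ eqToHom (H.w_obj Z).symm :=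
      fun g => Functor.congr_hom H.w g
    have hH' : ∀ {Y Z : D} (g : Y ⟶ Z), p.map (H'.map g) = eqToHom (H'.w_obj Y) ≫ g ≫ eqToHom (H'.w_obj Z).symm :=
      fun g => Functor.congr_hom H'.w g
    have hw : ∀ Y : D, p.obj (H.obj Y) = p.obj (H'.obj Y) := fun Y => (H.w_obj Y).trans (H'.w_obj Y).symm
    have ex : ∀ (Y : D) (j : StructuredArrow Y φ), ∃ m : H.obj Y ⟶ H'.obj Y,
        p.map m = eqToHom (hw Y) ∧ m ≫ H'.map j.hom = H.map j.hom ≫ a.toNatTrans.app j.right := by
      intro Y j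
      have : p.IsHomLift (𝟙 (φ.obj j.right)) (a.toNatTrans.app j.right) := a.isHomLift (rfl : φ.obj j.right = φ.obj j.right)
      refine exists_factor p _ _ _ ?_
      rw [p.map_comp, IsHomLift.fac' p (𝟙 (φ.obj j.right)) (a.toNatTrans.app j.right), hH, hH']
      simp
    choose M hM₁ hM₂ using ex
    have nat : ∀ {Y : D} {j j' : StructuredArrow Y φ} (u : j ⟶ j'), M Y j = M Y j' := by
      intro Y j j' u
      refine homLift_unique p (H'.map j'.hom) (by rw [hM₁, hM₁]) ?_
      rw [hM₂, ← StructuredArrow.w u, H'.map_comp, H.map_comp, reassoc_of% (hM₂ Y j), Category.assoc]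
      congr 1
      exact (a.toNatTrans.naturality u.right).symm
    have const : ∀ (Y : D) (j j' : StructuredArrow Y φ), M Y j = M Y j' := fun Y =>
      have := conn Y; constant_of_preserves_morphisms (M Y) fun j j' u => nat u
    let j₀ : ∀ Y, StructuredArrow Y φ := fun Y => (h Y).1.some
    let t : H.toFunctor ⟶ H'.toFunctor :=
      { app := fun Y => M Y (j₀ Y)
        naturality := fun Y Y' g => by
          refine homLift_unique p (H'.map (j₀ Y').hom) ?_ ?_
          · rw [p.map_comp, p.map_comp, hH, hH', hM₁, hM₁]; simp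
          · rw [Category.assoc, Category.assoc, hM₂, ← H'.map_comp, ← Category.assoc, ← H.map_comp,
              const Y (j₀ Y) (StructuredArrow.mk (g ≫ (j₀ Y').hom))]
            exact (hM₂ Y (StructuredArrow.mk (g ≫ (j₀ Y').hom))).symm }
    refine ⟨⟨t, fun Y => IsHomLift.of_fac' p _ _ (H.w_obj Y) (H'.w_obj Y) ((hM₁ _ _).trans (by simp))⟩, ?_⟩
    apply BasedNatTrans.homCategory.ext
    apply NatTrans.ext
    funext (X : C)
    change M (φ.obj X) (j₀ _) = a.toNatTrans.app X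
    have e := hM₂ (φ.obj X) (StructuredArrow.mk (𝟙 (φ.obj X)))
    rw [const _ _ (StructuredArrow.mk (𝟙 (φ.obj X)))]
    change _ ≫ H'.map (𝟙 _) = H.map (𝟙 _) ≫ _ at e
    rw [H'.map_id, H.map_id, Category.comp_id, Category.id_comp] at e
    exact e
  have essSurj : (Stk.restr (_root_.FibCat.toSelf (BasedCategory.ofFunctor φ)) (BasedCategory.ofFunctor p)).EssSurj := by
    refine ⟨fun G => ?_⟩
    have hG : G.toFunctor ⋙ p = φ := G.w
    choose s c hc₁ hc₂ using fun Y => exists_cone φ p G.toFunctor hG Y (h Y)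
    have hc : ∀ Y (j : StructuredArrow Y φ),
        p.map (c Y j) = eqToHom (s Y).2 ≫ j.hom ≫ eqToHom (G.w_obj j.right).symm := fun Y j =>
      have := hc₁ Y j; IsHomLift.fac' p j.hom (c Y j)
    have ex : ∀ {Y Y' : D} (g : Y ⟶ Y') (j : StructuredArrow Y' φ), ∃ m : (s Y).1 ⟶ (s Y').1,
        p.map m = eqToHom (s Y).2 ≫ g ≫ eqToHom (s Y').2.symm ∧ m ≫ c Y' j = c Y (StructuredArrow.mk (g ≫ j.hom)) := by
      intro Y Y' g j
      refine exists_factor p _ _ _ ?_
      rw [hc, hc]; simp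
    choose M hM₁ hM₂ using @ex
    have const : ∀ {Y Y' : D} (g : Y ⟶ Y') (j j' : StructuredArrow Y' φ), M g j = M g j' := fun {Y Y'} g =>
      have := conn Y'
      constant_of_preserves_morphisms (M g) fun j j' u => by
        refine homLift_unique p (c Y' j') (by rw [hM₁, hM₁]) ?_
        rw [hM₂ g j', ← hc₂ Y' u, reassoc_of% (hM₂ g j)]
        exact hc₂ Y (StructuredArrow.homMk (f := StructuredArrow.mk (g ≫ j.hom)) (f' := StructuredArrow.mk (g ≫ j'.hom))
          u.right (by simp [StructuredArrow.w u]))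
    let j₀ : ∀ Y, StructuredArrow Y φ := fun Y => (h Y).1.some
    have key : ∀ {Y Y' : D} (g : Y ⟶ Y') (j : StructuredArrow Y' φ),
        M g (j₀ Y') ≫ c Y' j = c Y (StructuredArrow.mk (g ≫ j.hom)) := fun g j => by
      rw [const g (j₀ _) j, hM₂]
    let H : D ⥤ F :=
      { obj := fun Y => (s Y).1
        map := fun g => M g (j₀ _)
        map_id := fun Y => by
          refine homLift_unique p (c Y (j₀ Y)) ?_ ?_
          · rw [hM₁, p.map_id]; simp
          · rw [key, Category.id_comp]; congr 1; simp [StructuredArrow.mk]; rfl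
        map_comp := fun {Y Y' Y''} g g' => by
          refine homLift_unique p (c Y'' (j₀ Y'')) ?_ ?_
          · rw [p.map_comp, hM₁, hM₁, hM₁]; simp
          · rw [key, Category.assoc (M g _), key, key]; congr 1; simp [StructuredArrow.mk] }
    let Hb : _root_.FibCat.selfOver D ⥤ᵇ BasedCategory.ofFunctor p :=
      { toFunctor := H
        w := CategoryTheory.Functor.ext (fun Y => (s Y).2) fun Y Y' g => hM₁ g _ }
    let x : BasedFunctor.comp (_root_.FibCat.toSelf (BasedCategory.ofFunctor φ)) Hb ⟶ G :=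
      { app := fun X => c (φ.obj X) (StructuredArrow.mk (𝟙 _))
        naturality := fun X X' u => by
          change M (φ.map u) (j₀ (φ.obj X')) ≫ c (φ.obj X') (StructuredArrow.mk (𝟙 (φ.obj X'))) =
            c (φ.obj X) (StructuredArrow.mk (𝟙 (φ.obj X))) ≫ G.map u
          rw [key]
          exact (hc₂ (φ.obj X) (StructuredArrow.homMk (f := StructuredArrow.mk (𝟙 (φ.obj X)))
            (f' := StructuredArrow.mk (φ.map u ≫ 𝟙 _)) u (by simp))).symm
        isHomLift' := fun X => hc₁ (φ.obj X) (StructuredArrow.mk (𝟙 _)) }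
    have hiso : ∀ X : C, IsIso (x.toNatTrans.app X) := fun X => by
      have hl : p.IsHomLift (𝟙 (φ.obj X)) (x.toNatTrans.app X) := hc₁ (φ.obj X) (StructuredArrow.mk (𝟙 _))
      have hx := IsHomLift.fac' p (𝟙 (φ.obj X)) (x.toNatTrans.app X)
      have hd := IsHomLift.domain_eq p (𝟙 (φ.obj X)) (x.toNatTrans.app X)
      have hcod := IsHomLift.codomain_eq p (𝟙 (φ.obj X)) (x.toNatTrans.app X)
      obtain ⟨r, hr₁, hr₂⟩ := exists_factor p (𝟙 _) (x.toNatTrans.app X) (eqToHom (hcod.trans hd.symm))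
        (by rw [hx]; simp)
      refine ⟨r, homLift_unique p (x.toNatTrans.app X) ?_ ?_, hr₂⟩
      · rw [p.map_comp, hr₁, hx, p.map_id]; simp
      · rw [Category.assoc, hr₂, Category.comp_id, Category.id_comp]
    have : IsIso x.toNatTrans := NatIso.isIso_of_isIso_app _
    exact ⟨Hb, ⟨BasedNatIso.mkNatIso (asIso x.toNatTrans) fun X => hc₁ (φ.obj X) (StructuredArrow.mk (𝟙 _))⟩⟩
  exact { faithful := faithful, full := full, essSurj := essSurj }

end

end GrothLib.FibCat.Contractible
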