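import Groth.Agent.Lib.FibCat.Fp
import Groth.Agent.Lib.FibCat.Basic

/-!
# The diagonal square of a fully faithful functor
-/

set_option backward.isDefEq.respectTransparency false
set_option backward.isDefEq.respectTransparency.types false
set_option autoImplicit false

universe v₄ u₄ v₃ u₃ v₂ u₂ v u

open CategoryTheory CategoryTheory.Functor

namespace GrothLib.FibCat

variable {C : Type u} [Category.{v} C]
variable {𝒳 : BasedCategory.{v₂, u₂} C} {𝒳' : BasedCategory.{v₃, u₃} C} {𝒴 : BasedCategory.{v₄, u₄} C}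
variable (i : 𝒳 ⥤ᵇ 𝒳') (g : 𝒳' ⥤ᵇ 𝒴)

/-- The map induced on both factors. -/
abbrev sqMap : _root_.FibCat.fp (BasedFunctor.comp i g) (BasedFunctor.comp i g) ⥤ᵇ _root_.FibCat.fp g g :=
  _root_.FibCat.fpLift (BasedFunctor.comp (_root_.FibCat.fpFst (BasedFunctor.comp i g) (BasedFunctor.comp i g)) i)
    (BasedFunctor.comp (_root_.FibCat.fpSnd (BasedFunctor.comp i g) (BasedFunctor.comp i g)) i)
    (_root_.FibCat.fpIso (BasedFunctor.comp i g) (BasedFunctor.comp i g))

theorem isTwoCartOver_diag_sq [i.toFunctor.Full] [i.toFunctor.Faithful] :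
    _root_.FibCat.IsTwoCartOver (F := sqMap i g) (G := _root_.FibCat.diag g)
      (_root_.FibCat.diag (BasedFunctor.comp i g)) i (Iso.refl _) := by
  refine FFEssSurjOver.isEquivOver ⟨⟨fun {a b} ψ => ?_⟩, ⟨fun {a b} {φ φ'} h => ?_⟩, fun o => ?_⟩
  · obtain ⟨c, hc⟩ := i.toFunctor.map_surjective ψ.hom.snd
    have hw : (sqMap i g).map ψ.hom.fst ≫ 𝟙 _ = 𝟙 _ ≫ (_root_.FibCat.diag g).map ψ.hom.snd := ψ.hom.w
    rw [Category.comp_id, Category.id_comp] at hw
    have h1 : i.map ψ.hom.fst.hom.fst = ψ.hom.snd := congrArg (fun t => t.hom.fst) hw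
    have h2 : i.map ψ.hom.fst.hom.snd = ψ.hom.snd := congrArg (fun t => t.hom.snd) hw
    refine ⟨c, Fp.hom_ext (Fp.hom_ext ?_ ?_) hc⟩
    · exact i.toFunctor.map_injective (hc.trans h1.symm)
    · exact i.toFunctor.map_injective (hc.trans h2.symm)
  · exact congrArg (fun t => t.hom.fst.hom.fst) h
  · obtain ⟨⟨q, z, e⟩, he⟩ := o
    let e₁ : i.obj q.obj.fst ≅ z := Fp.isoFst e
    let e₂ : i.obj q.obj.snd ≅ z := Fp.isoSnd e
    let β : q.obj.fst ≅ q.obj.snd := i.toFunctor.preimageIso (e₁ ≪≫ e₂.symm)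
    have hβ : i.map β.hom = e₁.hom ≫ e₂.inv := i.toFunctor.map_preimage _
    have hφ : g.map e₁.hom ≫ 𝟙 (g.obj z) = q.obj.iso.hom ≫ g.map e₂.hom := Fp.w e.hom
    have hq : (BasedFunctor.comp i g).map (𝟙 q.obj.fst) ≫ q.obj.iso.hom =
        𝟙 _ ≫ (BasedFunctor.comp i g).map β.hom := by
      rw [CategoryTheory.Functor.map_id, Category.id_comp, Category.id_comp]
      change q.obj.iso.hom = g.map (i.map β.hom)
      rw [hβ, g.map_comp, ← Category.comp_id (g.map e₁.hom), hφ, Category.assoc, ← g.map_comp, Iso.hom_inv_id,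
        g.map_id]
      exact (Category.comp_id _).symm
    let d : (_root_.FibCat.diag (BasedFunctor.comp i g)).obj q.obj.fst ≅ q := Fp.isoMk (Iso.refl _) β hq
    refine ⟨q.obj.fst, Fp.isoMk d e₁ ?_, (Fp.isHomLift_iff _ _).mpr ((Fp.isHomLift_iff _ _).mpr ?_)⟩
    · change (sqMap i g).map d.hom ≫ e.hom = 𝟙 _ ≫ (_root_.FibCat.diag g).map e₁.hom
      rw [Category.id_comp]
      refine Fp.hom_ext ?_ ?_
      · change i.map (𝟙 q.obj.fst) ≫ e₁.hom = e₁.hom
        rw [i.map_id, Category.id_comp]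
      · change i.map β.hom ≫ e₂.hom = e₁.hom
        rw [hβ, Category.assoc, Iso.inv_hom_id, Category.comp_id]
    · exact IsHomLift.id rfl

end GrothLib.FibCat
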