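import Groth.Prelude.Def_W4stkcategoriessitesFib
import Groth.Agent.Lib.FibCat.Basic
import Groth.Agent.Lib.FibCat.Tower
import Mathlib.CategoryTheory.Adjunction.Basic

/-!
# Factorisation of a morphism of fibred categories through a fibration
-/

set_option backward.isDefEq.respectTransparency false
set_option backward.isDefEq.respectTransparency.types false
set_option autoImplicit false

universe v₃ u₃ v₂ u₂ v u

open CategoryTheory CategoryTheory.Functor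

namespace GrothLib.FibCat.Factorization

variable {C : Type u} [Category.{v} C] {𝒳 : BasedCategory.{v₂, u₂} C} {𝒴 : BasedCategory.{v₃, u₃} C}
variable (F : 𝒳 ⥤ᵇ 𝒴)

/-- Triples `(x, y, y ⟶ F x)` with vertical arrow. -/
structure Tot where
  /-- upper object -/
  x : 𝒳.obj
  /-- lower object -/
  y : 𝒴.obj
  /-- the vertical arrow -/
  b : y ⟶ F.obj x
  hb : 𝒴.p.IsHomLift (𝟙 (𝒳.p.obj x)) b

variable {F}

/-- Morphisms of triples. -/
@[ext]
structure Hom (A B : Tot F) where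
  /-- upper component -/
  a : A.x ⟶ B.x
  /-- lower component -/
  c : A.y ⟶ B.y
  w : c ≫ B.b = A.b ≫ F.map a

instance : Category (Tot F) where
  Hom := Hom
  id A := ⟨𝟙 _, 𝟙 _, by rw [F.map_id, Category.id_comp, Category.comp_id]⟩
  comp f g := ⟨f.a ≫ g.a, f.c ≫ g.c, by
    rw [Category.assoc, g.w, ← Category.assoc, f.w, Category.assoc, F.map_comp]⟩
  id_comp f := Hom.ext (Category.id_comp _) (Category.id_comp _)
  comp_id f := Hom.ext (Category.comp_id _) (Category.comp_id _)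
  assoc f g h := Hom.ext (Category.assoc _ _ _) (Category.assoc _ _ _)

@[ext]
theorem hom_ext {A B : Tot F} {f g : A ⟶ B} (h₁ : f.a = g.a) (h₂ : f.c = g.c) : f = g := Hom.ext h₁ h₂

theorem base_y (A : Tot F) : 𝒴.p.obj A.y = 𝒳.p.obj A.x :=
  have := A.hb; IsHomLift.domain_eq 𝒴.p (𝟙 (𝒳.p.obj A.x)) A.b

theorem lift_c {A B : Tot F} (φ : A ⟶ B) : 𝒴.p.IsHomLift (𝒳.p.map φ.a) φ.c := by
  have := A.hb
  have := B.hb
  refine IsHomLift.of_fac' 𝒴.p _ _ (base_y A) (base_y B) ?_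
  have e := congrArg 𝒴.p.map φ.w
  rw [𝒴.p.map_comp, 𝒴.p.map_comp, IsHomLift.fac' 𝒴.p (𝟙 (𝒳.p.obj A.x)) A.b,
    IsHomLift.fac' 𝒴.p (𝟙 (𝒳.p.obj B.x)) B.b, IsHomLift.fac' 𝒴.p (𝒳.p.map φ.a) (F.map φ.a)] at e
  simp only [Category.assoc, eqToHom_trans_assoc, eqToHom_refl, Category.id_comp] at e
  rw [← cancel_mono (eqToHom (base_y B) ≫ eqToHom (IsHomLift.codomain_eq 𝒴.p (𝟙 (𝒳.p.obj B.x)) B.b).symm)]
  simpa using e

variable (F)

/-- The total category over the base. -/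
def tot : BasedCategory C :=
  BasedCategory.ofFunctor ({ obj := fun A => A.x |> 𝒳.p.obj, map := fun f => 𝒳.p.map f.a,
                             map_id := fun A => 𝒳.p.map_id _, map_comp := fun f g => 𝒳.p.map_comp _ _ } : Tot F ⥤ C)

/-- The embedding. -/
def inc : 𝒳 ⥤ᵇ tot F where
  toFunctor :=
    { obj := fun x => ⟨x, F.obj x, 𝟙 _, IsHomLift.id (F.w_obj x)⟩
      map := fun {x x'} a => (⟨a, F.map a, by rw [Category.comp_id, Category.id_comp]⟩ : Hom _ _)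
      map_id := fun x => hom_ext rfl (F.map_id x)
      map_comp := fun a a' => hom_ext rfl (F.map_comp a a') }
  w := rfl

/-- The projection to the target. -/
def proj : tot F ⥤ᵇ 𝒴 where
  toFunctor :=
    { obj := fun A => A.y
      map := fun φ => φ.c
      map_id := fun A => rfl
      map_comp := fun φ ψ => rfl }
  w := CategoryTheory.Functor.ext (fun A => base_y A) fun A B φ =>
    have := lift_c φ; IsHomLift.fac' 𝒴.p (𝒳.p.map φ.a) φ.c

/-- The projection to the source. -/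
def ret : tot F ⥤ᵇ 𝒳 where
  toFunctor :=
    { obj := fun A => A.x
      map := fun φ => φ.a
      map_id := fun A => rfl
      map_comp := fun φ ψ => rfl }
  w := rfl

/-- The projection is left adjoint to the embedding. -/
def adj : (ret F).toFunctor ⊣ (inc F).toFunctor :=
  Adjunction.mkOfHomEquiv
    { homEquiv := fun A x =>
        { toFun := fun a => (⟨a, A.b ≫ F.map a, Category.comp_id _⟩ : Hom A ((inc F).obj x))
          invFun := fun φ => φ.a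
          left_inv := fun a => rfl
          right_inv := fun φ => hom_ext rfl (φ.w.symm.trans (Category.comp_id _)) }
      homEquiv_naturality_left_symm := fun f g => rfl
      homEquiv_naturality_right := fun {A x x'} a a' => hom_ext rfl (by
        change A.b ≫ F.map (a ≫ a') = (A.b ≫ F.map a) ≫ F.map a'
        rw [F.map_comp, Category.assoc]) }

variable {F}

theorem lift_of_components {A B : Tot F} {R S : C} (f : R ⟶ S) (φ : A ⟶ B) (h : 𝒳.p.IsHomLift f φ.a) :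
    (tot F).p.IsHomLift f φ :=
  IsHomLift.of_fac' (tot F).p f φ (IsHomLift.domain_eq 𝒳.p f φ.a) (IsHomLift.codomain_eq 𝒳.p f φ.a)
    (IsHomLift.fac' 𝒳.p f φ.a)

theorem lift_a {A B : Tot F} {R S : C} (f : R ⟶ S) (φ : A ⟶ B) [(tot F).p.IsHomLift f φ] : 𝒳.p.IsHomLift f φ.a :=
  inferInstanceAs (𝒳.p.IsHomLift f ((ret F).map φ))

theorem lift_c' {A B : Tot F} {R S : C} (f : R ⟶ S) (φ : A ⟶ B) [(tot F).p.IsHomLift f φ] : 𝒴.p.IsHomLift f φ.c :=
  inferInstanceAs (𝒴.p.IsHomLift f ((proj F).map φ))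

variable (hF : _root_.FibCat.PreservesStronglyCartesian F)
include hF

theorem isStronglyCartesian_of_components {A B : Tot F} {R S : C} (f : R ⟶ S) (φ : A ⟶ B)
    (ha : 𝒳.p.IsStronglyCartesian f φ.a) (hc : 𝒴.p.IsStronglyCartesian f φ.c) :
    (tot F).p.IsStronglyCartesian f φ := by
  have := lift_of_components f φ ha.toIsHomLift
  have hFa := hF f φ.a ha
  refine { universal_property' := fun {Z} g ψ hψ => ?_ }
  have : (tot F).p.IsHomLift (g ≫ f) ψ := hψ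
  have := lift_a (g ≫ f) ψ
  have := lift_c' (g ≫ f) ψ
  obtain ⟨a, ⟨ha₁, ha₂⟩, hau⟩ := IsStronglyCartesian.universal_property 𝒳.p f φ.a g (g ≫ f) rfl ψ.a
  obtain ⟨c, ⟨hc₁, hc₂⟩, hcu⟩ := IsStronglyCartesian.universal_property 𝒴.p f φ.c g (g ≫ f) rfl ψ.c
  have := Z.hb
  have := A.hb
  have hR : 𝒳.p.obj A.x = R := IsHomLift.domain_eq 𝒳.p f φ.a
  have : 𝒴.p.IsHomLift (𝟙 R) A.b := hR ▸ A.hb
  have : 𝒴.p.IsHomLift g (c ≫ A.b) := IsHomLift.comp_lift_id_right' 𝒴.p g c R A.b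
  have hZ : 𝒳.p.obj Z.x = 𝒴.p.obj Z.y := (base_y Z).symm
  have hgd : 𝒳.p.obj Z.x = (tot F).p.obj Z := rfl
  have : 𝒴.p.IsHomLift g (Z.b ≫ F.map a) :=
    IsHomLift.comp_lift_id_left' 𝒴.p (𝒳.p.obj Z.x) Z.b g (F.map a)
  have hw : c ≫ A.b = Z.b ≫ F.map a := by
    apply IsStronglyCartesian.ext 𝒴.p f (F.map φ.a) g
    rw [Category.assoc, ← φ.w, reassoc_of% hc₂, ψ.w, Category.assoc, ← F.map_comp, ha₂]
  refine ⟨⟨a, c, hw⟩, ⟨lift_of_components g (⟨a, c, hw⟩ : Z ⟶ A) ha₁, hom_ext ha₂ hc₂⟩, fun χ ⟨k1, k2⟩ => ?_⟩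
  exact hom_ext (hau _ ⟨lift_a g χ, congrArg Hom.a k2⟩) (hcu _ ⟨lift_c' g χ, congrArg Hom.c k2⟩)

variable [𝒳.p.IsFibered] [𝒴.p.IsFibered]

theorem exists_lift (B : Tot F) {R : C} (f : R ⟶ 𝒳.p.obj B.x) :
    ∃ (A : Tot F) (φ : A ⟶ B), 𝒳.p.IsStronglyCartesian f φ.a ∧ 𝒴.p.IsStronglyCartesian f φ.c := by
  obtain ⟨x, a, ha⟩ : ∃ (x : 𝒳.obj) (a : x ⟶ B.x), 𝒳.p.IsStronglyCartesian f a :=
    ⟨_, IsPreFibered.pullbackMap (p := 𝒳.p) rfl f, inferInstance⟩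
  obtain ⟨y, c, hc⟩ : ∃ (y : 𝒴.obj) (c : y ⟶ B.y), 𝒴.p.IsStronglyCartesian f c :=
    ⟨_, IsPreFibered.pullbackMap (p := 𝒴.p) (base_y B) f, inferInstance⟩
  have := B.hb
  have hFa := hF f a ha
  have : 𝒴.p.IsHomLift (𝟙 R ≫ f) (c ≫ B.b) := by
    rw [Category.id_comp]; exact IsHomLift.comp_lift_id_right' 𝒴.p f c (𝒳.p.obj B.x) B.b
  obtain ⟨b, ⟨hb, eb⟩, -⟩ := IsStronglyCartesian.universal_property 𝒴.p f (F.map a) (𝟙 R) _ rfl (c ≫ B.b)
  exact ⟨⟨x, y, b, (IsHomLift.domain_eq 𝒳.p f a).symm ▸ hb⟩, ⟨a, c, eb.symm⟩, ha, hc⟩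

theorem isFibered_tot : (tot F).p.IsFibered :=
  Functor.IsFibered.of_exists_isStronglyCartesian fun B R f => by
    obtain ⟨A, φ, ha, hc⟩ := exists_lift hF B f
    exact ⟨A, φ, isStronglyCartesian_of_components hF f φ ha hc⟩

theorem components_of_isStronglyCartesian {A B : Tot F} {R S : C} (f : R ⟶ S) (φ : A ⟶ B)
    (h : (tot F).p.IsStronglyCartesian f φ) :
    𝒳.p.IsStronglyCartesian f φ.a ∧ 𝒴.p.IsStronglyCartesian f φ.c := by
  obtain rfl : 𝒳.p.obj B.x = S := IsHomLift.codomain_eq (tot F).p f φ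
  obtain ⟨A₀, φ₀, ha, hc⟩ := exists_lift hF B f
  have := isStronglyCartesian_of_components hF f φ₀ ha hc
  let θ : A ≅ A₀ := IsCartesian.domainUniqueUpToIso (tot F).p f φ₀ φ
  have hθ : (tot F).p.IsHomLift (𝟙 R) θ.hom := inferInstanceAs ((tot F).p.IsHomLift (𝟙 R) (IsCartesian.domainUniqueUpToIso (tot F).p f φ₀ φ).hom)
  have e : θ.hom ≫ φ₀ = φ := IsCartesian.fac (tot F).p f φ₀ φ
  have := lift_a (𝟙 R) θ.hom
  have := lift_c' (𝟙 R) θ.hom
  have : IsIso θ.hom.a := inferInstanceAs (IsIso ((ret F).toFunctor.map θ.hom))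
  have : IsIso θ.hom.c := inferInstanceAs (IsIso ((proj F).toFunctor.map θ.hom))
  have := IsStronglyCartesian.of_isIso 𝒳.p (𝟙 R) θ.hom.a
  have := IsStronglyCartesian.of_isIso 𝒴.p (𝟙 R) θ.hom.c
  have h1 : 𝒳.p.IsStronglyCartesian (𝟙 R ≫ f) (θ.hom.a ≫ φ₀.a) := inferInstance
  have h2 : 𝒴.p.IsStronglyCartesian (𝟙 R ≫ f) (θ.hom.c ≫ φ₀.c) := inferInstance
  rw [Category.id_comp] at h1 h2
  exact ⟨(congrArg Hom.a e : θ.hom.a ≫ φ₀.a = φ.a) ▸ h1, (congrArg Hom.c e : θ.hom.c ≫ φ₀.c = φ.c) ▸ h2⟩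

theorem isFibered_proj : (proj F).toFunctor.IsFibered :=
  Functor.IsFibered.of_exists_isStronglyCartesian fun B y g => by
    change y ⟶ B.y at g
    let f : 𝒴.p.obj y ⟶ 𝒳.p.obj B.x := 𝒴.p.map g ≫ eqToHom (base_y B)
    have : 𝒴.p.IsHomLift f g := IsHomLift.of_fac 𝒴.p f g rfl (base_y B) (by simp [f])
    obtain ⟨x, a, ha⟩ : ∃ (x : 𝒳.obj) (a : x ⟶ B.x), 𝒳.p.IsStronglyCartesian f a :=
      ⟨_, IsPreFibered.pullbackMap (p := 𝒳.p) rfl f, inferInstance⟩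
    have := B.hb
    have hFa := hF f a ha
    have : 𝒴.p.IsHomLift (𝟙 (𝒴.p.obj y) ≫ f) (g ≫ B.b) := by
      rw [Category.id_comp]; exact IsHomLift.comp_lift_id_right' 𝒴.p f g (𝒳.p.obj B.x) B.b
    obtain ⟨b, ⟨hb, eb⟩, -⟩ :=
      IsStronglyCartesian.universal_property 𝒴.p f (F.map a) (𝟙 (𝒴.p.obj y)) _ rfl (g ≫ B.b)
    let A : Tot F := ⟨x, y, b, (IsHomLift.domain_eq 𝒳.p f a).symm ▸ hb⟩
    let φ : A ⟶ B := ⟨a, g, eb.symm⟩
    have hφl : (proj F).toFunctor.IsHomLift g φ := IsHomLift.map (proj F).toFunctor φ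
    refine ⟨A, φ, { universal_property' := fun {Z} h ψ hψ => ?_ }⟩
    change Z.y ⟶ y at h
    have e : ψ.c = h ≫ g := (IsHomLift.eq_of_isHomLift (proj F).toFunctor (h ≫ g) ψ).symm
    have hψl := lift_c ψ
    let k : 𝒳.p.obj Z.x ⟶ 𝒴.p.obj y := eqToHom (base_y Z).symm ≫ 𝒴.p.map h
    have hk : k ≫ f = 𝒳.p.map ψ.a := by
      simp only [k, f, Category.assoc, ← 𝒴.p.map_comp_assoc, ← e]
      rw [IsHomLift.fac' 𝒴.p (𝒳.p.map ψ.a) ψ.c]
      simp
    have : 𝒳.p.IsHomLift (k ≫ f) ψ.a := hk ▸ IsHomLift.map 𝒳.p ψ.a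
    obtain ⟨a', ⟨ha₁, ha₂⟩, hau⟩ := IsStronglyCartesian.universal_property 𝒳.p f a k _ rfl ψ.a
    have : 𝒴.p.IsHomLift k h := IsHomLift.of_fac 𝒴.p k h (base_y Z) rfl (by simp [k])
    have := Z.hb
    have : 𝒴.p.IsHomLift k (h ≫ b) := IsHomLift.comp_lift_id_right' 𝒴.p k h (𝒴.p.obj y) b
    have : 𝒴.p.IsHomLift k (Z.b ≫ F.map a') :=
      IsHomLift.comp_lift_id_left' 𝒴.p (𝒳.p.obj Z.x) Z.b k (F.map a')
    have hw : h ≫ b = Z.b ≫ F.map a' := by
      apply IsStronglyCartesian.ext 𝒴.p f (F.map a) k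
      rw [Category.assoc, eb, ← Category.assoc, ← e, ψ.w, Category.assoc, ← F.map_comp, ha₂]
    let X : Z ⟶ A := ⟨a', h, hw⟩
    refine ⟨X, ⟨IsHomLift.map (proj F).toFunctor X, hom_ext ha₂ e.symm⟩, fun χ ⟨k1, k2⟩ => ?_⟩
    have ec : χ.c = h := (IsHomLift.eq_of_isHomLift (proj F).toFunctor (a := Z) (b := A) h χ).symm
    refine hom_ext (hau _ ⟨?_, congrArg Hom.a k2⟩) ec
    have hl := lift_c χ
    have e₂ := IsHomLift.fac 𝒴.p (𝒳.p.map χ.a) χ.c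
    refine IsHomLift.of_fac 𝒳.p k χ.a rfl (IsHomLift.domain_eq 𝒳.p f a) ?_
    have hc : 𝒴.p.map χ.c = 𝒴.p.map h := congrArg _ ec
    rw [e₂, hc]
    simp [k, A]

end GrothLib.FibCat.Factorization
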