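import Groth.Agent.Lib.FibCat.Fp
import Groth.Agent.Lib.FibCat.Tower

/-!
# The slice is fibred in sets
-/

set_option backward.isDefEq.respectTransparency false
set_option backward.isDefEq.respectTransparency.types false

universe v u

open CategoryTheory CategoryTheory.Functor

namespace GrothLib.FibCat

variable {C : Type u} [Category.{v} C]

theorem isFibSet_overForget (U : C) : _root_.FibCat.IsFibSet (Over.forget U) := by
  refine ⟨isFibGrpd_overForget U, fun V => ?_⟩
  refine { subsingleton := fun A B => thin_fiber_overForget U V A B, eq_of_hom := fun {A B} φ => ?_ }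
  apply Subtype.ext
  obtain ⟨A, hA⟩ := A
  obtain ⟨B, hB⟩ := B
  obtain ⟨φ, hφ⟩ := φ
  have e : A.left = B.left := hA.trans hB.symm
  have h1 : φ.left = eqToHom e := (map_eq_eqToHom (Over.forget U) (R := V) φ).trans rfl
  have h2 := Over.w φ
  rw [h1] at h2
  clear h1 hφ φ
  obtain ⟨al, ⟨⟨⟩⟩, af⟩ := A
  obtain ⟨bl, ⟨⟨⟩⟩, bf⟩ := B
  change al = bl at e
  subst e
  change 𝟙 _ ≫ bf = af at h2
  rw [Category.id_comp] at h2
  subst h2
  rfl

end GrothLib.FibCat
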