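import Groth.Prelude.Def_W4stkcategoriessitesFib

/-!
# The functor between categorical pullbacks induced by a morphism of cospans
-/

set_option backward.isDefEq.respectTransparency false
set_option backward.isDefEq.respectTransparency.types false

universe v u

open CategoryTheory CategoryTheory.Limits

namespace GrothLib.FibCat

variable {X Y Z A B C : Type u} [Category.{v} X] [Category.{v} Y] [Category.{v} Z] [Category.{v} A] [Category.{v} B]
  [Category.{v} C] {H : X ⥤ Z} {I : Y ⥤ Z} {F : A ⥤ C} {G : B ⥤ C} (ψ : CatCospanTransform H I F G)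

theorem categoricalPullbackMap_iso (x : CategoricalPullback H I) :
    ((_root_.FibCat.categoricalPullbackMap ψ).obj x).iso.hom =
      ψ.squareLeft.iso.inv.app x.fst ≫ ψ.base.map x.iso.hom ≫ ψ.squareRight.iso.hom.app x.snd := by
  simp [_root_.FibCat.categoricalPullbackMap]
  rfl

theorem faithful_categoricalPullbackMap [ψ.left.Faithful] [ψ.right.Faithful] :
    (_root_.FibCat.categoricalPullbackMap ψ).Faithful :=
  ⟨fun {x y} f g h => CategoricalPullback.hom_ext
    (ψ.left.map_injective (congrArg CategoricalPullback.Hom.fst h))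
    (ψ.right.map_injective (congrArg CategoricalPullback.Hom.snd h))⟩

theorem full_categoricalPullbackMap [ψ.left.Full] [ψ.right.Full] [ψ.base.Faithful] :
    (_root_.FibCat.categoricalPullbackMap ψ).Full where
  map_surjective {x y} f := by
    obtain ⟨f₁, e₁⟩ : ∃ f₁ : x.fst ⟶ y.fst, ψ.left.map f₁ = f.fst := ψ.left.map_surjective f.fst
    obtain ⟨f₂, e₂⟩ : ∃ f₂ : x.snd ⟶ y.snd, ψ.right.map f₂ = f.snd := ψ.right.map_surjective f.snd
    refine ⟨⟨f₁, f₂, ψ.base.map_injective ?_⟩, CategoricalPullback.hom_ext e₁ e₂⟩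
    have hw := f.w
    rw [categoricalPullbackMap_iso, categoricalPullbackMap_iso, ← e₁, ← e₂] at hw
    have n₁ := ψ.squareLeft.iso.inv.naturality f₁
    have n₂ := ψ.squareRight.iso.hom.naturality f₂
    simp only [Functor.comp_obj, Functor.comp_map, Category.assoc] at n₁ n₂ hw
    rw [reassoc_of% n₁, ← n₂] at hw
    rw [cancel_epi] at hw
    simp only [← Category.assoc] at hw
    rw [cancel_mono] at hw
    simpa using hw

theorem essSurj_categoricalPullbackMap [ψ.left.EssSurj] [ψ.right.EssSurj] [ψ.base.Full] [ψ.base.Faithful] :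
    (_root_.FibCat.categoricalPullbackMap ψ).EssSurj where
  mem_essImage a := by
    let x := ψ.left.objPreimage a.fst
    let y := ψ.right.objPreimage a.snd
    let ex : ψ.left.obj x ≅ a.fst := ψ.left.objObjPreimageIso a.fst
    let ey : ψ.right.obj y ≅ a.snd := ψ.right.objObjPreimageIso a.snd
    let e := ψ.squareLeft.iso.app x ≪≫ F.mapIso ex ≪≫ a.iso ≪≫ (G.mapIso ey).symm ≪≫ (ψ.squareRight.iso.app y).symm
    let z : CategoricalPullback H I := ⟨x, y, (Functor.FullyFaithful.ofFullyFaithful ψ.base).preimageIso e⟩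
    have hz : ψ.base.map z.iso.hom = e.hom := by simp [z]
    refine ⟨z, ⟨CategoricalPullback.mkIso ex ey ?_⟩⟩
    rw [categoricalPullbackMap_iso, hz]
    simp [e, z]

end GrothLib.FibCat
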