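import Groth.Agent.Lib.FibCat.Strict
import Groth.Agent.Lib.FibCat.Cleavage
import Groth.Agent.Lib.FibCat.Basic

/-!
# Every fibred category is equivalent to a split one
-/

set_option backward.isDefEq.respectTransparency false
set_option backward.isDefEq.respectTransparency.types false

universe v u

open CategoryTheory CategoryTheory.Functor Opposite

namespace GrothLib.FibCat.Split

variable {C : Type u} [Category.{v} C] (𝒳 : BasedCategory.{v, max u v} C) [𝒳.p.IsFibered]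

/-- Formal inverse images over `U`. -/
abbrev Dat (U : C) : Type (max u v) := Σ T : C, (U ⟶ T) × 𝒳.p.Fiber T

/-- The chosen cleavage. -/
noncomputable abbrev K : _root_.FibCat.Cleavage 𝒳.p := _root_.FibCat.Cleavage.ofIsPreFibered 𝒳.p

variable {𝒳}

/-- The object of a formal inverse image. -/
noncomputable def o {U : C} (d : Dat 𝒳 U) : 𝒳.p.Fiber U := ((K 𝒳).inverseImage d.2.1).obj d.2.2

/-- Formal pullback. -/
def pull {R U : C} (f : R ⟶ U) (d : Dat 𝒳 U) : Dat 𝒳 R := ⟨d.1, f ≫ d.2.1, d.2.2⟩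

/-- The chosen lift to the object itself. -/
noncomputable abbrev lft {U : C} (d : Dat 𝒳 U) : (o d).1 ⟶ d.2.2.1 := (K 𝒳).lift d.2.2.2 d.2.1

instance {U : C} (d : Dat 𝒳 U) : 𝒳.p.IsStronglyCartesian d.2.1 (lft d) :=
  IsFibered.isStronglyCartesian_of_isCartesian 𝒳.p _ _

/-- The comparison over `f`. -/
noncomputable def α {R U : C} (f : R ⟶ U) (d : Dat 𝒳 U) : (o (pull f d)).1 ⟶ (o d).1 :=
  have : 𝒳.p.IsHomLift (f ≫ d.2.1) (lft (pull f d)) :=
    inferInstanceAs (𝒳.p.IsHomLift (pull f d).2.1 (lft (pull f d)))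
  IsStronglyCartesian.map 𝒳.p d.2.1 (lft d) (g := f) (f' := f ≫ d.2.1) rfl (lft (pull f d))

theorem α_lft {R U : C} (f : R ⟶ U) (d : Dat 𝒳 U) : α f d ≫ lft d = lft (pull f d) := by
  have : 𝒳.p.IsHomLift (f ≫ d.2.1) (lft (pull f d)) :=
    inferInstanceAs (𝒳.p.IsHomLift (pull f d).2.1 (lft (pull f d)))
  exact IsStronglyCartesian.fac 𝒳.p d.2.1 (lft d) (g := f) (f' := f ≫ d.2.1) rfl _

instance α_lift {R U : C} (f : R ⟶ U) (d : Dat 𝒳 U) : 𝒳.p.IsHomLift f (α f d) := by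
  have : 𝒳.p.IsHomLift (f ≫ d.2.1) (lft (pull f d)) :=
    inferInstanceAs (𝒳.p.IsHomLift (pull f d).2.1 (lft (pull f d)))
  exact IsStronglyCartesian.map_isHomLift 𝒳.p d.2.1 (lft d) (g := f) (f' := f ≫ d.2.1) rfl _

instance α_cartesian {R U : C} (f : R ⟶ U) (d : Dat 𝒳 U) : 𝒳.p.IsStronglyCartesian f (α f d) := by
  have : 𝒳.p.IsStronglyCartesian (f ≫ d.2.1) (α f d ≫ lft d) := by
    rw [α_lft]
    exact inferInstanceAs (𝒳.p.IsStronglyCartesian (pull f d).2.1 (lft (pull f d)))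
  exact IsStronglyCartesian.of_comp 𝒳.p (g := d.2.1) (ψ := lft d)

theorem lft_congr {U : C} {d d' : Dat 𝒳 U} (h : d = d') :
    lft d = eqToHom (congrArg (fun e => (o e).1) h) ≫ lft d' ≫ eqToHom (by subst h; rfl) := by
  subst h; simp

theorem eqToHom_lift {U : C} {d d' : Dat 𝒳 U} (h : d = d') :
    𝒳.p.IsHomLift (𝟙 U) (eqToHom (congrArg (fun e => (o e).1) h)) :=
  IsHomLift.eqToHom_domain_lift_id _ (o d).2

theorem pull_id {U : C} (d : Dat 𝒳 U) : pull (𝟙 U) d = d := by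
  obtain ⟨T, g, x⟩ := d
  simp [pull]

theorem pull_comp {R S U : C} (f : S ⟶ U) (g : R ⟶ S) (d : Dat 𝒳 U) : pull (g ≫ f) d = pull g (pull f d) := by
  obtain ⟨T, k, x⟩ := d
  simp [pull]

theorem α_id {U : C} (d : Dat 𝒳 U) :
    α (𝟙 U) d = eqToHom (congrArg (fun e => (o e).1) (pull_id d)) := by
  have := eqToHom_lift (pull_id d)
  refine IsCartesian.ext 𝒳.p d.2.1 (lft d) _ _ ?_
  rw [α_lft, lft_congr (pull_id d)]
  simp

theorem α_comp {R S U : C} (f : S ⟶ U) (g : R ⟶ S) (d : Dat 𝒳 U) :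
    α g (pull f d) ≫ α f d =
      eqToHom (congrArg (fun e => (o e).1) (pull_comp f g d).symm) ≫ α (g ≫ f) d := by
  have := eqToHom_lift (pull_comp f g d).symm
  refine IsStronglyCartesian.ext 𝒳.p d.2.1 (lft d) (g ≫ f) ?_
  rw [Category.assoc, Category.assoc, α_lft, α_lft]
  erw [α_lft]
  rw [lft_congr (pull_comp f g d).symm]
  simp

/-- Pullback of morphisms. -/
noncomputable def pullHom {R U : C} (f : R ⟶ U) {d d' : Dat 𝒳 U} (m : o d ⟶ o d') :
    o (pull f d) ⟶ o (pull f d') :=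
  have : 𝒳.p.IsHomLift f (α f d ≫ Fiber.fiberInclusion.map m) := IsHomLift.comp_lift_id_right 𝒳.p f _ _
  Fiber.homMk 𝒳.p R (IsCartesian.map 𝒳.p f (α f d') (α f d ≫ Fiber.fiberInclusion.map m))

theorem pullHom_α {R U : C} (f : R ⟶ U) {d d' : Dat 𝒳 U} (m : o d ⟶ o d') :
    Fiber.fiberInclusion.map (pullHom f m) ≫ α f d' = α f d ≫ Fiber.fiberInclusion.map m := by
  have : 𝒳.p.IsHomLift f (α f d ≫ Fiber.fiberInclusion.map m) := IsHomLift.comp_lift_id_right 𝒳.p f _ _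
  exact IsCartesian.fac 𝒳.p f (α f d') (α f d ≫ Fiber.fiberInclusion.map m)

theorem hom_ext {R U : C} (f : R ⟶ U) {e : Dat 𝒳 R} {d' : Dat 𝒳 U} {φ ψ : o e ⟶ o (pull f d')}
    (h : Fiber.fiberInclusion.map φ ≫ α f d' = Fiber.fiberInclusion.map ψ ≫ α f d') : φ = ψ :=
  Fiber.hom_ext (IsCartesian.ext 𝒳.p f (α f d') _ _ h)

variable (𝒳)

/-- The fibre category. -/
abbrev Cat₀ (U : C) := InducedCategory (𝒳.p.Fiber U) (o (𝒳 := 𝒳) (U := U))

/-- The pullback functor. -/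
noncomputable def pullFunctor {R U : C} (f : R ⟶ U) : Cat₀ 𝒳 U ⥤ Cat₀ 𝒳 R where
  obj d := pull f d
  map m := InducedCategory.homMk (pullHom f m.hom)
  map_id d := InducedCategory.hom_ext (hom_ext f (by
    change Fiber.fiberInclusion.map (pullHom f (𝟙 (o d))) ≫ α f d = Fiber.fiberInclusion.map (𝟙 (o (pull f d))) ≫ α f d
    rw [pullHom_α, Functor.map_id, Functor.map_id]
    exact (Category.comp_id _).trans (Category.id_comp _).symm))
  map_comp {a b c} m n := InducedCategory.hom_ext (hom_ext f (by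
    change Fiber.fiberInclusion.map (pullHom f (m.hom ≫ n.hom)) ≫ α f c =
      Fiber.fiberInclusion.map (pullHom f m.hom ≫ pullHom f n.hom) ≫ α f c
    rw [pullHom_α, Functor.map_comp, Functor.map_comp, Category.assoc, pullHom_α, reassoc_of% (pullHom_α f m.hom)]))

theorem eqToHom_hom {U : C} {a b : Cat₀ 𝒳 U} (h : a = b) :
    Fiber.fiberInclusion.map (eqToHom h : a ⟶ b).hom = eqToHom (congrArg (fun e => (o e).1) h) := by
  subst h; rfl

theorem conj_hom {U : C} {a a' b b' : Cat₀ 𝒳 U} (h : a = a') (h' : b' = b) (m : a' ⟶ b') :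
    Fiber.fiberInclusion.map (eqToHom h ≫ m ≫ eqToHom h' : a ⟶ b).hom =
      eqToHom (congrArg (fun e => (o e).1) h) ≫ Fiber.fiberInclusion.map m.hom ≫
        eqToHom (congrArg (fun e => (o e).1) h') := by
  subst h h'; simp

/-- The strict functor. -/
noncomputable def F : Cᵒᵖ ⥤ Cat.{v, max u v} where
  obj U := Cat.of (Cat₀ 𝒳 U.unop)
  map f := (pullFunctor 𝒳 f.unop).toCatHom
  map_id U := by
    refine Cat.Hom.ext (Functor.ext (fun d => pull_id d) (fun d d' m => InducedCategory.hom_ext ?_))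
    refine hom_ext (𝟙 U.unop) ?_
    erw [pullHom_α, conj_hom]
    erw [Category.assoc, Category.assoc, α_id d, α_id d', eqToHom_trans, eqToHom_refl, Category.comp_id]
    rfl
  map_comp {U S R} f g := by
    refine Cat.Hom.ext (Functor.ext (fun d => pull_comp f.unop g.unop d)
      (fun d d' m => InducedCategory.hom_ext (hom_ext (g.unop ≫ f.unop) ?_)))
    erw [pullHom_α, conj_hom]
    erw [Category.assoc, Category.assoc, ← α_comp, reassoc_of% (pullHom_α g.unop (pullHom f.unop m.hom)), pullHom_α]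
    rw [← Category.assoc (α _ _) (α _ _), α_comp]
    simp

theorem exists_equiv : ∃ E : 𝒳 ⥤ᵇ BasedCategory.ofFunctor (Pseudofunctor.CoGrothendieck.forget (F 𝒳).toPseudofunctor'),
    _root_.FibCat.IsEquivOver E := by
  obtain ⟨Ψ, hw, hobj, hfa, hfu⟩ := Strict.exists_functor (F := F 𝒳) 𝒳.p
    (fun U => inducedFunctor (o (𝒳 := 𝒳) (U := U))) (fun {R S} f x => α f x)
    (fun {R S} f x => by
      have := α_cartesian (𝒳 := 𝒳) f x
      exact IsStronglyCartesian.isCartesian_of_isStronglyCartesian 𝒳.p f (α f x))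
    (fun {R S} f {x y} m => pullHom_α f m.hom) (fun {U} x => ⟨_, α_id x⟩)
    (fun {R S T} f g x => ⟨_, α_comp f g x⟩)
  have := hfa fun U => inferInstanceAs (inducedFunctor (o (𝒳 := 𝒳) (U := U))).Faithful
  have := hfu fun U => inferInstanceAs (inducedFunctor (o (𝒳 := 𝒳) (U := U))).Full
  let E : BasedCategory.ofFunctor (Pseudofunctor.CoGrothendieck.forget (F 𝒳).toPseudofunctor') ⥤ᵇ 𝒳 :=
    { toFunctor := Ψ, w := hw }
  have hE : _root_.FibCat.IsEquivOver E := by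
    refine FFEssSurjOver.isEquivOver ⟨inferInstanceAs Ψ.Full, inferInstanceAs Ψ.Faithful, fun η => ?_⟩
    let d : Dat 𝒳 (𝒳.p.obj η) := ⟨_, 𝟙 _, ⟨η, rfl⟩⟩
    have : IsIso (lft d) := IsStronglyCartesian.isIso_of_base_isIso 𝒳.p (𝟙 (𝒳.p.obj η)) (lft d)
    refine ⟨Strict.mk (F := F 𝒳) (𝒳.p.obj η) d, eqToIso (hobj (𝒳.p.obj η) d) ≪≫ asIso (lft d), ?_⟩
    have : 𝒳.p.IsHomLift (𝟙 (𝒳.p.obj η)) (lft d) := inferInstanceAs (𝒳.p.IsHomLift d.2.1 (lft d))
    rw [Iso.trans_hom, eqToIso.hom, asIso_hom]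
    exact IsHomLift.comp_eqToHom_lift 𝒳.p _ _ _
  obtain ⟨E', hE', -, -⟩ := IsEquivOver.symm hE
  exact ⟨E', hE'⟩

end GrothLib.FibCat.Split
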