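import Groth.Prelude.Def_FibClv
import Mathlib.CategoryTheory.Bicategory.Functor.LocallyDiscrete

/-!
# The Grothendieck construction of a strict functor
-/

set_option backward.isDefEq.respectTransparency false
set_option backward.isDefEq.respectTransparency.types false

universe v₁ v₂ v₃ u₁ u₂ u₃

open CategoryTheory CategoryTheory.Functor Opposite Pseudofunctor

namespace GrothLib.FibCat.Strict

variable {𝒮 : Type u₁} [Category.{v₁} 𝒮] {F : 𝒮ᵒᵖ ⥤ Cat.{v₂, u₂}}

/-- Objects of the construction. -/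
abbrev mk (U : 𝒮) (x : F.obj (op U)) : CoGrothendieck F.toPseudofunctor' := ⟨U, x⟩

theorem map_id_obj {U : 𝒮} (x : F.obj (op U)) : (F.map (𝟙 U).op).toFunctor.obj x = x := by
  rw [op_id, F.map_id]; rfl

theorem map_comp_obj {R S T : 𝒮} (f : S ⟶ T) (g : R ⟶ S) (x : F.obj (op T)) :
    (F.map (g ≫ f).op).toFunctor.obj x = (F.map g.op).toFunctor.obj ((F.map f.op).toFunctor.obj x) := by
  rw [op_comp, F.map_comp]; rfl

theorem id_fiber {U : 𝒮} (x : F.obj (op U)) :
    (𝟙 (mk U x) : mk U x ⟶ mk U x).fiber = eqToHom (map_id_obj x).symm := by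
  simp [Cat.eqToHom_app]

theorem comp_fiber {R S T : 𝒮} {x : F.obj (op R)} {y : F.obj (op S)} {z : F.obj (op T)}
    (m : mk R x ⟶ mk S y) (n : mk S y ⟶ mk T z) :
    (m ≫ n).fiber = m.fiber ≫ (F.map m.base.op).toFunctor.map n.fiber ≫
      eqToHom (map_comp_obj n.base m.base z).symm := by
  simp [Cat.eqToHom_app]
  rfl

/-- The cartesian lift. -/
abbrev cart {R S : 𝒮} (f : R ⟶ S) (x : F.obj (op S)) : mk R ((F.map f.op).toFunctor.obj x) ⟶ mk S x :=
  ⟨f, 𝟙 _⟩

theorem eqToHom_mk {U : 𝒮} {x y : F.obj (op U)} (h : x = y) :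
    (eqToHom (congrArg (mk U) h) : mk U x ⟶ mk U y) = ⟨𝟙 U, eqToHom (h.trans (map_id_obj y).symm)⟩ := by
  subst h
  exact CoGrothendieck.Hom.ext _ _ rfl (by
    change (𝟙 (mk U x) : mk U x ⟶ mk U x).fiber = _
    rw [id_fiber]
    simp)

theorem cart_id {U : 𝒮} (f : U ⟶ U) (hf : f = 𝟙 U) (x : F.obj (op U)) :
    ∃ h : mk U ((F.map f.op).toFunctor.obj x) = mk U x, cart f x = eqToHom h := by
  subst hf
  refine ⟨congrArg (mk U) (map_id_obj x), ?_⟩
  rw [eqToHom_mk]
  refine CoGrothendieck.Hom.ext _ _ rfl ?_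
  simp
  exact map_id_obj x

theorem cart_comp {R S T : 𝒮} (f : S ⟶ T) (g : R ⟶ S) (k : R ⟶ T) (hk : k = g ≫ f) (x : F.obj (op T)) :
    ∃ h : mk R ((F.map g.op).toFunctor.obj ((F.map f.op).toFunctor.obj x)) = mk R ((F.map k.op).toFunctor.obj x),
      cart g ((F.map f.op).toFunctor.obj x) ≫ cart f x = eqToHom h ≫ cart k x := by
  subst hk
  refine ⟨congrArg (mk R) (map_comp_obj f g x).symm, ?_⟩
  rw [eqToHom_mk]
  refine CoGrothendieck.Hom.ext _ _ (Category.id_comp _).symm ?_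
  rw [comp_fiber, comp_fiber]
  simp [eqToHom_map]
  exact (map_comp_obj f g x).symm

theorem isSplitting_ofCoGrothendieck :
    (_root_.FibCat.Cleavage.ofCoGrothendieck F.toPseudofunctor').IsSplitting := by
  refine ⟨?_, ?_⟩
  · rintro S ⟨U, x⟩ ha
    obtain rfl : U = S := ha
    exact cart_id (𝟙 U ≫ eqToHom rfl) (by simp) x
  · rintro S T U f g ⟨V, x⟩ ha
    obtain rfl : V = S := ha
    obtain ⟨h, e⟩ := cart_comp (f ≫ eqToHom rfl) (g ≫ eqToHom rfl) ((g ≫ f) ≫ eqToHom rfl) (by simp) x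
    exact ⟨h, e⟩

/-- A fully faithful functor bijective on objects is an isomorphism of categories. -/
theorem exists_strict_inverse {𝒜 : Type u₁} {ℬ : Type u₃} [Category.{v₁} 𝒜] [Category.{v₃} ℬ] (E : 𝒜 ⥤ ℬ)
    [E.Full] [E.Faithful] (hE : Function.Bijective E.obj) : ∃ G : ℬ ⥤ 𝒜, G ⋙ E = 𝟭 ℬ ∧ E ⋙ G = 𝟭 𝒜 := by
  let e := Equiv.ofBijective _ hE
  have h : ∀ b, E.obj (e.symm b) = b := e.apply_symm_apply
  let G : ℬ ⥤ 𝒜 :=
    { obj := e.symm
      map := fun {a b} φ => E.preimage (eqToHom (h a) ≫ φ ≫ eqToHom (h b).symm)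
      map_id := fun a => E.map_injective (by simp)
      map_comp := fun φ ψ => E.map_injective (by simp) }
  refine ⟨G, Functor.ext h (fun a b φ => ?_), Functor.ext (fun a => e.symm_apply_apply a) (fun a b φ => ?_)⟩
  · change E.map (E.preimage _) = _
    rw [E.map_preimage]
    rfl
  · apply E.map_injective
    change E.map (E.preimage _) = _
    rw [E.map_preimage, E.map_comp, E.map_comp, eqToHom_map, eqToHom_map]
    rfl

section Total

variable {𝒳 : Type u₃} [Category.{v₃} 𝒳] (p : 𝒳 ⥤ 𝒮) (J : ∀ U, F.obj (op U) ⥤ p.Fiber U)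
  (l : ∀ {R S : 𝒮} (f : R ⟶ S) (x : F.obj (op S)),
    ((J R).obj ((F.map f.op).toFunctor.obj x)).1 ⟶ ((J S).obj x).1)
  (hl : ∀ {R S : 𝒮} (f : R ⟶ S) (x : F.obj (op S)), p.IsCartesian f (l f x))
  (hnat : ∀ {R S : 𝒮} (f : R ⟶ S) {x y : F.obj (op S)} (m : x ⟶ y),
    ((J R).map ((F.map f.op).toFunctor.map m)).1 ≫ l f y = l f x ≫ ((J S).map m).1)
  (hid : ∀ {U : 𝒮} (x : F.obj (op U)), ∃ h, l (𝟙 U) x = eqToHom h)
  (hcomp : ∀ {R S T : 𝒮} (f : S ⟶ T) (g : R ⟶ S) (x : F.obj (op T)),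
    ∃ h, l g ((F.map f.op).toFunctor.obj x) ≫ l f x = eqToHom h ≫ l (g ≫ f) x)

include hl hnat hid hcomp in
theorem exists_functor : ∃ Ψ : CoGrothendieck F.toPseudofunctor' ⥤ 𝒳,
    Ψ ⋙ p = CoGrothendieck.forget F.toPseudofunctor' ∧
    (∀ U x, Ψ.obj (mk U x) = ((J U).obj x).1) ∧
    ((∀ U, (J U).Faithful) → Ψ.Faithful) ∧ ((∀ U, (J U).Full) → Ψ.Full) := by
  let Ψ : CoGrothendieck F.toPseudofunctor' ⥤ 𝒳 :=
    { obj := fun a => ((J a.base).obj a.fiber).1
      map := fun {a b} m => ((J a.base).map m.fiber).1 ≫ l m.base b.fiber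
      map_id := fun ⟨U, x⟩ => by
        obtain ⟨h, e⟩ := hid x
        change Fiber.fiberInclusion.map ((J U).map _) ≫ l (𝟙 U) x = 𝟙 _
        rw [id_fiber, e]
        simp [eqToHom_map]
      map_comp := fun {a b c} m n => by
        obtain ⟨U, x⟩ := a
        obtain ⟨V, y⟩ := b
        obtain ⟨W, z⟩ := c
        obtain ⟨h, e⟩ := hcomp n.base m.base z
        have hn : Fiber.fiberInclusion.map ((J U).map ((F.map m.base.op).toFunctor.map n.fiber)) ≫ l m.base _ =
            l m.base y ≫ Fiber.fiberInclusion.map ((J V).map n.fiber) := hnat m.base n.fiber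
        change Fiber.fiberInclusion.map ((J U).map (m ≫ n).fiber) ≫ l (m.base ≫ n.base) z =
          (Fiber.fiberInclusion.map ((J U).map m.fiber) ≫ l m.base y) ≫
            Fiber.fiberInclusion.map ((J V).map n.fiber) ≫ l n.base z
        erw [comp_fiber]
        simp only [Functor.map_comp, Category.assoc, eqToHom_map]
        erw [← reassoc_of% hn, e] }
  have hmap : ∀ {a b : CoGrothendieck F.toPseudofunctor'} (m : a ⟶ b), p.IsHomLift m.base (Ψ.map m) := fun {a b} m => by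
    have := ((J a.base).map m.fiber).2
    have := hl m.base b.fiber
    exact inferInstanceAs (p.IsHomLift m.base (_ ≫ _))
  refine ⟨Ψ, Functor.ext (fun a => ((J a.base).obj a.fiber).2) (fun a b m => ?_), fun U x => rfl, fun hJ => ⟨?_⟩,
    fun hJ => ⟨?_⟩⟩
  · have := hmap m
    exact IsHomLift.fac' p m.base (Ψ.map m)
  · intro a b m m' e
    have h1 := hmap m
    have h2 := hmap m'
    rw [← e] at h2
    have hb : m.base = m'.base :=
      (IsHomLift.fac p m.base (Ψ.map m)).trans (IsHomLift.fac p m'.base (Ψ.map m)).symm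
    obtain ⟨f, φ⟩ := m
    obtain ⟨f', φ'⟩ := m'
    change f = f' at hb
    subst hb
    have := hl f b.fiber
    have e' : Fiber.fiberInclusion.map ((J a.base).map φ) ≫ l f b.fiber =
        Fiber.fiberInclusion.map ((J a.base).map φ') ≫ l f b.fiber := e
    have := (J a.base).map_injective (Fiber.hom_ext (IsCartesian.ext p f (l f b.fiber) _ _ e'))
    rw [this]
  · intro a b φ
    let f : a.base ⟶ b.base := eqToHom ((J a.base).obj a.fiber).2.symm ≫ p.map φ ≫ eqToHom ((J b.base).obj b.fiber).2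
    have : p.IsHomLift f φ :=
      IsHomLift.of_fac p f φ ((J a.base).obj a.fiber).2 ((J b.base).obj b.fiber).2 rfl
    have := hl f b.fiber
    obtain ⟨m, hm⟩ := (J a.base).map_surjective
      (Fiber.homMk p a.base (IsCartesian.map p f (l f b.fiber) φ) :
        (J a.base).obj a.fiber ⟶ (J a.base).obj ((F.map f.op).toFunctor.obj b.fiber))
    refine ⟨⟨f, m⟩, ?_⟩
    change Fiber.fiberInclusion.map ((J a.base).map m) ≫ l f b.fiber = φ
    rw [hm]
    exact IsCartesian.fac p f (l f b.fiber) φ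

end Total

end GrothLib.FibCat.Strict
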